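import Mathlib
import Cfsg.Prelude.Def_SevenCases
import Cfsg.Agent.OddHalf.Known
import Cfsg.Agent.SignalizersComponents.CompBasic
set_option linter.all false

/-!
# Components of `C_G(x) / O_{p'}(C_G(x))` in a K-proper group

* `isPGroup_center_of_subnormal`: the centre of a subnormal subgroup of a finite group with `O_{p'} = 1` is a
  `p`-group;
* `known_subquotient`: non-abelian simple sections of a quotient of a proper subgroup of a K-proper group are known;
* `known_component`: the simple quotient of a component of `C_G(x)/O_{p'}(C_G(x))` is a known simple group.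
-/

set_option autoImplicit false

namespace Cfsg.Agent.EvenType.KSection

open Subgroup Cfsg

universe u

/-- The centre of a subnormal subgroup of a finite group `X` with `O_{p'}(X) = 1` is a `p`-group. -/
theorem isPGroup_center_of_subnormal {X : Type*} [Group X] [Finite X] {p : ℕ} (hp : p.Prime)
    (hX : pPrimeCore p X = ⊥) {K : Subgroup X} (hK : K.IsSubnormal) : IsPGroup p ↥(center ↥K) := by
  have h1 : (pPrimeCore p K).map K.subtype = ⊥ := by
    rw [SignalizersComponents.CompBasic.map_subtype_pPrimeCore_of_subnormal p hK, hX, inf_bot_eq]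
  have h2 : pPrimeCore p K = ⊥ := (map_eq_bot_iff_of_injective _ K.subtype_injective).1 h1
  intro x
  obtain ⟨k, m, hm, hkm⟩ := Nat.exists_eq_pow_mul_and_not_dvd (orderOf_pos x).ne' p hp.ne_one
  refine ⟨k, ?_⟩
  have hc : ((x : K) ^ p ^ k) ∈ center K := (center K).pow_mem x.2 _
  have hN : (zpowers ((x : K) ^ p ^ k)).Normal := by
    refine ⟨fun a ha g => ?_⟩
    have h3 : a ∈ center K := (zpowers_le.2 hc) ha
    rw [mem_center_iff.1 h3 g, mul_assoc, mul_inv_cancel, mul_one]
    exact ha
  have ho : orderOf ((x : K) ^ p ^ k) = m := by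
    rw [orderOf_pow, Subgroup.orderOf_coe, hkm, Nat.gcd_eq_right (Dvd.intro _ rfl)]
    exact Nat.mul_div_cancel_left m (pow_pos hp.pos _)
  have h4 : zpowers ((x : K) ^ p ^ k) ≤ pPrimeCore p K := by
    refine Lib.Cores.le_pPrimeCore hN ?_
    rw [Nat.card_zpowers, ho]
    exact Nat.Coprime.symm ((Nat.Prime.coprime_iff_not_dvd hp).2 hm)
  rw [h2, le_bot_iff, zpowers_eq_bot] at h4
  exact Subtype.ext h4

/-- A non-abelian simple section of a quotient of a proper subgroup of a K-proper group is a known simple group. -/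
theorem known_subquotient {G : Type u} [Group G] (hK : IsKProper G) (C : Subgroup G) (hne : C ≠ ⊤)
    (N : Subgroup ↥C) [N.Normal] (K : Subgroup (↥C ⧸ N)) (Z : Subgroup ↥K) [Z.Normal]
    (hs : IsSimpleGroup (↥K ⧸ Z)) (hna : ¬ IsMulCommutative (↥K ⧸ Z)) :
    IsKnownSimple' (↥K ⧸ Z) := by
  -- the preimage of `K` in `C`
  let H : Subgroup ↥C := K.comap (QuotientGroup.mk' N)
  let f : ↥H →* ↥K := (QuotientGroup.mk' N).subgroupComap K
  have hf : Function.Surjective f := by
    rintro ⟨y, hy⟩
    obtain ⟨x, rfl⟩ := QuotientGroup.mk'_surjective N y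
    exact ⟨⟨x, hy⟩, rfl⟩
  let g : ↥H →* ↥K ⧸ Z := (QuotientGroup.mk' Z).comp f
  have hg : Function.Surjective g := (QuotientGroup.mk'_surjective Z).comp hf
  let e : ↥H ⧸ g.ker ≃* ↥K ⧸ Z := QuotientGroup.quotientKerEquivOfSurjective g hg
  have h1 : IsSimpleGroup (↥H ⧸ g.ker) := OddHalf.Known.isSimple_congr e.symm hs
  have h2 : ¬ IsMulCommutative (↥H ⧸ g.ker) := by
    intro h
    apply hna
    refine ⟨⟨fun a b => ?_⟩⟩
    apply e.symm.injective
    rw [map_mul, map_mul]
    exact h.is_comm.comm _ _
  exact OddHalf.Known.isKnownSimple'_congr e h2 (hK C hne H g.ker h1 h2)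

/-- The central quotient of a quasisimple group is not commutative. -/
theorem not_comm_of_quasisimple {K : Type*} [Group K] (h : IsQuasisimple K) :
    ¬ IsMulCommutative (K ⧸ center K) := by
  intro hc
  haveI := h.2
  haveI := h.1
  have hK : _root_.commutator K = ⊤ := Group.isPerfect_def.1 h.1
  have h1 : _root_.commutator (K ⧸ center K) = ⊤ := by
    rw [commutator_def, ← map_top_of_surjective _ (QuotientGroup.mk'_surjective (center K)), ← map_commutator,
      ← commutator_def, hK]
  have h2 : _root_.commutator (K ⧸ center K) = ⊥ := by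
    rw [commutator_def, commutator_eq_bot_iff_le_centralizer]
    intro x _ y _
    exact hc.is_comm.comm _ _
  rw [h2] at h1
  exact bot_ne_top h1

/-- The centralizer of a nontrivial element of a non-abelian simple group is proper. -/
theorem centralizer_ne_top {G : Type*} [Group G] [IsSimpleGroup G] (hG : ¬ IsMulCommutative G) {x : G}
    (hx : x ≠ 1) : centralizer ({x} : Set G) ≠ ⊤ := by
  intro h
  have hxc : x ∈ center G := by
    rw [mem_center_iff]
    intro g
    have : g ∈ centralizer ({x} : Set G) := by rw [h]; exact mem_top g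
    exact (mem_centralizer_singleton_iff.1 this)
  rcases (inferInstance : (center G).Normal).eq_bot_or_eq_top with h1 | h1
  · rw [h1, mem_bot] at hxc
    exact hx hxc
  · apply hG
    refine ⟨⟨fun a b => ?_⟩⟩
    have : b ∈ center G := by rw [h1]; exact mem_top b
    exact mem_center_iff.1 this a

/-- The simple quotient of a component of `C_G(x)/O_{p'}(C_G(x))` is a known simple group and its centre is a
`p`-group. -/
theorem known_component {G : Type u} [Group G] [Finite G] [IsSimpleGroup G] (hG : ¬ IsMulCommutative G)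
    (hK : IsKProper G) {p : ℕ} (hp : p.Prime) {x : G} (hx : orderOf x = p)
    (K : Subgroup (↥(centralizer ({x} : Set G)) ⧸ pPrimeCore p ↥(centralizer ({x} : Set G))))
    (hKc : IsComponent K) :
    IsKnownSimple' (↥K ⧸ center ↥K) ∧ IsPGroup p ↥(center ↥K) := by
  have hx1 : x ≠ 1 := by
    rintro rfl
    rw [orderOf_one] at hx
    exact hp.ne_one hx.symm
  exact ⟨known_subquotient hK _ (centralizer_ne_top hG hx1) _ K (center ↥K) hKc.2.2
    (not_comm_of_quasisimple hKc.2),
    isPGroup_center_of_subnormal hp (Lib.Cores.pPrimeCore_quotient_pPrimeCore p) hKc.1⟩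

end Cfsg.Agent.EvenType.KSection
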