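import Cfsg.Agent.OddHalf.Small.Crit
import Cfsg.Agent.KFacts.TwF4.Perf
import Cfsg.Agent.KFacts.TwF4.CentQ
import Cfsg.Agent.KFacts.TwF4.Full
import Cfsg.Agent.FastGrp
import Cfsg.Agent.Prune
set_option linter.all false
prune_inst 0x7f00000000000000000000000000000000000000000000000000000000000000000000000000000000000000000000000000000000000000000000000000000000000000000000000000000000000000003fffffffffffffffffffffffffffbeffbdffffffff
open scoped Cfsg.Agent.FastGrp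

/-!
# `²F₄(q)`, `q ≥ 8`, is of characteristic 2 type
-/

set_option autoImplicit false

namespace Cfsg.Agent.EvenType.ChevTwoF4

open Cfsg Cfsg.Lie
open Cfsg.Agent.OddHalf.Small.Crit
open Cfsg.Agent.SplitTwo Cfsg.Agent.SplitTwo.ZS Cfsg.Agent.TitsThree.RankTwoZ Cfsg.Agent.SplitTwo.RootSysZ
open Cfsg.Agent.KFacts.TwF4 Cfsg.Agent.KFacts.TwF4.Arc Cfsg.Agent.KFacts.TwF4.Inv Cfsg.Agent.KFacts.TwF4.SylU
open Cfsg.Agent.KFacts.TwF4.Perf

universe u

theorem eq_one_of_odd {G : Type*} [Group G] {U : Subgroup G} (hU : IsPGroup 2 ↥U) {y : G} (hy : y ∈ U)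
    (ho : Odd (orderOf y)) : y = 1 := by
  obtain ⟨k, hk⟩ := hU ⟨y, hy⟩
  have hk' : y ^ 2 ^ k = 1 := congrArg Subtype.val hk
  have h3 : orderOf y ∣ 2 ^ k := orderOf_dvd_of_pow_eq_one hk'
  have h5 : Nat.Coprime (orderOf y) (2 ^ k) := (Nat.coprime_two_right.mpr ho).pow_right k
  exact orderOf_eq_one_iff.mp (Nat.Coprime.eq_one_of_dvd h5 h3)

section coord

variable {F : Type*} [Field F] [Finite F] {σ : F →+* F} {G : Type u} [Group G] [Finite G] (S : Full σ G)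

theorem good_e (hR : S.R.p = 2) {u : F} (hu : u ≠ 0) : Good (S.e 2 0 u) := by
  have hz : S.e 2 0 u ∈ S.Zc 2 := S.mem_Zc.2 ⟨u, rfl⟩
  have hz1 : S.e 2 0 u ≠ 1 := fun h => hu (S.e_eq_one h).2
  refine ⟨S.Q, two_Q S hR, ?_, ?_⟩
  · intro g hg x hx
    refine Q_norm S ?_ hx
    rw [← S.centralizer_z hz hz1]
    exact Subgroup.mem_centralizer_singleton_iff.2 hg
  · intro y _ hyQ ho
    have h1 : y ∈ S.Zc 2 := by
      rw [← S.centralizer_Q, Subgroup.mem_centralizer_iff]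
      intro x hx
      exact (hyQ x hx).symm
    exact eq_one_of_odd (two_X S hR 4) (S.Zc_le 2 h1) ho

theorem good_o (hR : S.R.p = 2) {s : F} (hs : s ≠ 0) : Good (S.o 2 s) := by
  refine ⟨S.NO, two_NO S hR, ?_, ?_⟩
  · intro g hg x hx
    refine NO_norm S ?_ hx
    rw [← S.centralizer_o hs]
    exact Subgroup.mem_centralizer_singleton_iff.2 hg
  · intro y _ hyQ ho
    have h1 : y ∈ S.V5 := by
      rw [← S.centralizer_NO, Subgroup.mem_centralizer_iff]
      intro x hx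
      exact (hyQ x hx).symm
    exact eq_one_of_odd (two_NO S hR) (S.V5_le_NO h1) ho

theorem good (hF : ∃ c : Fˣ, c ≠ 1) (hR : S.R.p = 2) {t : G} (ht : orderOf t = 2) : Good t := by
  have h2 : t * t = 1 := by rw [← pow_two, ← ht, pow_orderOf_eq_one]
  have h1 : t ≠ 1 := by
    rintro rfl
    rw [orderOf_one] at ht
    omega
  have key : ∀ {x y : G}, Cj x y → Good y → Good x := by
    rintro x y ⟨k, hk⟩ hy
    have h := good_conj hy k⁻¹
    have e : k⁻¹ * y * k⁻¹⁻¹ = x := by rw [← hk]; group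
    rwa [e] at h
  rcases classes S hF hR h2 h1 with ⟨u, hu, hc⟩ | ⟨s, hs, hc⟩
  · refine key (hc.trans ⟨S.rot ^ 2, ?_⟩) (good_e S hR hu)
    rw [S.rotn_e]
    norm_num
  · refine key (hc.trans ⟨S.rot ^ 2, ?_⟩) (good_o S hR hs)
    rw [S.rotn_o]
    norm_num

end coord

/-- **`²F₄(q)`, `q ≥ 8`, is of characteristic 2 type.** -/
theorem charTwo {X : Type*} [Group X] [Finite X] (h : Iso2F4 X) : IsCharacteristicTwoType X := by
  obtain ⟨F, _, _, m, hm, hK, ⟨e⟩⟩ := h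
  obtain ⟨φ, hφ⟩ := Cfsg.Agent.ChevalleyStructure.TwF4.TwistedFix.exists_rln hK
  have := Cfsg.Agent.ChevalleyStructure.TwF4.Twisted.charP_two hK
  have hfin : Finite ↥(twistedF4 F (2 ^ m)) := inferInstance
  have hF : ∃ c : Fˣ, c ≠ 1 := by
    have h1 : 1 < Nat.card Fˣ := by
      rw [Nat.card_units, Nat.card_eq_fintype_card, hK]
      have : 2 ^ 3 ≤ 2 ^ (2 * m + 1) := Nat.pow_le_pow_right (by norm_num) (by omega)
      omega
    have h2 : Nontrivial Fˣ := Finite.one_lt_card_iff_nontrivial.1 h1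
    exact exists_ne 1
  obtain ⟨S, hS⟩ : ∃ S : Full φ ↥(twistedF4 F (2 ^ m)), S.R.p = 2 :=
    ⟨Cfsg.Agent.KFacts.TwF4.Inst.full hK hφ, rfl⟩
  refine isCharacteristicTwoType_of_equiv e.symm ?_ fun t ht => good S hF hS ht
  have h1 : S.e 2 0 1 ≠ 1 := fun h => one_ne_zero (S.e_eq_one h).2
  have h2 : IsPGroup 2 ↥(Subgroup.zpowers (S.e 2 0 1)) :=
    (two_X S hS 4).to_le (by rw [Subgroup.zpowers_le]; exact S.Zc_le 2 (S.mem_Zc.2 ⟨1, rfl⟩))
  have hfact : Fact (Nat.Prime 2) := ⟨Nat.prime_two⟩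
  obtain ⟨n, hn⟩ := IsPGroup.iff_card.1 h2
  rw [Nat.card_zpowers] at hn
  have h3 : n ≠ 0 := by
    rintro rfl
    rw [pow_zero, orderOf_eq_one_iff] at hn
    exact h1 hn
  rw [even_iff_two_dvd]
  refine dvd_trans ?_ (orderOf_dvd_natCard (S.e 2 0 1))
  rw [hn]
  exact dvd_pow_self 2 h3

end Cfsg.Agent.EvenType.ChevTwoF4
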