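import Cfsg.Agent.ChevalleyStructure.TwF4.Rel
import Cfsg.Prelude.Def_LieTwisted
import Cfsg.Agent.FourTwo.Classes
import Cfsg.Agent.FourTwo.Par
import Cfsg.Agent.FourTwo.Cent
import Cfsg.Agent.ChevalleyStructure.TwF4.BN
import Cfsg.Agent.S1074
import Cfsg.Agent.S1090
import Cfsg.Agent.S0308
import Cfsg.Agent.FourTwo.UCode
import Mathlib
import Cfsg.Agent.OddHalf.D4.Spor.Sheet
import Cfsg.Agent.OddHalf.Small.Crit
import Cfsg.Agent.FastGrp
import Cfsg.Agent.Prune
set_option linter.all false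

section
prune_inst 0x7ffcfefbaffcbddeffff7e7ffefddffffdfcffffffdffbfbfffdf5ffafdf6beffbe5fbafffec58ffaef6e2b630f87b53f9ffeeffef6bdc7ffffd5ff45fffff9fffffbfa951ff98be1ffc6ffffbf37fee7f3fffffffffffffffffffffffffffffffffffffffff

-- part: ChevalleyStructure/TwF4/TitsPerfect
section
prune_inst 0x10040000001000000000102000000010000002004000000080000009000041000400003030011001008cb06008006001000009420000000a008a00000400000401020000500c00100000404000000000000000000000000000000000000000000000000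
set_option linter.all false
open scoped Cfsg.Agent.FastGrp

/-!
`²F₄(2)`: the derived subgroup has index at most 2 and is perfect.
-/

set_option autoImplicit false

namespace Cfsg.Agent.ChevalleyStructure.TwF4.TitsPerfect

open Cfsg.Lie Cfsg.Agent.ChevalleyStructure.TwF4.Bits Cfsg.Agent.ChevalleyStructure.TwF4.Tables
open Cfsg.Agent.ChevalleyStructure.TwF4.Rel

/-! ### abstract part -/

section Abstract

variable {G : Type*} [Group G]

/-- the relations used between generators `a A c C` of `²F₄(2)` -/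
structure Relations (a A c C : G) (n₁ n₂ y2 y2' y4 y4' y6 y6' y3 y5 y7 : G) : Prop where
  top : Subgroup.closure {a, A, c, C} = ⊤
  hA : n₁ * a * n₁⁻¹ = A
  hC : n₂ * c * n₂⁻¹ = C
  hn₂ : n₂ = (c * c) * (C * C * C) * c
  h2 : n₁ * c * n₁⁻¹ = y2
  h2' : n₁ * (c * c) * n₁⁻¹ = y2'
  h6 : n₂ * y2 * n₂⁻¹ = y6
  h6' : n₂ * y2' * n₂⁻¹ = y6'
  h4 : n₁ * y6 * n₁⁻¹ = y4
  h4' : n₁ * y6' * n₁⁻¹ = y4'
  h7 : n₂ * a * n₂⁻¹ = y7
  h3 : n₁ * y7 * n₁⁻¹ = y3
  h5 : n₂ * y3 * n₂⁻¹ = y5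
  r1 : a⁻¹ * y6'⁻¹ * a * y6' = y4'
  r2 : y2⁻¹ * y4⁻¹ * y2 * y4 = y3
  r3 : y2'⁻¹ * (c * c)⁻¹ * y2' * (c * c) = y4' * y5 * y6'

variable {a A c C n₁ n₂ y2 y2' y4 y4' y6 y6' y3 y5 y7 : G}

theorem index_dvd_two (h : Relations a A c C n₁ n₂ y2 y2' y4 y4' y6 y6' y3 y5 y7)
    (N : Subgroup G) [hN : N.Normal] (ha : a ∈ N) (hc : c * c ∈ N) : N.index ∣ 2 := by
  have hA : A ∈ N := h.hA ▸ hN.conj_mem a ha n₁
  have hCC : C * C ∈ N := by
    have h1 : C * C = n₂ * (c * c) * n₂⁻¹ := by rw [← h.hC]; group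
    rw [h1]
    exact hN.conj_mem _ hc _
  let π := QuotientGroup.mk' N
  have e1 : ∀ x : G, x ∈ N → π x = 1 := fun x hx => (QuotientGroup.eq_one_iff x).2 hx
  have hπc : π c * π c = 1 := by rw [← map_mul]; exact e1 _ hc
  have hπC : π C * π C = 1 := by rw [← map_mul]; exact e1 _ hCC
  have hcC : π C = π c := by
    have h1 : π n₂ = π C * π c := by
      rw [h.hn₂]
      simp only [map_mul]
      rw [hπc, hπC, one_mul, one_mul]
    have h2 : π n₂ * π c * (π n₂)⁻¹ = π C := by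
      rw [← map_inv, ← map_mul, ← map_mul, h.hC]
    rw [h1] at h2
    have h3 : π C * π c * π c * (π C * π c)⁻¹ = (π c)⁻¹ * (π C)⁻¹ * π C := by
      rw [mul_assoc (π C), hπc, mul_one]
      have h4 : (π C)⁻¹ = π C := by rw [inv_eq_iff_mul_eq_one, hπC]
      have h5 : (π c)⁻¹ = π c := by rw [inv_eq_iff_mul_eq_one, hπc]
      rw [mul_inv_rev, h4, h5]
      have h6 := h2
      rw [mul_assoc (π C), hπc, mul_one, mul_inv_rev, h4, h5] at h6
      -- h6 : π C * (π c * π C) = π C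
      have h7 : π c * π C = 1 := by
        have := mul_left_cancel (a := π C) (b := π c * π C) (c := 1) (by rw [h6, mul_one])
        exact this
      rw [h6, h7, one_mul]
    have h8 := h2.symm.trans h3
    rw [mul_assoc, inv_mul_cancel, mul_one] at h8
    rw [h8, inv_eq_iff_mul_eq_one, hπc]
  have hgen : ∀ q : G ⧸ N, q ∈ Subgroup.zpowers (π c) := by
    intro q
    obtain ⟨g, rfl⟩ := QuotientGroup.mk'_surjective N q
    have hg : g ∈ Subgroup.closure {a, A, c, C} := by rw [h.top]; trivial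
    have hle : Subgroup.closure {a, A, c, C} ≤ (Subgroup.zpowers (π c)).comap π := by
      rw [Subgroup.closure_le]
      intro x hx
      simp only [Set.mem_insert_iff, Set.mem_singleton_iff] at hx
      show π x ∈ Subgroup.zpowers (π c)
      rcases hx with hx | hx | hx | hx
      · rw [hx, e1 _ ha]; exact one_mem _
      · rw [hx, e1 _ hA]; exact one_mem _
      · rw [hx]; exact Subgroup.mem_zpowers _
      · rw [hx, hcC]; exact Subgroup.mem_zpowers _
    exact hle hg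
  have h1 : Nat.card (G ⧸ N) = orderOf (π c) := by
    rw [← Nat.card_zpowers]
    refine Nat.card_congr ⟨fun q => ⟨q, hgen q⟩, fun q => q.1, fun q => rfl, fun q => rfl⟩
  rw [Subgroup.index, h1]
  exact orderOf_dvd_of_pow_eq_one (by rw [pow_two, hπc])

theorem mem_commutator (h : Relations a A c C n₁ n₂ y2 y2' y4 y4' y6 y6' y3 y5 y7)
    (N : Subgroup G) [hN : N.Normal] : (y3 ∈ N → a ∈ N) ∧ (y4' ∈ N → c * c ∈ N) ∧
      (c * c ∈ N → y2' ∈ N ∧ y4' ∈ N ∧ y6' ∈ N) ∧ (y5 ∈ N → a ∈ N) := by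
  have cj : ∀ x g : G, g * x * g⁻¹ ∈ N → x ∈ N := by
    intro x g hx
    have := hN.conj_mem _ hx g⁻¹
    simpa [mul_assoc] using this
  have h31 : y3 ∈ N → a ∈ N := by
    intro h3
    rw [← h.h3] at h3
    have h4 := cj _ _ h3
    rw [← h.h7] at h4
    exact cj _ _ h4
  refine ⟨h31, ?_, ?_, ?_⟩
  · intro h4
    rw [← h.h4'] at h4
    have h5 := cj _ _ h4
    rw [← h.h6'] at h5
    have h6 := cj _ _ h5
    rw [← h.h2'] at h6
    exact cj _ _ h6
  · intro hc
    have h1 : y2' ∈ N := h.h2' ▸ hN.conj_mem _ hc _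
    have h2 : y6' ∈ N := h.h6' ▸ hN.conj_mem _ h1 _
    exact ⟨h1, h.h4' ▸ hN.conj_mem _ h2 _, h2⟩
  · intro h5
    rw [← h.h5] at h5
    exact h31 (cj _ _ h5)

theorem comm_mem {H K : Subgroup G} {x y : G} (hx : x ∈ H) (hy : y ∈ K) :
    x⁻¹ * y⁻¹ * x * y ∈ ⁅H, K⁆ := by
  have := Subgroup.commutator_mem_commutator (inv_mem hx) (inv_mem hy)
  rw [commutatorElement_def, inv_inv, inv_inv] at this
  exact this

theorem mem_derived (h : Relations a A c C n₁ n₂ y2 y2' y4 y4' y6 y6' y3 y5 y7) :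
    a ∈ commutator G ∧ c * c ∈ commutator G := by
  have hm := mem_commutator h (commutator G)
  refine ⟨hm.1 ?_, hm.2.1 ?_⟩
  · rw [← h.r2]
    exact comm_mem (Subgroup.mem_top _) (Subgroup.mem_top _)
  · rw [← h.r1]
    exact comm_mem (Subgroup.mem_top _) (Subgroup.mem_top _)

theorem mem_derived_two (h : Relations a A c C n₁ n₂ y2 y2' y4 y4' y6 y6' y3 y5 y7) :
    a ∈ ⁅commutator G, commutator G⁆ ∧ c * c ∈ ⁅commutator G, commutator G⁆ := by
  have hd := mem_derived h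
  have hm := mem_commutator h (commutator G)
  have hm2 := mem_commutator h ⁅commutator G, commutator G⁆
  obtain ⟨h2, h4, h6⟩ := hm.2.2.1 hd.2
  have hcc : c * c ∈ ⁅commutator G, commutator G⁆ := by
    refine hm2.2.1 ?_
    rw [← h.r1]
    exact comm_mem hd.1 h6
  refine ⟨hm2.2.2.2 ?_, hcc⟩
  obtain ⟨k2, k4, k6⟩ := hm2.2.2.1 hcc
  have h1 : y4' * y5 * y6' ∈ ⁅commutator G, commutator G⁆ := by
    rw [← h.r3]
    exact comm_mem h2 hd.2
  have h7 : y5 = y4'⁻¹ * (y4' * y5 * y6') * y6'⁻¹ := by group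
  rw [h7]
  exact mul_mem (mul_mem (inv_mem k4) h1) (inv_mem k6)

theorem index_commutator_dvd (h : Relations a A c C n₁ n₂ y2 y2' y4 y4' y6 y6' y3 y5 y7) :
    (commutator G).index ∣ 2 := by
  have hd := mem_derived h
  exact index_dvd_two h _ hd.1 hd.2

theorem index_derived_two_dvd (h : Relations a A c C n₁ n₂ y2 y2' y4 y4' y6 y6' y3 y5 y7) :
    (⁅commutator G, commutator G⁆ : Subgroup G).index ∣ 2 := by
  have hd := mem_derived_two h
  exact index_dvd_two h _ hd.1 hd.2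

/-- if the derived subgroup has index `2`, it is perfect -/
theorem derived_two_eq (h : Relations a A c C n₁ n₂ y2 y2' y4 y4' y6 y6' y3 y5 y7)
    (h2 : (commutator G).index = 2) : ⁅commutator G, commutator G⁆ = commutator G := by
  have hle : ⁅commutator G, commutator G⁆ ≤ commutator G :=
    Subgroup.commutator_le_left _ _
  have h1 := index_derived_two_dvd h
  have h3 := Subgroup.relIndex_mul_index hle
  rw [h2] at h3
  have h4 : (⁅commutator G, commutator G⁆ : Subgroup G).relIndex (commutator G) = 1 := by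
    have h5 : (⁅commutator G, commutator G⁆ : Subgroup G).relIndex (commutator G) * 2 ∣ 1 * 2 := by
      rw [h3, one_mul]; exact h1
    exact Nat.dvd_one.1 (Nat.dvd_of_mul_dvd_mul_right (by norm_num) h5)
  exact le_antisymm hle (Subgroup.relIndex_eq_one.1 h4)

end Abstract

/-! ### the concrete words -/

/-- `²F₄(2)` -/
abbrev G2 : Subgroup (GL chevF4.Idx (ZMod 2)) := twistedF4 (ZMod 2) 1

/-- product of the `x_r(1)`, `r ∈ l` -/
def wd (l : List ℕ) : GL chevF4.Idx (ZMod 2) := W (l.map fun r => (r, (1 : ZMod 2)))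

theorem wd_append (l l' : List ℕ) : wd l * wd l' = wd (l ++ l') := by
  unfold wd
  rw [List.map_append, W_append]

theorem wd_cons (r : ℕ) (l : List ℕ) : wd (r :: l) = X r 1 * wd l := by
  unfold wd
  rw [List.map_cons, W_cons]

theorem wd_nil : wd [] = 1 := rfl

theorem wd_inv (l : List ℕ) : (wd l)⁻¹ = wd l.reverse := by
  induction l with
  | nil => rw [wd_nil, inv_one]; rfl
  | cons r l ih =>
    rw [wd_cons, mul_inv_rev, ih, X_inv, List.reverse_cons, ← wd_append, wd_cons, wd_nil, mul_one]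

theorem wd_eq (l l' : List ℕ) (h : chkWord (l.map fun r => (r, 0, 0)) (l'.map fun r => (r, 0, 0)) = true) :
    wd l = wd l' := by
  have h1 := W_eq_of_chkWord (K := ZMod 2) _ _ h 1 1
  have e : ∀ l : List ℕ, wordK (1 : ZMod 2) 1 (l.map fun r => (r, 0, 0)) =
      l.map fun r => (r, (1 : ZMod 2)) := by
    intro l
    simp [wordK]
  rw [e, e] at h1
  exact h1

/-- `x_{p₁}(1) x_{p₄}(1)` -/
def gA : GL chevF4.Idx (ZMod 2) := wd [33, 24]
/-- `x_{-p₁}(1) x_{-p₄}(1)` -/
def gA' : GL chevF4.Idx (ZMod 2) := wd [14, 23]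
/-- `x_{p₂}(1) x_{p₃}(1) x_{p₂+p₃}(1)` -/
def gC : GL chevF4.Idx (ZMod 2) := wd [27, 25, 28]
/-- `x_{-p₂}(1) x_{-p₃}(1) x_{-p₂-p₃}(1)` -/
def gC' : GL chevF4.Idx (ZMod 2) := wd [20, 22, 19]

theorem word_mem (w : List (ℕ × ZMod 2)) (hw : w ∈ f4Words (ZMod 2) 1) : W w ∈ G2 :=
  Subgroup.subset_closure ⟨w, hw, coe_W w⟩

theorem gA_mem : gA ∈ G2 := by
  have h := word_mem [(33, 1), (24, 1)] (Or.inl ⟨1, Or.inl (by simp [f4PairWord, f4p1, f4p4])⟩)
  exact h

theorem gA'_mem : gA' ∈ G2 := by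
  have h := word_mem [(14, 1), (23, 1)] (Or.inl ⟨1, Or.inr (by simp [f4PairWord, f4m1, f4m4])⟩)
  exact h

theorem gC_mem : gC ∈ G2 := by
  have h := word_mem (b2ClassWord 1 f4a f4b f4ab f4aab 1 0) (Or.inr ⟨1, 0, Or.inl rfl⟩)
  have e : W (b2ClassWord 1 f4a f4b f4ab f4aab 1 (0 : ZMod 2)) = gC := by
    unfold b2ClassWord gC wd f4a f4b f4ab f4aab
    simp [W_cons, X_zero]
  exact e ▸ h

theorem gC'_mem : gC' ∈ G2 := by
  have h := word_mem (b2ClassWord 1 f4ma f4mb f4mab f4maab 1 0) (Or.inr ⟨1, 0, Or.inr rfl⟩)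
  have e : W (b2ClassWord 1 f4ma f4mb f4mab f4maab 1 (0 : ZMod 2)) = gC' := by
    unfold b2ClassWord gC' wd f4ma f4mb f4mab f4maab
    simp [W_cons, X_zero]
  exact e ▸ h

theorem gC_sq : gC * gC = wd [28, 30] := by
  unfold gC
  rw [wd_append]
  exact wd_eq _ _ (by decide +kernel)

theorem gC'_sq : gC' * gC' = wd [19, 17] := by
  unfold gC'
  rw [wd_append]
  exact wd_eq _ _ (by decide +kernel)

theorem gC_cube : gC * gC * gC = wd [27, 25, 30] := by
  unfold gC
  rw [wd_append, wd_append]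
  exact wd_eq _ _ (by decide +kernel)

theorem gC'_cube : gC' * gC' * gC' = wd [20, 22, 17] := by
  unfold gC'
  rw [wd_append, wd_append]
  exact wd_eq _ _ (by decide +kernel)

theorem zmod2 (t : ZMod 2) : t = 0 ∨ t = 1 := by
  revert t
  decide

theorem G2_le : G2 ≤ Subgroup.closure {gA, gA', gC, gC'} := by
  set H := Subgroup.closure {gA, gA', gC, gC'} with hH
  have hA : gA ∈ H := Subgroup.subset_closure (by simp)
  have hA' : gA' ∈ H := Subgroup.subset_closure (by simp)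
  have hC : gC ∈ H := Subgroup.subset_closure (by simp)
  have hC' : gC' ∈ H := Subgroup.subset_closure (by simp)
  show Subgroup.closure _ ≤ H
  rw [Subgroup.closure_le]
  rintro g ⟨w, hw, hg⟩
  have hg' : g = W w := Units.ext (by rw [hg, coe_W])
  subst hg'
  show W w ∈ H
  rcases hw with ⟨t, rfl | rfl⟩ | ⟨t, u, rfl | rfl⟩
  · rcases zmod2 t with rfl | rfl
    · simp [f4PairWord, W_cons, X_zero]
    · have e : W (f4PairWord 1 f4p1 f4p4 (1 : ZMod 2)) = gA := by
        simp [f4PairWord, f4p1, f4p4, gA, wd]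
      rw [e]; exact hA
  · rcases zmod2 t with rfl | rfl
    · simp [f4PairWord, W_cons, X_zero]
    · have e : W (f4PairWord 1 f4m1 f4m4 (1 : ZMod 2)) = gA' := by
        simp [f4PairWord, f4m1, f4m4, gA', wd]
      rw [e]; exact hA'
  · rcases zmod2 t with rfl | rfl <;> rcases zmod2 u with rfl | rfl
    · simp [b2ClassWord, W_cons, X_zero]
    · have e : W (b2ClassWord 1 f4a f4b f4ab f4aab (0 : ZMod 2) 1) = gC * gC := by
        rw [gC_sq]
        simp [b2ClassWord, f4a, f4b, f4ab, f4aab, wd, W_cons, X_zero]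
      rw [e]; exact mul_mem hC hC
    · have e : W (b2ClassWord 1 f4a f4b f4ab f4aab (1 : ZMod 2) 0) = gC := by
        simp [b2ClassWord, f4a, f4b, f4ab, f4aab, gC, wd, W_cons, X_zero]
      rw [e]; exact hC
    · have e : W (b2ClassWord 1 f4a f4b f4ab f4aab (1 : ZMod 2) 1) = gC * gC * gC := by
        rw [gC_cube]
        have h0 : (1 : ZMod 2) + 1 = 0 := by decide
        simp [b2ClassWord, f4a, f4b, f4ab, f4aab, wd, W_cons, X_zero, h0]
      rw [e]; exact mul_mem (mul_mem hC hC) hC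
  · rcases zmod2 t with rfl | rfl <;> rcases zmod2 u with rfl | rfl
    · simp [b2ClassWord, W_cons, X_zero]
    · have e : W (b2ClassWord 1 f4ma f4mb f4mab f4maab (0 : ZMod 2) 1) = gC' * gC' := by
        rw [gC'_sq]
        simp [b2ClassWord, f4ma, f4mb, f4mab, f4maab, wd, W_cons, X_zero]
      rw [e]; exact mul_mem hC' hC'
    · have e : W (b2ClassWord 1 f4ma f4mb f4mab f4maab (1 : ZMod 2) 0) = gC' := by
        simp [b2ClassWord, f4ma, f4mb, f4mab, f4maab, gC', wd, W_cons, X_zero]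
      rw [e]; exact hC'
    · have e : W (b2ClassWord 1 f4ma f4mb f4mab f4maab (1 : ZMod 2) 1) = gC' * gC' * gC' := by
        rw [gC'_cube]
        have h0 : (1 : ZMod 2) + 1 = 0 := by decide
        simp [b2ClassWord, f4ma, f4mb, f4mab, f4maab, wd, W_cons, X_zero, h0]
      rw [e]; exact mul_mem (mul_mem hC' hC') hC'

/-- `n₁` as a word -/
theorem n1_word : gA * gA' * gA = wd [33, 24, 14, 23, 33, 24] := by
  unfold gA gA'
  rw [wd_append, wd_append]
  exact wd_eq _ _ (by decide +kernel)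

/-- `n₂` as a word -/
theorem n2_word : (gC * gC) * (gC' * gC' * gC') * gC = wd [28, 30, 20, 22, 17, 27, 25, 28] := by
  rw [gC_sq, gC'_cube, gC, wd_append, wd_append]
  exact wd_eq _ _ (by decide +kernel)

theorem conj_n1 (l l' : List ℕ)
    (h : chkWord (([33, 24, 14, 23, 33, 24] ++ l ++ [24, 33, 23, 14, 24, 33]).map fun r => (r, 0, 0))
      (l'.map fun r => (r, 0, 0)) = true) :
    (gA * gA' * gA) * wd l * (gA * gA' * gA)⁻¹ = wd l' := by
  rw [n1_word, wd_inv, wd_append, wd_append]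
  exact wd_eq _ _ h

theorem conj_n2 (l l' : List ℕ)
    (h : chkWord (([28, 30, 20, 22, 17, 27, 25, 28] ++ l ++ [28, 25, 27, 17, 22, 20, 30, 28]).map
      fun r => (r, 0, 0)) (l'.map fun r => (r, 0, 0)) = true) :
    ((gC * gC) * (gC' * gC' * gC') * gC) * wd l * ((gC * gC) * (gC' * gC' * gC') * gC)⁻¹ = wd l' := by
  rw [n2_word, wd_inv, wd_append, wd_append]
  exact wd_eq _ _ h

/-- `gA` in the group -/
def sA : G2 := ⟨gA, gA_mem⟩
/-- `gA'` in the group -/
def sA' : G2 := ⟨gA', gA'_mem⟩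
/-- `gC` in the group -/
def sC : G2 := ⟨gC, gC_mem⟩
/-- `gC'` in the group -/
def sC' : G2 := ⟨gC', gC'_mem⟩
/-- `n₁` -/
def m1 : G2 := sA * sA' * sA
/-- `n₂` -/
def m2 : G2 := (sC * sC) * (sC' * sC' * sC') * sC
/-- `y₂(1,0)` -/
def y2 : G2 := m1 * sC * m1⁻¹
/-- `y₂(0,1)` -/
def y2' : G2 := m1 * (sC * sC) * m1⁻¹
/-- `y₆(1,0)` -/
def y6 : G2 := m2 * y2 * m2⁻¹
/-- `y₆(0,1)` -/
def y6' : G2 := m2 * y2' * m2⁻¹
/-- `y₄(1,0)` -/
def y4 : G2 := m1 * y6 * m1⁻¹
/-- `y₄(0,1)` -/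
def y4' : G2 := m1 * y6' * m1⁻¹
/-- `y₇(1)` -/
def y7 : G2 := m2 * sA * m2⁻¹
/-- `y₃(1)` -/
def y3 : G2 := m1 * y7 * m1⁻¹
/-- `y₅(1)` -/
def y5 : G2 := m2 * y3 * m2⁻¹

theorem coe_y2 : (y2 : GL chevF4.Idx (ZMod 2)) = wd [34, 26, 36] :=
  conj_n1 [27, 25, 28] _ (by decide +kernel)

theorem coe_y2' : (y2' : GL chevF4.Idx (ZMod 2)) = wd [36, 42] := by
  have h := conj_n1 [28, 30] [36, 42] (by decide +kernel)
  rw [← gC_sq] at h
  exact h

theorem coe_y6 : (y6 : GL chevF4.Idx (ZMod 2)) = wd [35, 31, 40] := by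
  have h := conj_n2 [34, 26, 36] [35, 31, 40] (by decide +kernel)
  rw [← coe_y2] at h
  exact h

theorem coe_y6' : (y6' : GL chevF4.Idx (ZMod 2)) = wd [40, 46] := by
  have h := conj_n2 [36, 42] [40, 46] (by decide +kernel)
  rw [← coe_y2'] at h
  exact h

theorem coe_y4 : (y4 : GL chevF4.Idx (ZMod 2)) = wd [29, 41, 44] := by
  have h := conj_n1 [35, 31, 40] [29, 41, 44] (by decide +kernel)
  rw [← coe_y6] at h
  exact h

theorem coe_y4' : (y4' : GL chevF4.Idx (ZMod 2)) = wd [44, 47] := by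
  have h := conj_n1 [40, 46] [44, 47] (by decide +kernel)
  rw [← coe_y6'] at h
  exact h

theorem coe_y7 : (y7 : GL chevF4.Idx (ZMod 2)) = wd [37, 32] :=
  conj_n2 [33, 24] _ (by decide +kernel)

theorem coe_y3 : (y3 : GL chevF4.Idx (ZMod 2)) = wd [38, 43] := by
  have h := conj_n1 [37, 32] [38, 43] (by decide +kernel)
  rw [← coe_y7] at h
  exact h

theorem coe_y5 : (y5 : GL chevF4.Idx (ZMod 2)) = wd [39, 45] := by
  have h := conj_n2 [38, 43] [39, 45] (by decide +kernel)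
  rw [← coe_y3] at h
  exact h

theorem closure_top : Subgroup.closure {sA, sA', sC, sC'} = (⊤ : Subgroup G2) := by
  rw [eq_top_iff]
  intro g _
  have h : (g : GL chevF4.Idx (ZMod 2)) ∈
      (Subgroup.closure {sA, sA', sC, sC'} : Subgroup G2).map G2.subtype := by
    have h1 : (Subgroup.closure {sA, sA', sC, sC'} : Subgroup G2).map G2.subtype =
        Subgroup.closure {gA, gA', gC, gC'} := by
      rw [MonoidHom.map_closure]
      congr 1
      simp only [Set.image_insert_eq, Set.image_singleton]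
      rfl
    rw [h1]
    exact G2_le g.2
  obtain ⟨x, hx, he⟩ := h
  have : x = g := Subtype.ext he
  exact this ▸ hx

theorem relations : Relations sA sA' sC sC' m1 m2 y2 y2' y4 y4' y6 y6' y3 y5 y7 where
  top := closure_top
  hA := Subtype.ext (conj_n1 [33, 24] [14, 23] (by decide +kernel))
  hC := Subtype.ext (conj_n2 [27, 25, 28] [20, 22, 19] (by decide +kernel))
  hn₂ := rfl
  h2 := rfl
  h2' := rfl
  h6 := rfl
  h6' := rfl
  h4 := rfl
  h4' := rfl
  h7 := rfl
  h3 := rfl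
  h5 := rfl
  r1 := by
    apply Subtype.ext
    show gA⁻¹ * (y6' : GL chevF4.Idx (ZMod 2))⁻¹ * gA * y6' = y4'
    rw [coe_y6', coe_y4', gA, wd_inv, wd_inv, wd_append, wd_append, wd_append]
    exact wd_eq _ _ (by decide +kernel)
  r2 := by
    apply Subtype.ext
    show (y2 : GL chevF4.Idx (ZMod 2))⁻¹ * (y4 : GL chevF4.Idx (ZMod 2))⁻¹ * y2 * y4 = y3
    rw [coe_y2, coe_y4, coe_y3, wd_inv, wd_inv, wd_append, wd_append, wd_append]
    exact wd_eq _ _ (by decide +kernel)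
  r3 := by
    apply Subtype.ext
    show (y2' : GL chevF4.Idx (ZMod 2))⁻¹ * (gC * gC)⁻¹ * y2' * (gC * gC) = y4' * y5 * y6'
    rw [coe_y2', coe_y4', coe_y5, coe_y6', gC_sq, wd_inv, wd_inv, wd_append, wd_append, wd_append,
      wd_append, wd_append]
    exact wd_eq _ _ (by decide +kernel)

/-- the derived subgroup of `²F₄(2)` has index at most `2` -/
theorem index_dvd : (commutator ↥(twistedF4 (ZMod 2) 1)).index ∣ 2 :=
  index_commutator_dvd relations

/-- if the derived subgroup of `²F₄(2)` has index `2`, then it is perfect -/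
theorem perfect (h : (commutator ↥(twistedF4 (ZMod 2) 1)).index = 2) :
    ⁅commutator ↥(twistedF4 (ZMod 2) 1), commutator ↥(twistedF4 (ZMod 2) 1)⁆ =
      commutator ↥(twistedF4 (ZMod 2) 1) :=
  derived_two_eq relations h

end Cfsg.Agent.ChevalleyStructure.TwF4.TitsPerfect

private theorem dce_3ff5054c687a : _root_.True := by
  try have : _root_.True := by simp only [_root_.Cfsg.Agent.ChevalleyStructure.TwF4.TitsPerfect.gA'.eq_1]
  try have : _root_.True := by simp only [_root_.Cfsg.Lie.f4ab.eq_1]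
  try have : _root_.True := by simp only [_root_.Cfsg.Lie.f4aab.eq_1]
  try have : _root_.True := by simp only [_root_.Cfsg.Lie.f4m1.eq_1]
  try have : _root_.True := by simp only [_root_.Cfsg.Lie.f4b.eq_1]
  try have : _root_.True := by simp only [_root_.Cfsg.Lie.f4m4.eq_1]
  try have : _root_.True := by simp only [_root_.Cfsg.Lie.f4a.eq_1]
  try have : _root_.True := by simp only [_root_.Cfsg.Agent.ChevalleyStructure.TwF4.TitsPerfect.gA.eq_1]
  try have : _root_.True := by simp only [_root_.Cfsg.Agent.ChevalleyStructure.TwF4.TitsPerfect.wd.eq_1]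
  try have : _root_.True := by simp only [_root_.Cfsg.Lie.f4PairWord.eq_1]
  try have : _root_.True := by simp only [_root_.Cfsg.Lie.b2ClassWord.eq_1]
  try have : _root_.True := by simp only [_root_.Cfsg.Lie.f4mb.eq_1]
  try have : _root_.True := by simp only [_root_.Cfsg.Agent.ChevalleyStructure.TwF4.TitsPerfect.gC.eq_1]
  try have : _root_.True := by simp only [_root_.Cfsg.Agent.ChevalleyStructure.TwF4.TitsPerfect.gC'.eq_1]
  try have : _root_.True := by simp only [_root_.Cfsg.Lie.f4maab.eq_1]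
  try have : _root_.True := by simp only [_root_.Cfsg.Lie.f4ma.eq_1]
  try have : _root_.True := by simp only [_root_.Cfsg.Lie.f4p4.eq_1]
  try have : _root_.True := by simp only [_root_.Cfsg.Lie.f4p1.eq_1]
  try have : _root_.True := by simp only [_root_.Cfsg.Lie.f4mab.eq_1]
  exact _root_.True.intro
end

-- part: TitsK/Table_mg
section
prune_inst 0x100041000422000000000000200000003000000200000000200001000140004180000000302001100100802000080040001000090010000000000200000000000000420002400000200000008800000000000000000000000000000000000000000000000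
set_option linter.all false
open scoped Cfsg.Agent.FastGrp

-- part: TitsK/Model
section
/-!
`²F₄(2)` and the Tits group inside `LL = F₄(2)`:

* `HT = ²F₄(2)`, `TT = ⁅HT, HT⁆`, `exists_equiv : TitsGroup ≃* TT`, `relIndex_TT`, `card_TT`, `card_HT`;
* `ya`, `yam`, `yb`, `ybm`: the generators of `HT`;
* `UT = U ⊓ HT` (order `2 ^ 12`), `na`, `nb`: the reflections, `WT_cases`: the 16 elements of `N ⊓ HT`;
* `bruhat_HT`.
-/

set_option autoImplicit false

namespace Cfsg.Agent.TitsK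

open Cfsg.Lie Cfsg.Agent.ChevalleyStructure.TwF4.Rel Cfsg.Agent.ChevalleyStructure.TwF4.Tables
open Cfsg.Agent.ChevalleyStructure.TwF4.TwistedFix (Rln exists_rln)
open Cfsg.Agent.FourTwo.Base hiding bar bar_lt
open Cfsg.Agent.FourTwo.BN Cfsg.Agent.FourTwo.Comm Cfsg.Agent.FourTwo.Classes

/-- `²F₄(2)` in `GL` -/
abbrev T4 : Subgroup (GL chevF4.Idx (ZMod 2)) := twistedF4 (ZMod 2) 1

theorem tp_wd_eq (l : List ℕ) :
    Cfsg.Agent.ChevalleyStructure.TwF4.TitsPerfect.wd l = ((wd l : LL) : GL chevF4.Idx (ZMod 2)) := by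
  induction l with
  | nil => rfl
  | cons r l ih =>
    rw [Cfsg.Agent.ChevalleyStructure.TwF4.TitsPerfect.wd_cons, ih, wd_cons]
    rfl

/-- `²F₄(2)` in `LL` -/
def HT : Subgroup LL := T4.subgroupOf (chevF4.group (ZMod 2))

theorem mem_HT {g : LL} : g ∈ HT ↔ (g : GL chevF4.Idx (ZMod 2)) ∈ T4 := Subgroup.mem_subgroupOf

/-- the derived subgroup: the Tits group -/
def TT : Subgroup LL := ⁅HT, HT⁆

/-- `x_{p₁} x_{p₄}` -/
def ya : LL := wd [33, 24]
/-- `x_{-p₁} x_{-p₄}` -/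
def yam : LL := wd [14, 23]
/-- `x_{p₂} x_{p₃} x_{p₂+p₃}` -/
def yb : LL := wd [27, 25, 28]
/-- `x_{-p₂} x_{-p₃} x_{-p₂-p₃}` -/
def ybm : LL := wd [20, 22, 19]

theorem ya_mem_HT : ya ∈ HT := by
  rw [mem_HT]
  have h := Cfsg.Agent.ChevalleyStructure.TwF4.TitsPerfect.gA_mem
  unfold Cfsg.Agent.ChevalleyStructure.TwF4.TitsPerfect.gA at h
  rw [tp_wd_eq] at h
  exact h

theorem yam_mem_HT : yam ∈ HT := by
  rw [mem_HT]
  have h := Cfsg.Agent.ChevalleyStructure.TwF4.TitsPerfect.gA'_mem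
  unfold Cfsg.Agent.ChevalleyStructure.TwF4.TitsPerfect.gA' at h
  rw [tp_wd_eq] at h
  exact h

theorem yb_mem_HT : yb ∈ HT := by
  rw [mem_HT]
  have h := Cfsg.Agent.ChevalleyStructure.TwF4.TitsPerfect.gC_mem
  unfold Cfsg.Agent.ChevalleyStructure.TwF4.TitsPerfect.gC at h
  rw [tp_wd_eq] at h
  exact h

theorem ybm_mem_HT : ybm ∈ HT := by
  rw [mem_HT]
  have h := Cfsg.Agent.ChevalleyStructure.TwF4.TitsPerfect.gC'_mem
  unfold Cfsg.Agent.ChevalleyStructure.TwF4.TitsPerfect.gC' at h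
  rw [tp_wd_eq] at h
  exact h

theorem T4_le_map {H : Subgroup LL} (h1 : ya ∈ H) (h2 : yam ∈ H) (h3 : yb ∈ H) (h4 : ybm ∈ H) :
    T4 ≤ H.map (chevF4.group (ZMod 2)).subtype := by
  refine Cfsg.Agent.ChevalleyStructure.TwF4.TitsPerfect.G2_le.trans ?_
  rw [Subgroup.closure_le]
  intro g hg
  simp only [Set.mem_insert_iff, Set.mem_singleton_iff] at hg
  rcases hg with rfl | rfl | rfl | rfl
  · exact ⟨ya, h1, (tp_wd_eq _).symm⟩
  · exact ⟨yam, h2, (tp_wd_eq _).symm⟩
  · exact ⟨yb, h3, (tp_wd_eq _).symm⟩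
  · exact ⟨ybm, h4, (tp_wd_eq _).symm⟩

theorem T4_le : T4 ≤ chevF4.group (ZMod 2) := by
  refine (T4_le_map (H := ⊤) trivial trivial trivial trivial).trans ?_
  rintro _ ⟨g, -, rfl⟩
  exact g.2

theorem HT_le {H : Subgroup LL} (h1 : ya ∈ H) (h2 : yam ∈ H) (h3 : yb ∈ H) (h4 : ybm ∈ H) : HT ≤ H := by
  intro g hg
  rw [mem_HT] at hg
  obtain ⟨g', hg', he⟩ := T4_le_map h1 h2 h3 h4 hg
  have e : g' = g := Subtype.ext he
  rw [← e]
  exact hg'

/-! ### `TT ≃* TitsGroup` -/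

section General

theorem map_comm_aux {G : Type*} [Group G] (H : Subgroup G) : (commutator ↥H).map H.subtype = ⁅H, H⁆ := by
  rw [commutator_def, Subgroup.map_commutator, ← MonoidHom.range_eq_map, Subgroup.range_subtype]

theorem comm_le_aux {G : Type*} [Group G] (H : Subgroup G) : ⁅H, H⁆ ≤ H := by
  rw [← map_comm_aux]
  rintro _ ⟨g, -, rfl⟩
  exact g.2

theorem relIndex_comm_aux {G : Type*} [Group G] (H : Subgroup G) :
    (⁅H, H⁆ : Subgroup G).relIndex H = (commutator ↥H).index := by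
  rw [Subgroup.relIndex, ← map_comm_aux, Subgroup.subgroupOf,
    Subgroup.comap_map_eq_self_of_injective H.subtype_injective]

theorem relIndex_comm_of_map {G K : Type*} [Group G] [Group K] (f : G →* K) (hf : Function.Injective f)
    (H : Subgroup G) (T : Subgroup K) (h : H.map f = T) :
    (⁅H, H⁆ : Subgroup G).relIndex H = (commutator ↥T).index := by
  rw [← relIndex_comm_aux, ← h, ← Subgroup.map_commutator, Subgroup.relIndex_map_map_of_injective _ _ hf]

theorem equiv_comm_of_map {G K : Type*} [Group G] [Group K] (f : G →* K) (hf : Function.Injective f)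
    (H : Subgroup G) (T : Subgroup K) (h : H.map f = T) :
    Nonempty (↥(commutator ↥T) ≃* ↥(⁅H, H⁆ : Subgroup G)) := by
  subst h
  have e1 : ↥(commutator ↥(H.map f)) ≃* ↥((commutator ↥(H.map f)).map (H.map f).subtype) :=
    (commutator ↥(H.map f)).equivMapOfInjective _ (H.map f).subtype_injective
  rw [map_comm_aux, ← Subgroup.map_commutator] at e1
  exact ⟨e1.trans ((⁅H, H⁆ : Subgroup G).equivMapOfInjective f hf).symm⟩

theorem card_of_relIndex {G : Type*} [Group G] {A B : Subgroup G} (h : A ≤ B) (n : ℕ) (hn : A.relIndex B = n) :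
    Nat.card ↥A * n = Nat.card ↥B := by
  rw [← hn, Subgroup.relIndex, ← (A.subgroupOf B).card_mul_index,
    Nat.card_congr (Subgroup.subgroupOfEquivOfLe h).toEquiv]

end General

theorem map_HT : HT.map (chevF4.group (ZMod 2)).subtype = T4 :=
  (Subgroup.map_subgroupOf_eq_of_le T4_le)

theorem TT_le : TT ≤ HT := comm_le_aux HT

theorem relIndex_TT : TT.relIndex HT = 2 := by
  refine Eq.trans ?_ Cfsg.Agent.S1074.result.1
  exact relIndex_comm_of_map _ (Subgroup.subtype_injective _) _ _ map_HT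

theorem exists_equiv : Nonempty (TitsGroup ≃* ↥TT) :=
  equiv_comm_of_map _ (Subgroup.subtype_injective _) _ _ map_HT

theorem card_TT : Nat.card ↥TT = 2 ^ 11 * 3 ^ 3 * 5 ^ 2 * 13 := by
  obtain ⟨e⟩ := exists_equiv
  rw [← Nat.card_congr e.toEquiv]
  exact Cfsg.Agent.S1074.result.2.2.2

theorem simple_TT : IsSimpleGroup ↥TT := by
  obtain ⟨e⟩ := exists_equiv
  have h := Cfsg.Agent.S1074.result.2.1
  have h1 : Nontrivial ↥TT := e.symm.toEquiv.nontrivial
  exact IsSimpleGroup.isSimpleGroup_of_surjective e.toMonoidHom e.surjective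

theorem card_HT : Nat.card ↥HT = 2 ^ 12 * 3 ^ 3 * 5 ^ 2 * 13 := by
  have h := card_of_relIndex TT_le 2 relIndex_TT
  rw [card_TT] at h
  omega

/-! ### the unipotent subgroup -/

/-- the Sylow 2-subgroup of `HT` -/
def UT : Subgroup LL := U ⊓ HT

theorem card_UT : Nat.card ↥UT = 2 ^ 12 := by
  have h := Cfsg.Agent.S1090.result (K := ZMod 2) (m := 0) (by simp)
  have e1 : UT = (chevF4.posUnipotent (ZMod 2) ⊓ T4).subgroupOf (chevF4.group (ZMod 2)) := rfl
  rw [e1, Nat.card_congr (Subgroup.subgroupOfEquivOfLe (inf_le_right.trans T4_le)).toEquiv]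
  exact h

theorem ya_mem : ya ∈ UT := ⟨wd_mem_U (by decide), ya_mem_HT⟩
theorem yb_mem : yb ∈ UT := ⟨wd_mem_U (by decide), yb_mem_HT⟩

/-! ### the reflections -/

/-- the reflection exchanging `ya` and `yam` -/
def na : LL := nw [0, 3]
/-- the reflection exchanging `yb` and `ybm` -/
def nb : LL := nw [1, 2, 1, 2]

theorem nw_cons (i : ℕ) (w : List ℕ) : nw (i :: w) = n i * nw w := by simp [nw]

theorem nw_append (w w' : List ℕ) : nw (w ++ w') = nw w * nw w' := by simp [nw]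

theorem coe_nw (w : List ℕ) : ((nw w : LL) : GL chevF4.Idx (ZMod 2)) =
    Cfsg.Agent.ChevalleyStructure.TwF4.RankOne.NW (ZMod 2) w := by
  induction w with
  | nil => rfl
  | cons i w ih =>
    rw [nw_cons, Cfsg.Agent.ChevalleyStructure.TwF4.RankOne.NW_cons, ← ih]
    rfl

theorem coe_na : ((na : LL) : GL chevF4.Idx (ZMod 2)) = Cfsg.Agent.ChevalleyStructure.TwF4.Rel.n1 (ZMod 2) := by
  rw [Cfsg.Agent.ChevalleyStructure.TwF4.TwistedFix.n1_eq_NW]
  exact coe_nw _

theorem coe_nb : ((nb : LL) : GL chevF4.Idx (ZMod 2)) = Cfsg.Agent.ChevalleyStructure.TwF4.Rel.n2 (ZMod 2) := by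
  rw [Cfsg.Agent.ChevalleyStructure.TwF4.TwistedFix.n2_eq_NW]
  exact coe_nw _

theorem na_mem_HT : na ∈ HT := by
  rw [mem_HT, coe_na]
  exact Cfsg.Agent.ChevalleyStructure.TwF4.TwistedFix.n1_mem

theorem nb_mem_HT : nb ∈ HT := by
  rw [mem_HT, coe_nb]
  exact Cfsg.Agent.ChevalleyStructure.TwF4.TwistedFix.n2_mem (by norm_num)

theorem nw_eq_of_act {w w' : List ℕ} (hw : ∀ i ∈ w, i < 4) (hw' : ∀ i ∈ w', i < 4)
    (h : ([33, 27, 25, 24].all fun p => act w p == act w' p) = true) : nw w = nw w' := by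
  rw [← mul_inv_eq_one]
  have h1 : (nw w')⁻¹ * nw w = 1 := by
    refine eq_one_of_fix (mul_mem (inv_mem (nw_mem_N hw')) (nw_mem_N hw)) (l := [33, 27, 25, 24]) (by decide)
      sep_simple fun p hp => ?_
    have hp' : p < 48 := by
      revert p
      decide
    rw [List.all_eq_true] at h
    have h2 := h p hp
    rw [beq_iff_eq] at h2
    have e : (nw w')⁻¹ * nw w * x p * ((nw w')⁻¹ * nw w)⁻¹ = (nw w')⁻¹ * (nw w * x p * (nw w)⁻¹) * nw w' := by group
    rw [e, nw_conj hw hp', h2, ← nw_conj hw' hp']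
    group
  rw [inv_mul_eq_one] at h1
  rw [h1, mul_inv_cancel]

/-- alternating words -/
def alt : Bool → ℕ → List ℕ
  | _, 0 => []
  | true, k + 1 => [0, 3] ++ alt false k
  | false, k + 1 => [1, 2, 1, 2] ++ alt true k

/-- words for the 16 elements of the Weyl group of `HT` -/
def W16 : List (List ℕ) := ((List.range 9).map fun k => alt true k) ++ ((List.range 7).map fun k => alt false (k + 1))

theorem W16_lt : (W16.all fun w => w.all fun i => decide (i < 4)) = true := by decide +kernel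

theorem lt_of_mem_W16 {w : List ℕ} (hw : w ∈ W16) : ∀ i ∈ w, i < 4 := by
  have h := W16_lt
  rw [List.all_eq_true] at h
  have h1 := h w hw
  rw [List.all_eq_true] at h1
  exact fun i hi => of_decide_eq_true (h1 i hi)

theorem W16_closed : (W16.all fun w => (W16.any fun w' => [33, 27, 25, 24].all fun p => act ([0, 3] ++ w) p == act w' p) &&
    (W16.any fun w' => [33, 27, 25, 24].all fun p => act ([1, 2, 1, 2] ++ w) p == act w' p)) = true := by
  decide +kernel

theorem na_mul {w : List ℕ} (hw : w ∈ W16) : ∃ w' ∈ W16, na * nw w = nw w' := by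
  have h := W16_closed
  rw [List.all_eq_true] at h
  have h1 := h w hw
  rw [Bool.and_eq_true, List.any_eq_true] at h1
  obtain ⟨w', hw', h2⟩ := h1.1
  refine ⟨w', hw', ?_⟩
  unfold na
  rw [← nw_append]
  refine nw_eq_of_act (fun i hi => ?_) (lt_of_mem_W16 hw') h2
  rw [List.mem_append] at hi
  rcases hi with hi | hi
  · revert i
    decide
  · exact lt_of_mem_W16 hw i hi

theorem nb_mul {w : List ℕ} (hw : w ∈ W16) : ∃ w' ∈ W16, nb * nw w = nw w' := by
  have h := W16_closed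
  rw [List.all_eq_true] at h
  have h1 := h w hw
  rw [Bool.and_eq_true, List.any_eq_true, List.any_eq_true] at h1
  obtain ⟨w', hw', h2⟩ := h1.2
  refine ⟨w', hw', ?_⟩
  unfold nb
  rw [← nw_append]
  refine nw_eq_of_act (fun i hi => ?_) (lt_of_mem_W16 hw') h2
  rw [List.mem_append] at hi
  rcases hi with hi | hi
  · revert i
    decide
  · exact lt_of_mem_W16 hw i hi

theorem na_mul_self : na * na = 1 := by
  have h : na * na = nw ([0, 3] ++ [0, 3]) := (nw_append _ _).symm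
  rw [h]
  exact nw_eq_of_act (w' := []) (by decide) (by decide) (by decide +kernel)

theorem nb_mul_self : nb * nb = 1 := by
  have h : nb * nb = nw ([1, 2, 1, 2] ++ [1, 2, 1, 2]) := (nw_append _ _).symm
  rw [h]
  exact nw_eq_of_act (w' := []) (by decide) (by decide) (by decide +kernel)

theorem na_inv : na⁻¹ = na := by rw [inv_eq_iff_mul_eq_one, na_mul_self]
theorem nb_inv : nb⁻¹ = nb := by rw [inv_eq_iff_mul_eq_one, nb_mul_self]

theorem nil_mem_W16 : ([] : List ℕ) ∈ W16 := by decide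

theorem coe_mem_closure {g : GL chevF4.Idx (ZMod 2)}
    (hg : g ∈ Subgroup.closure (Set.range (Cfsg.Agent.ChevalleyStructure.TwF4.BN.nn (ZMod 2)))) :
    ∃ w ∈ W16, g = ((nw w : LL) : GL chevF4.Idx (ZMod 2)) := by
  have ha : ∀ y : GL chevF4.Idx (ZMod 2), (∃ w ∈ W16, y = ((nw w : LL) : GL chevF4.Idx (ZMod 2))) →
      ∃ w ∈ W16, ((na : LL) : GL chevF4.Idx (ZMod 2)) * y = ((nw w : LL) : GL chevF4.Idx (ZMod 2)) := by
    rintro _ ⟨w, hw, rfl⟩
    obtain ⟨w', hw', h⟩ := na_mul hw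
    exact ⟨w', hw', by rw [← h]; rfl⟩
  have hb : ∀ y : GL chevF4.Idx (ZMod 2), (∃ w ∈ W16, y = ((nw w : LL) : GL chevF4.Idx (ZMod 2))) →
      ∃ w ∈ W16, ((nb : LL) : GL chevF4.Idx (ZMod 2)) * y = ((nw w : LL) : GL chevF4.Idx (ZMod 2)) := by
    rintro _ ⟨w, hw, rfl⟩
    obtain ⟨w', hw', h⟩ := nb_mul hw
    exact ⟨w', hw', by rw [← h]; rfl⟩
  have e1 : ((na : LL) : GL chevF4.Idx (ZMod 2))⁻¹ = ((na : LL) : GL chevF4.Idx (ZMod 2)) := by
    have h := congrArg (fun g : LL => (g : GL chevF4.Idx (ZMod 2))) na_inv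
    exact h
  have e2 : ((nb : LL) : GL chevF4.Idx (ZMod 2))⁻¹ = ((nb : LL) : GL chevF4.Idx (ZMod 2)) := by
    have h := congrArg (fun g : LL => (g : GL chevF4.Idx (ZMod 2))) nb_inv
    exact h
  rw [coe_na] at ha e1
  rw [coe_nb] at hb e2
  refine Subgroup.closure_induction_left
    (p := fun (g : GL chevF4.Idx (ZMod 2)) _ => ∃ w ∈ W16, g = ((nw w : LL) : GL chevF4.Idx (ZMod 2))) ?_ ?_ ?_ hg
  · exact ⟨[], nil_mem_W16, rfl⟩
  · rintro _ ⟨i, rfl⟩ y _ hy
    revert i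
    exact Fin.forall_fin_two.2 ⟨ha y hy, hb y hy⟩
  · rintro _ ⟨i, rfl⟩ y _ hy
    revert i
    refine Fin.forall_fin_two.2 ⟨?_, ?_⟩
    · rw [Cfsg.Agent.ChevalleyStructure.TwF4.BN.nn_zero, e1]
      exact ha y hy
    · rw [Cfsg.Agent.ChevalleyStructure.TwF4.BN.nn_one, e2]
      exact hb y hy

theorem exists_rln2 : ∃ φ : ZMod 2 →+* ZMod 2, Rln φ 1 := exists_rln (K := ZMod 2) (m := 0) (by simp)

/-- the 16 elements of `N ⊓ HT` -/
theorem WT_cases {g : LL} (h1 : g ∈ N) (h2 : g ∈ HT) : ∃ w ∈ W16, g = nw w := by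
  obtain ⟨φ, hφ⟩ := exists_rln2
  have h := (Cfsg.Agent.ChevalleyStructure.TwF4.BN.twistedData hφ).N_inf_G
  have h3 : (g : GL chevF4.Idx (ZMod 2)) ∈ chevF4.monomialSubgroup (ZMod 2) ⊓ T4 := ⟨mem_N.1 h1, mem_HT.1 h2⟩
  have h4 : chevF4.monomialSubgroup (ZMod 2) ⊓ T4 =
      Subgroup.closure (Set.range (Cfsg.Agent.ChevalleyStructure.TwF4.BN.nn (ZMod 2))) ⊔
        (chevF4.diagonalSubgroup (ZMod 2) ⊓ T4) := h
  rw [h4, diag_eq_bot, bot_inf_eq, sup_bot_eq] at h3
  obtain ⟨w, hw, he⟩ := coe_mem_closure h3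
  exact ⟨w, hw, Subtype.ext he⟩

/-- the Bruhat decomposition of `HT` -/
theorem bruhat_HT {g : LL} (hg : g ∈ HT) : ∃ u ∈ UT, ∃ w ∈ W16, ∃ v ∈ UT, g = u * nw w * v := by
  obtain ⟨φ, hφ⟩ := exists_rln2
  obtain ⟨P, hB, hN, -⟩ := Cfsg.Agent.ChevalleyStructure.TwF4.BN.exists_bnPair hφ
  have hg' := mem_HT.1 hg
  obtain ⟨m, hm, hgm⟩ := Cfsg.Agent.S0308.result P ⟨g, hg'⟩
  rw [DoubleCoset.mem_doubleCoset] at hgm
  obtain ⟨b, hb, b', hb', he⟩ := hgm
  have hbB : (b : GL chevF4.Idx (ZMod 2)) ∈ chevF4.borelSubgroup (ZMod 2) := by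
    have h : b ∈ P.B := hb
    rw [hB] at h
    exact h
  have hbB' : (b' : GL chevF4.Idx (ZMod 2)) ∈ chevF4.borelSubgroup (ZMod 2) := by
    have h : b' ∈ P.B := hb'
    rw [hB] at h
    exact h
  have hmN : (m : GL chevF4.Idx (ZMod 2)) ∈ chevF4.monomialSubgroup (ZMod 2) := by
    have h : m ∈ P.N := hm
    rw [hN] at h
    exact h
  rw [borel_eq] at hbB hbB'
  have hmG : (m : GL chevF4.Idx (ZMod 2)) ∈ chevF4.group (ZMod 2) := T4_le m.2
  obtain ⟨w, hw, hw'⟩ := WT_cases (g := ⟨m, hmG⟩) (mem_N.2 hmN) (mem_HT.2 m.2)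
  refine ⟨⟨b, T4_le b.2⟩, ⟨mem_U.2 hbB, mem_HT.2 b.2⟩, w, hw, ⟨b', T4_le b'.2⟩, ⟨mem_U.2 hbB', mem_HT.2 b'.2⟩, ?_⟩
  rw [← hw']
  apply Subtype.ext
  have h := congrArg Subtype.val he
  exact h

end Cfsg.Agent.TitsK
end

-- part: TitsK/Codes
section
/-!
Codes for the Sylow 2-subgroup `UT` of `²F₄(2)` (as a subgroup of `F₄(2)`):

* `reflW`, `posW`, `nw_conj_ec`: conjugation of a code by a Weyl group word;
* `gens12`, `allP`, `allU`, `allS`: enumeration of the 4096 codes of `UT` by a binary tree;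
* `UT_all`, `ST_all`: the kernel checks.
-/

set_option autoImplicit false
set_option Elab.async false

namespace Cfsg.Agent.TitsK

open Cfsg.Lie Cfsg.Agent.ChevalleyStructure.TwF4.Tables
open Cfsg.Agent.FourTwo.Base hiding bar bar_lt
open Cfsg.Agent.FourTwo.BN Cfsg.Agent.FourTwo.Comm Cfsg.Agent.FourTwo.Classes
open Cfsg.Agent.FourTwo.UCode (mulU invU conjU lets colW colF force force_eq mem_lets wel_lets wel_mem)
open Cfsg.Agent.FourTwo.UMod (mulU_mod)

/-! ### conjugation by Weyl group words -/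

/-- all letters of `e` stay positive under `w` -/
def posW (w : List ℕ) (e : ℕ) : Bool := (lets e).all fun j => decide (24 ≤ act w (24 + j))

/-- the code of the conjugate -/
def reflW (w : List ℕ) (e : ℕ) : ℕ := colW ((lets e).map fun j => act w (24 + j) - 24)

theorem ec_eq_wd (e : ℕ) : ec e = wd ((lets e).map fun j => 24 + j) := by
  apply Subtype.ext
  rw [coe_wd_eq_wel, wel_lets]
  rfl

theorem nw_conj_wd {w : List ℕ} (hw : ∀ i ∈ w, i < 4) {l : List ℕ} (hl : ∀ r ∈ l, r < 48) :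
    nw w * wd l * (nw w)⁻¹ = wd (l.map (act w)) := by
  induction l with
  | nil => simp
  | cons r l ih =>
    rw [List.map_cons, wd_cons, wd_cons, ← ih fun s hs => hl s (List.mem_cons_of_mem _ hs),
      ← nw_conj hw (hl r List.mem_cons_self)]
    group

theorem nw_conj_ec {w : List ℕ} (hw : ∀ i ∈ w, i < 4) {e : ℕ} (h : posW w e = true) :
    nw w * ec e * (nw w)⁻¹ = ec (reflW w e) := by
  unfold posW at h
  rw [List.all_eq_true] at h
  have hl : ∀ c ∈ lets e, 24 ≤ act w (24 + c) ∧ act w (24 + c) < 48 := fun c hc =>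
    ⟨of_decide_eq_true (h c hc), act_lt hw (by have := (mem_lets.1 hc).1; omega)⟩
  rw [ec_eq_wd, nw_conj_wd hw]
  · unfold reflW
    rw [← wd_eq_ec]
    · congr 1
      rw [List.map_map, List.map_map]
      apply List.map_congr_left
      intro c hc
      have := (hl c hc).1
      show act w (24 + c) = 24 + (act w (24 + c) - 24)
      omega
    · intro c hc
      rw [List.mem_map] at hc
      obtain ⟨j, hj, rfl⟩ := hc
      have := hl j hj
      omega
  · intro r hr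
    rw [List.mem_map] at hr
    obtain ⟨j, hj, rfl⟩ := hr
    have := (mem_lets.1 hj).1
    omega

/-! ### the enumeration -/

/-- the leaves of the tree: all products `e g₀^{b₀} g₁^{b₁} ⋯`, with the parity -/
def lf : List (ℕ × Bool) → ℕ → Bool → List (ℕ × Bool)
  | [], e, b => [(e, b)]
  | g :: gs, e, b => lf gs e b ++ lf gs (mulU e g.1) (b ^^ g.2)

/-- check of a predicate at all leaves -/
def allP (p : ℕ → Bool → Bool) (gs : List (ℕ × Bool)) (e : ℕ) (b : Bool) : Bool :=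
  List.rec (motive := fun _ => ℕ → Bool → Bool) (fun e b => p e b)
    (fun g _ ih e b => cond (ih e b) (force (mulU e g.1) fun e' => ih e' (b ^^ g.2)) false) gs e b

theorem allP_cons (p : ℕ → Bool → Bool) (g : ℕ × Bool) (gs : List (ℕ × Bool)) (e : ℕ) (b : Bool) :
    allP p (g :: gs) e b = (allP p gs e b && allP p gs (mulU e g.1) (b ^^ g.2)) := by
  show cond (allP p gs e b) (force (mulU e g.1) fun e' => allP p gs e' (b ^^ g.2)) false = _
  rw [force_eq]
  cases allP p gs e b <;> rfl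

theorem allP_spec {p : ℕ → Bool → Bool} {gs : List (ℕ × Bool)} {e : ℕ} {b : Bool} (h : allP p gs e b = true) :
    ∀ q ∈ lf gs e b, p q.1 q.2 = true := by
  induction gs generalizing e b with
  | nil =>
    intro q hq
    rw [lf, List.mem_singleton] at hq
    rw [hq]
    exact h
  | cons g gs ih =>
    rw [allP_cons, Bool.and_eq_true] at h
    intro q hq
    rw [lf, List.mem_append] at hq
    rcases hq with hq | hq
    · exact ih h.1 q hq
    · exact ih h.2 q hq

theorem length_lf (gs : List (ℕ × Bool)) (e : ℕ) (b : Bool) : (lf gs e b).length = 2 ^ gs.length := by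
  induction gs generalizing e b with
  | nil => rfl
  | cons g gs ih =>
    rw [lf, List.length_append, ih, ih, List.length_cons, pow_succ]
    ring

/-- check that the generators are in echelon form: `(k, g) : g % 2 ^ k = 0`, and at each node the two subtrees are
separated by the residues modulo `2 ^ (k + 1)` -/
def sepP (ks : List ℕ) (gs : List (ℕ × Bool)) (e : ℕ) : Bool :=
  List.rec (motive := fun _ => List (ℕ × Bool) → ℕ → Bool) (fun gs _ => gs.isEmpty)
    (fun k _ ih gs e => match gs with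
      | [] => false
      | g :: gs => cond (ih gs e) (force (mulU e g.1) fun e' =>
        cond (ih gs e') (gs.all (fun g' => Nat.beq (g'.1 % 2 ^ k) 0) && !(Nat.beq (e % 2 ^ k) (e' % 2 ^ k))) false) false)
    ks gs e

theorem sepP_nil (gs : List (ℕ × Bool)) (e : ℕ) : sepP [] gs e = gs.isEmpty := rfl

theorem sepP_cons_nil (k : ℕ) (ks : List ℕ) (e : ℕ) : sepP (k :: ks) [] e = false := rfl

theorem sepP_cons (k : ℕ) (ks : List ℕ) (g : ℕ × Bool) (gs : List (ℕ × Bool)) (e : ℕ) :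
    sepP (k :: ks) (g :: gs) e = (sepP ks gs e && (sepP ks gs (mulU e g.1) &&
      (gs.all (fun g' => Nat.beq (g'.1 % 2 ^ k) 0) && !(Nat.beq (e % 2 ^ k) (mulU e g.1 % 2 ^ k))))) := by
  show cond (sepP ks gs e) (force (mulU e g.1) fun e' =>
        cond (sepP ks gs e') (gs.all (fun g' => Nat.beq (g'.1 % 2 ^ k) 0) && !(Nat.beq (e % 2 ^ k) (e' % 2 ^ k))) false) false
        = _
  rw [force_eq]
  cases sepP ks gs e <;> cases sepP ks gs (mulU e g.1) <;> rfl

theorem mulU_zero (e : ℕ) : mulU e 0 = e := rfl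

theorem lf_mod {k : ℕ} (hk : k ≤ 24) {gs : List (ℕ × Bool)} (h : ∀ g ∈ gs, g.1 % 2 ^ k = 0) {e : ℕ} {b : Bool} :
    ∀ q ∈ lf gs e b, q.1 % 2 ^ k = e % 2 ^ k := by
  induction gs generalizing e b with
  | nil =>
    intro q hq
    rw [lf, List.mem_singleton] at hq
    rw [hq]
  | cons g gs ih =>
    have h1 := fun g' hg' => h g' (List.mem_cons_of_mem g hg')
    intro q hq
    rw [lf, List.mem_append] at hq
    rcases hq with hq | hq
    · exact ih h1 q hq
    · rw [ih h1 q hq]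
      have h2 : mulU e g.1 % 2 ^ k = mulU e 0 % 2 ^ k :=
        mulU_mod hk rfl (by rw [h g List.mem_cons_self, Nat.zero_mod])
      rw [h2, mulU_zero]

theorem nodup_lf {ks : List ℕ} (hks : ∀ k ∈ ks, k ≤ 24) {gs : List (ℕ × Bool)} {e : ℕ} {b : Bool}
    (h : sepP ks gs e = true) : ((lf gs e b).map Prod.fst).Nodup := by
  induction ks generalizing gs e b with
  | nil =>
    rw [sepP_nil, List.isEmpty_iff] at h
    subst h
    simp [lf]
  | cons k ks ih =>
    cases gs with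
    | nil => rw [sepP_cons_nil] at h; exact absurd h (by decide)
    | cons g gs =>
      rw [sepP_cons, Bool.and_eq_true, Bool.and_eq_true, Bool.and_eq_true] at h
      obtain ⟨h1, h2, h3, h4⟩ := h
      have hk := hks k List.mem_cons_self
      have hks' := fun k' hk' => hks k' (List.mem_cons_of_mem k hk')
      rw [lf, List.map_append, List.nodup_append]
      refine ⟨ih hks' h1, ih hks' h2, ?_⟩
      intro a ha a' ha' haa
      rw [List.mem_map] at ha ha'
      obtain ⟨q, hq, rfl⟩ := ha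
      obtain ⟨q', hq', rfl⟩ := ha'
      rw [List.all_eq_true] at h3
      have h5 : ∀ g' ∈ gs, g'.1 % 2 ^ k = 0 := fun g' hg' => Nat.eq_of_beq_eq_true (h3 g' hg')
      have e1 := lf_mod hk h5 q hq
      have e2 := lf_mod hk h5 q' hq'
      rw [haa, e2] at e1
      rw [Bool.not_eq_true', ← Bool.not_eq_true] at h4
      apply h4
      rw [e1]
      exact Nat.beq_refl _

/-- the 12 generators of `UT` (`true`: outside `TT`) -/
def gens12 : List (ℕ × Bool) := [(513, false), (74, true), (263172, true), (80, false), (1179680, true),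
  (4196480, true), (8448, false), (266240, false), (540672, false), (2129920, false), (4259840, false),
  (9437184, false)]

theorem sep12 : sepP [1, 2, 3, 5, 6, 8, 9, 13, 15, 16, 17, 21] gens12 0 = true := by decide +kernel

/-- the parity -/
def parB (e : ℕ) : Bool := (e.testBit 1 ^^ e.testBit 2) ^^ (e.testBit 5 ^^ e.testBit 7)

theorem par12 : allP (fun e b => (parB e == b) && Nat.blt e 16777216) gens12 0 false = true := by decide +kernel

/-! ### membership of the generators -/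

theorem ya_eq : ya = ec 513 := wd_eq_ec' _ (by decide) _ (by decide +kernel)
theorem yb_eq : yb = ec 74 := wd_eq_ec' _ (by decide) _ (by decide +kernel)

/-- `zb = yb²` -/
def zb : LL := wd [28, 30]
/-- `zbm = ybm²` -/
def zbm : LL := wd [19, 17]

theorem zb_eq : zb = ec 80 := wd_eq_ec' _ (by decide) _ (by decide +kernel)

theorem yb_sq : yb * yb = zb := by
  have h : mulU 74 74 = 80 := by decide +kernel
  rw [yb_eq, zb_eq, ← ec_mulU, h]

theorem nw_mem_HT {w : List ℕ} (hw : w ∈ W16) : nw w ∈ HT := by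
  have key : ∀ n : ℕ, ∀ b : Bool, nw (alt b n) ∈ HT := by
    intro n
    induction n with
    | zero => intro b; cases b <;> exact one_mem _
    | succ n ih =>
      intro b
      cases b
      · show nw ([1, 2, 1, 2] ++ alt true n) ∈ HT
        rw [nw_append]
        exact mul_mem nb_mem_HT (ih true)
      · show nw ([0, 3] ++ alt false n) ∈ HT
        rw [nw_append]
        exact mul_mem na_mem_HT (ih false)
  unfold W16 at hw
  rw [List.mem_append, List.mem_map, List.mem_map] at hw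
  rcases hw with ⟨k, -, rfl⟩ | ⟨k, -, rfl⟩
  · exact key _ _
  · exact key _ _

theorem mem_UT {g : LL} : g ∈ UT ↔ g ∈ U ∧ g ∈ HT := Iff.rfl

theorem ec_mem_U (e : ℕ) : ec e ∈ U := ec_mem_UL e

theorem ec_mem_UT_of {r e : ℕ} (hr : ec r ∈ HT) (w : List ℕ) (hw : w ∈ W16) (hp : posW w r = true)
    (he : reflW w r = e) : ec e ∈ UT := by
  refine ⟨ec_mem_U e, ?_⟩
  rw [← he, ← nw_conj_ec (lt_of_mem_W16 hw) hp]
  exact HT.mul_mem (HT.mul_mem (nw_mem_HT hw) hr) (HT.inv_mem (nw_mem_HT hw))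

theorem ec513 : ec 513 ∈ UT := by rw [← ya_eq]; exact ya_mem
theorem ec74 : ec 74 ∈ UT := by rw [← yb_eq]; exact yb_mem
theorem ec80 : ec 80 ∈ UT := by rw [← zb_eq, ← yb_sq]; exact mul_mem yb_mem yb_mem

theorem ec8448 : ec 8448 ∈ UT := ec_mem_UT_of ec513.2 [1, 2, 1, 2] (by decide) (by decide +kernel) (by decide +kernel)
theorem ec540672 : ec 540672 ∈ UT :=
  ec_mem_UT_of ec513.2 [0, 3, 1, 2, 1, 2] (by decide) (by decide +kernel) (by decide +kernel)
theorem ec2129920 : ec 2129920 ∈ UT :=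
  ec_mem_UT_of ec513.2 [1, 2, 1, 2, 0, 3, 1, 2, 1, 2] (by decide) (by decide +kernel) (by decide +kernel)
theorem ec266240 : ec 266240 ∈ UT := ec_mem_UT_of ec80.2 [0, 3] (by decide) (by decide +kernel) (by decide +kernel)
theorem ec4259840 : ec 4259840 ∈ UT :=
  ec_mem_UT_of ec80.2 [1, 2, 1, 2, 0, 3] (by decide) (by decide +kernel) (by decide +kernel)
theorem ec9437184 : ec 9437184 ∈ UT :=
  ec_mem_UT_of ec80.2 [0, 3, 1, 2, 1, 2, 0, 3] (by decide) (by decide +kernel) (by decide +kernel)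
theorem ec263172 : ec 263172 ∈ UT := ec_mem_UT_of ec74.2 [0, 3] (by decide) (by decide +kernel) (by decide +kernel)
theorem ec4196480 : ec 4196480 ∈ UT :=
  ec_mem_UT_of ec74.2 [1, 2, 1, 2, 0, 3] (by decide) (by decide +kernel) (by decide +kernel)
theorem ec1179680 : ec 1179680 ∈ UT :=
  ec_mem_UT_of ec74.2 [0, 3, 1, 2, 1, 2, 0, 3] (by decide) (by decide +kernel) (by decide +kernel)

theorem gens_mem : ∀ g ∈ gens12, ec g.1 ∈ UT := by
  intro g hg
  simp only [gens12, List.mem_cons, List.not_mem_nil, or_false] at hg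
  rcases hg with rfl | rfl | rfl | rfl | rfl | rfl | rfl | rfl | rfl | rfl | rfl | rfl
  · exact ec513
  · exact ec74
  · exact ec263172
  · exact ec80
  · exact ec1179680
  · exact ec4196480
  · exact ec8448
  · exact ec266240
  · exact ec540672
  · exact ec2129920
  · exact ec4259840
  · exact ec9437184

/-! ### membership in `TT` -/

theorem comm_mem_aux {G : Type*} [Group G] (H : Subgroup G) {a b : G} (ha : a ∈ H) (hb : b ∈ H) :
    a * b * (a⁻¹ * b⁻¹) ∈ (⁅H, H⁆ : Subgroup G) := by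
  have h := Subgroup.commutator_mem_commutator ha hb
  rw [commutatorElement_def, mul_assoc] at h
  exact h

theorem conj_mem_aux {G : Type*} [Group G] (H : Subgroup G) {h g : G} (hh : h ∈ H) (hg : g ∈ (⁅H, H⁆ : Subgroup G)) :
    h * g * h⁻¹ ∈ (⁅H, H⁆ : Subgroup G) := by
  have h1 := comm_mem_aux H hh (comm_le_aux H hg)
  have h2 : h * g * h⁻¹ = h * g * (h⁻¹ * g⁻¹) * g := by group
  rw [h2]
  exact mul_mem h1 hg

theorem conj_mem_aux_iff {G : Type*} [Group G] (H : Subgroup G) {h g : G} (hh : h ∈ H) :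
    h * g * h⁻¹ ∈ (⁅H, H⁆ : Subgroup G) ↔ g ∈ (⁅H, H⁆ : Subgroup G) := by
  constructor
  · intro h1
    have h2 := conj_mem_aux H (inv_mem hh) h1
    have e : h⁻¹ * (h * g * h⁻¹) * (h⁻¹)⁻¹ = g := by group
    rwa [e] at h2
  · exact conj_mem_aux H hh

/-- `TT` is normal in `HT` -/
theorem TT_conj {h g : LL} (hh : h ∈ HT) (hg : g ∈ TT) : h * g * h⁻¹ ∈ TT := conj_mem_aux HT hh hg

theorem TT_conj_iff {h g : LL} (hh : h ∈ HT) : h * g * h⁻¹ ∈ TT ↔ g ∈ TT := conj_mem_aux_iff HT hh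

theorem TT_comm {a b : LL} (ha : a ∈ HT) (hb : b ∈ HT) : a * b * (a⁻¹ * b⁻¹) ∈ TT := comm_mem_aux HT ha hb

theorem ec_conj_TT {r e : ℕ} (w : List ℕ) (hw : w ∈ W16) (hp : posW w r = true)
    (he : reflW w r = e) : ec e ∈ TT ↔ ec r ∈ TT := by
  rw [← he, ← nw_conj_ec (lt_of_mem_W16 hw) hp]
  exact TT_conj_iff (nw_mem_HT hw)

/-- code of the commutator `a b a⁻¹ b⁻¹` -/
def commU (a b : ℕ) : ℕ := mulU (mulU a b) (mulU (invU a) (invU b))

theorem ec_commU (a b : ℕ) : ec (commU a b) = ec a * ec b * ((ec a)⁻¹ * (ec b)⁻¹) := by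
  unfold commU
  rw [ec_mulU, ec_mulU, ec_mulU, ec_invU, ec_invU]

theorem t540672 : ec 540672 ∈ TT := by
  have h : commU 263172 1179680 = 540672 := by decide +kernel
  rw [← h, ec_commU]
  exact TT_comm ec263172.2 ec1179680.2

theorem t9437184 : ec 9437184 ∈ TT := by
  have h : commU 513 4259840 = 9437184 := by decide +kernel
  rw [← h, ec_commU]
  exact TT_comm ec513.2 ec4259840.2

theorem t513 : ec 513 ∈ TT :=
  (ec_conj_TT [0, 3, 1, 2, 1, 2] (by decide) (by decide +kernel) (by decide +kernel)).1 t540672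
theorem t80 : ec 80 ∈ TT :=
  (ec_conj_TT [0, 3, 1, 2, 1, 2, 0, 3] (by decide) (by decide +kernel) (by decide +kernel)).1 t9437184
theorem t8448 : ec 8448 ∈ TT :=
  (ec_conj_TT [1, 2, 1, 2] (by decide) (by decide +kernel) (by decide +kernel)).2 t513
theorem t2129920 : ec 2129920 ∈ TT :=
  (ec_conj_TT [1, 2, 1, 2, 0, 3, 1, 2, 1, 2] (by decide) (by decide +kernel) (by decide +kernel)).2 t513
theorem t266240 : ec 266240 ∈ TT := (ec_conj_TT [0, 3] (by decide) (by decide +kernel) (by decide +kernel)).2 t80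
theorem t4259840 : ec 4259840 ∈ TT :=
  (ec_conj_TT [1, 2, 1, 2, 0, 3] (by decide) (by decide +kernel) (by decide +kernel)).2 t80

theorem ya_mem_TT : ya ∈ TT := by rw [ya_eq]; exact t513
theorem zb_mem_TT : zb ∈ TT := by rw [zb_eq]; exact t80

theorem na_conj_ya : na * ya * na⁻¹ = yam := by
  have h := nw_conj_wd (w := [0, 3]) (by decide) (l := [33, 24]) (by decide)
  have e : ([33, 24].map (act [0, 3])) = [14, 23] := by decide
  rw [e] at h
  exact h

theorem nb_conj_yb : nb * yb * nb⁻¹ = ybm := by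
  have h := nw_conj_wd (w := [1, 2, 1, 2]) (by decide) (l := [27, 25, 28]) (by decide)
  have e : ([27, 25, 28].map (act [1, 2, 1, 2])) = [20, 22, 19] := by decide
  rw [e] at h
  exact h

theorem nb_conj_zb : nb * zb * nb⁻¹ = zbm := by
  have h := nw_conj_wd (w := [1, 2, 1, 2]) (by decide) (l := [28, 30]) (by decide)
  have e : ([28, 30].map (act [1, 2, 1, 2])) = [19, 17] := by decide
  rw [e] at h
  exact h

theorem yam_mem_TT : yam ∈ TT := by
  rw [← na_conj_ya]
  exact TT_conj na_mem_HT ya_mem_TT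

theorem zbm_mem_TT : zbm ∈ TT := by
  rw [← nb_conj_zb]
  exact TT_conj nb_mem_HT zb_mem_TT

theorem na_eq : na = ya * yam * ya := by
  have h1 : na = wd [33, 14, 33, 24, 23, 24] := by
    have e0 : n 0 = wd [33, 14, 33] := n_eq_wd 0
    have e3 : n 3 = wd [24, 23, 24] := n_eq_wd 3
    show nw [0, 3] = _
    have h2 : nw [0, 3] = n 0 * n 3 := by simp [nw]
    rw [h2, e0, e3, ← wd_append]
    rfl
  have h2 : ya * yam * ya = wd [33, 24, 14, 23, 33, 24] := by
    unfold ya yam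
    rw [← wd_append, ← wd_append]
    rfl
  rw [h1, h2]
  exact wd_eq _ _ (by decide +kernel)

theorem nb_eq : nb = zb * zbm * zb * zbm * zb := by
  have h1 : nb = wd [27, 20, 27, 25, 22, 25, 27, 20, 27, 25, 22, 25] := by
    have e0 : n 1 = wd [27, 20, 27] := n_eq_wd 1
    have e3 : n 2 = wd [25, 22, 25] := n_eq_wd 2
    show nw [1, 2, 1, 2] = _
    have h2 : nw [1, 2, 1, 2] = n 1 * n 2 * (n 1 * n 2) := by simp [nw, mul_assoc]
    rw [h2, e0, e3, ← wd_append, ← wd_append]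
    rfl
  have h2 : zb * zbm * zb * zbm * zb = wd [28, 30, 19, 17, 28, 30, 19, 17, 28, 30] := by
    unfold zb zbm
    rw [← wd_append, ← wd_append, ← wd_append, ← wd_append]
    rfl
  rw [h1, h2]
  exact wd_eq _ _ (by decide +kernel)

theorem yb_conj_zbm : yb * zbm * yb⁻¹ = zb * zbm * zb * zbm * zb := by
  have h3 : yb⁻¹ = wd [28, 25, 27] := by
    rw [inv_eq_iff_mul_eq_one]
    unfold yb
    rw [← wd_append, ← wd_nil]
    exact wd_eq _ _ (by decide +kernel)
  have h2 : zb * zbm * zb * zbm * zb = wd [28, 30, 19, 17, 28, 30, 19, 17, 28, 30] := by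
    unfold zb zbm
    rw [← wd_append, ← wd_append, ← wd_append, ← wd_append]
    rfl
  rw [h3, h2]
  unfold yb zbm
  rw [← wd_append, ← wd_append]
  exact wd_eq _ _ (by decide +kernel)

theorem na_mem_TT : na ∈ TT := by
  rw [na_eq]
  exact mul_mem (mul_mem ya_mem_TT yam_mem_TT) ya_mem_TT

theorem nb_mem_TT : nb ∈ TT := by
  rw [nb_eq]
  exact mul_mem (mul_mem (mul_mem (mul_mem zb_mem_TT zbm_mem_TT) zb_mem_TT) zbm_mem_TT) zb_mem_TT

theorem yb_not_mem_TT : yb ∉ TT := by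
  intro h
  have h1 : ybm ∈ TT := by
    rw [← nb_conj_yb]
    exact TT_conj nb_mem_HT h
  have h2 : HT ≤ TT := HT_le ya_mem_TT yam_mem_TT h h1
  have h3 : TT.relIndex HT = 1 := Subgroup.relIndex_eq_one.2 h2
  rw [relIndex_TT] at h3
  exact absurd h3 (by decide)

theorem mul_mem_iff_aux {G : Type*} [Group G] {A B : Subgroup G} (h : A.relIndex B = 2) {a b : G} (ha : a ∈ B)
    (hb : b ∈ B) : a * b ∈ A ↔ (a ∈ A ↔ b ∈ A) := by
  have h1 := Subgroup.mul_mem_iff_of_index_two (H := A.subgroupOf B) h (a := ⟨a, ha⟩) (b := ⟨b, hb⟩)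
  simpa [Subgroup.mem_subgroupOf] using h1

theorem TT_mul_iff {a b : LL} (ha : a ∈ HT) (hb : b ∈ HT) : a * b ∈ TT ↔ (a ∈ TT ↔ b ∈ TT) :=
  mul_mem_iff_aux relIndex_TT ha hb

theorem t74 : ec 74 ∉ TT := by
  rw [← yb_eq]
  exact yb_not_mem_TT
theorem t263172 : ec 263172 ∉ TT := fun h =>
  t74 ((ec_conj_TT [0, 3] (by decide) (by decide +kernel) (by decide +kernel)).1 h)
theorem t4196480 : ec 4196480 ∉ TT := fun h =>
  t74 ((ec_conj_TT [1, 2, 1, 2, 0, 3] (by decide) (by decide +kernel) (by decide +kernel)).1 h)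
theorem t1179680 : ec 1179680 ∉ TT := fun h =>
  t74 ((ec_conj_TT [0, 3, 1, 2, 1, 2, 0, 3] (by decide) (by decide +kernel) (by decide +kernel)).1 h)

theorem gens_par : ∀ g ∈ gens12, (ec g.1 ∈ TT ↔ g.2 = false) := by
  intro g hg
  simp only [gens12, List.mem_cons, List.not_mem_nil, or_false] at hg
  rcases hg with rfl | rfl | rfl | rfl | rfl | rfl | rfl | rfl | rfl | rfl | rfl | rfl
  · exact iff_of_true t513 rfl
  · exact iff_of_false t74 (by decide)
  · exact iff_of_false t263172 (by decide)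
  · exact iff_of_true t80 rfl
  · exact iff_of_false t1179680 (by decide)
  · exact iff_of_false t4196480 (by decide)
  · exact iff_of_true t8448 rfl
  · exact iff_of_true t266240 rfl
  · exact iff_of_true t540672 rfl
  · exact iff_of_true t2129920 rfl
  · exact iff_of_true t4259840 rfl
  · exact iff_of_true t9437184 rfl

theorem lf_mem {gs : List (ℕ × Bool)} (h : ∀ g ∈ gs, ec g.1 ∈ UT) (h' : ∀ g ∈ gs, (ec g.1 ∈ TT ↔ g.2 = false))
    {e : ℕ} {b : Bool} (he : ec e ∈ UT) (hb : ec e ∈ TT ↔ b = false) :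
    ∀ q ∈ lf gs e b, ec q.1 ∈ UT ∧ (ec q.1 ∈ TT ↔ q.2 = false) := by
  induction gs generalizing e b with
  | nil =>
    intro q hq
    rw [lf, List.mem_singleton] at hq
    rw [hq]
    exact ⟨he, hb⟩
  | cons g gs ih =>
    have ih' := fun {e : ℕ} {b : Bool} => ih (fun g' hg' => h g' (List.mem_cons_of_mem _ hg'))
      (fun g' hg' => h' g' (List.mem_cons_of_mem _ hg')) (e := e) (b := b)
    intro q hq
    rw [lf, List.mem_append] at hq
    have hg := h g List.mem_cons_self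
    have hg' := h' g List.mem_cons_self
    rcases hq with hq | hq
    · exact ih' he hb q hq
    · refine ih' ?_ ?_ q hq
      · rw [ec_mulU]
        exact UT.mul_mem he hg
      · rw [ec_mulU, TT_mul_iff he.2 hg.2, hb, hg']
        cases b <;> cases g.2 <;> simp

theorem leaf_mem : ∀ q ∈ lf gens12 0 false, ec q.1 ∈ UT ∧ (ec q.1 ∈ TT ↔ q.2 = false) :=
  lf_mem gens_mem gens_par (by rw [ec_zero]; exact one_mem _) (by rw [ec_zero]; exact iff_of_true (one_mem _) rfl)

theorem leaf_par : ∀ q ∈ lf gens12 0 false, parB q.1 = q.2 ∧ q.1 < 2 ^ 24 := by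
  intro q hq
  have h := allP_spec par12 q hq
  rw [Bool.and_eq_true, beq_iff_eq] at h
  refine ⟨h.1, ?_⟩
  have h2 : q.1 < 16777216 := by
    have h3 := h.2
    rw [Nat.blt_eq] at h3
    exact h3
  exact h2

theorem exists_leaf {g : LL} (hg : g ∈ UT) : ∃ q ∈ lf gens12 0 false, g = ec q.1 := by
  classical
  set L := (lf gens12 0 false).map Prod.fst with hL
  have h1 : L.Nodup := nodup_lf (by decide) sep12
  have h2 : ∀ e ∈ L, e < 2 ^ 24 ∧ ec e ∈ UT := by
    intro e he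
    rw [hL, List.mem_map] at he
    obtain ⟨q, hq, rfl⟩ := he
    exact ⟨(leaf_par q hq).2, (leaf_mem q hq).1⟩
  have h3 : (L.map ec).Nodup := h1.map_on fun a ha b hb hab => ec_inj (h2 a ha).1 (h2 b hb).1 hab
  have h4 : (L.map ec).length = 2 ^ 12 := by
    rw [List.length_map, hL, List.length_map, length_lf]
    rfl
  have h5 : (L.map ec).toFinset.card = 2 ^ 12 := by
    rw [List.toFinset_card_of_nodup h3, h4]
  have h6 : (((L.map ec).toFinset : Finset LL) : Set LL) ⊆ (UT : Set LL) := by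
    intro g hg
    rw [Finset.mem_coe, List.mem_toFinset, List.mem_map] at hg
    obtain ⟨e, he, rfl⟩ := hg
    exact (h2 e he).2
  have h7 : (UT : Set LL).ncard = 2 ^ 12 := by
    rw [← card_UT]
    rfl
  have h8 := Set.eq_of_subset_of_ncard_le h6 (by rw [h7, Set.ncard_coe_finset, h5]) (Set.toFinite _)
  have h9 : g ∈ (((L.map ec).toFinset : Finset LL) : Set LL) := by
    rw [h8]
    exact hg
  rw [Finset.mem_coe, List.mem_toFinset, List.mem_map] at h9
  obtain ⟨e, he, rfl⟩ := h9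
  rw [hL, List.mem_map] at he
  obtain ⟨q, hq, rfl⟩ := he
  exact ⟨q, hq, rfl⟩

/-- check at all codes of `UT` -/
def allU (p : ℕ → Bool) : Bool := allP (fun e _ => p e) gens12 0 false

/-- check at all codes of `UT ⊓ TT` -/
def allS (p : ℕ → Bool) : Bool := allU fun e => cond (parB e) true (p e)

theorem UT_all {p : ℕ → Bool} (h : allU p = true) {g : LL} (hg : g ∈ UT) :
    ∃ e, e < 2 ^ 24 ∧ g = ec e ∧ (g ∈ TT ↔ parB e = false) ∧ p e = true := by
  obtain ⟨q, hq, rfl⟩ := exists_leaf hg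
  have h1 := leaf_par q hq
  refine ⟨q.1, h1.2, rfl, ?_, allP_spec h q hq⟩
  rw [h1.1]
  exact (leaf_mem q hq).2

theorem ST_all {p : ℕ → Bool} (h : allS p = true) {g : LL} (hg : g ∈ UT) (hg' : g ∈ TT) :
    ∃ e, e < 2 ^ 24 ∧ g = ec e ∧ parB e = false ∧ p e = true := by
  obtain ⟨e, he, h1, h2, h3⟩ := UT_all h hg
  have h4 := h2.1 hg'
  refine ⟨e, he, h1, h4, ?_⟩
  rw [h4] at h3
  exact h3

end Cfsg.Agent.TitsK
end

-- part: TitsK/Facts
section
/-!
Facts about `UT`, `ST = UT ⊓ TT` from codes: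

* `UT_le`, `UT_conj_list`: checks on the generators;
* `z`, `z1`, `d`; `z_central`, `conj_z1`, `conj_d`;
* `badW`: an element carried by a Weyl word outside a list;
* `cent_z_cases`, `cent_V_le`, `cent_d_cases`: centralisers in `HT` of `z`, `V`, `d`;
* `invol_cases`: the involutions of `ST`, `conj_z_of_mem`, `conj_d_of_mem`.
-/

set_option autoImplicit false
set_option Elab.async false

namespace Cfsg.Agent.TitsK

open Cfsg.Lie Cfsg.Agent.ChevalleyStructure.TwF4.Tables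
open Cfsg.Agent.FourTwo.Base hiding bar bar_lt
open Cfsg.Agent.FourTwo.BN Cfsg.Agent.FourTwo.Comm Cfsg.Agent.FourTwo.Classes
open Cfsg.Agent.FourTwo.UCode (mulU invU conjU lets colW colF force force_eq mem_lets wel_lets wel_mem)

/-- the 2-central involution of `ST` -/
def z : LL := ec 9437184
/-- the second involution of `Z_2(ST)` -/
def z1 : LL := ec 4259840
/-- an involution which is not 2-central -/
def d : LL := ec 2129920

theorem z_mem : z ∈ UT := ec9437184
theorem z1_mem : z1 ∈ UT := ec4259840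
theorem d_mem : d ∈ UT := ec2129920
theorem z_mem_TT : z ∈ TT := t9437184
theorem z1_mem_TT : z1 ∈ TT := t4259840
theorem d_mem_TT : d ∈ TT := t2129920

theorem z_sq : z * z = 1 := by
  have h : mulU 9437184 9437184 = 0 := by decide +kernel
  unfold z
  rw [← ec_mulU, h, ec_zero]

theorem z1_sq : z1 * z1 = 1 := by
  have h : mulU 4259840 4259840 = 0 := by decide +kernel
  unfold z1
  rw [← ec_mulU, h, ec_zero]

theorem d_sq : d * d = 1 := by
  have h : mulU 2129920 2129920 = 0 := by decide +kernel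
  unfold d
  rw [← ec_mulU, h, ec_zero]

theorem ec_ne_one {e : ℕ} (h : e < 2 ^ 24) (h0 : e ≠ 0) : ec e ≠ 1 := by
  rw [← ec_zero]
  exact fun h1 => h0 (ec_inj h (by norm_num) h1)

theorem z_ne : z ≠ 1 := ec_ne_one (by norm_num) (by norm_num)
theorem z1_ne : z1 ≠ 1 := ec_ne_one (by norm_num) (by norm_num)
theorem d_ne : d ≠ 1 := ec_ne_one (by norm_num) (by norm_num)

theorem z_mul_z1 : z * z1 = ec 13697024 := by
  have h : mulU 9437184 4259840 = 13697024 := by decide +kernel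
  unfold z z1
  rw [← ec_mulU, h]

theorem z1_mul_z : z1 * z = ec 13697024 := by
  have h : mulU 4259840 9437184 = 13697024 := by decide +kernel
  unfold z z1
  rw [← ec_mulU, h]

/-! ### checks on the generators -/

theorem UT_induct {P : LL → Prop} (h1 : P 1) (h2 : ∀ a, ∀ g ∈ gens12, P a → P (a * ec g.1)) {u : LL} (hu : u ∈ UT) :
    P u := by
  have key : ∀ gs : List (ℕ × Bool), (∀ g ∈ gs, g ∈ gens12) → ∀ e b, P (ec e) → ∀ q ∈ lf gs e b, P (ec q.1) := by
    intro gs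
    induction gs with
    | nil =>
      intro _ e b he q hq
      rw [lf, List.mem_singleton] at hq
      rw [hq]
      exact he
    | cons g gs ih =>
      intro hgs e b he q hq
      have hgs' := fun g' hg' => hgs g' (List.mem_cons_of_mem _ hg')
      rw [lf, List.mem_append] at hq
      rcases hq with hq | hq
      · exact ih hgs' e b he q hq
      · refine ih hgs' _ _ ?_ q hq
        rw [ec_mulU]
        exact h2 _ g (hgs g List.mem_cons_self) he
  obtain ⟨q, hq, rfl⟩ := exists_leaf hu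
  exact key gens12 (fun _ h => h) 0 false (by rw [ec_zero]; exact h1) q hq

theorem UT_conj_list {L : List ℕ} (h : (gens12.all fun g => L.all fun e => L.contains (conjU g.1 e)) = true) {u : LL}
    (hu : u ∈ UT) : ∀ e ∈ L, ∃ e' ∈ L, u * ec e * u⁻¹ = ec e' := by
  refine UT_induct (P := fun u => ∀ e ∈ L, ∃ e' ∈ L, u * ec e * u⁻¹ = ec e') ?_ ?_ hu
  · exact fun e he => ⟨e, he, by group⟩
  · intro a g hg ha e he
    rw [List.all_eq_true] at h
    have h1 := h g hg
    rw [List.all_eq_true] at h1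
    have h2 := h1 e he
    rw [List.contains_iff_mem] at h2
    obtain ⟨e', he', h3⟩ := ha _ h2
    refine ⟨e', he', ?_⟩
    rw [← h3, ec_conjU]
    group

theorem z_central {u : LL} (hu : u ∈ UT) : u * z * u⁻¹ = z := by
  obtain ⟨e, he, h⟩ := UT_conj_list (L := [9437184]) (by decide +kernel) hu 9437184 (by simp)
  rw [List.mem_singleton] at he
  rw [he] at h
  exact h

theorem conj_z1 {u : LL} (hu : u ∈ UT) : u * z1 * u⁻¹ = z1 ∨ u * z1 * u⁻¹ = z * z1 := by
  obtain ⟨e, he, h⟩ := UT_conj_list (L := [4259840, 13697024]) (by decide +kernel) hu 4259840 (by simp)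
  simp only [List.mem_cons, List.not_mem_nil, or_false] at he
  rw [z_mul_z1]
  rcases he with he | he
  · left
    rw [he] at h
    exact h
  · right
    rw [he] at h
    exact h

/-- the conjugates of `d` -/
def D4 : List ℕ := [2129920, 6389760, 11567104, 15826944]

theorem conj_D4 {u : LL} (hu : u ∈ UT) : ∀ e ∈ D4, ∃ e' ∈ D4, u * ec e * u⁻¹ = ec e' :=
  UT_conj_list (by decide +kernel) hu

/-! ### Weyl words -/

/-- the letters of `e` which stay positive -/
def posP (w : List ℕ) (e : ℕ) : List ℕ := (lets e).filter fun j => decide (24 ≤ act w (24 + j))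
/-- the letters of `e` which become negative -/
def negP (w : List ℕ) (e : ℕ) : List ℕ := (lets e).filter fun j => !decide (24 ≤ act w (24 + j))

/-- `w` carries `ec e` outside `U` -/
def outW (w : List ℕ) (e : ℕ) : Bool :=
  Nat.beq (colW (posP w e ++ negP w e)) e && !Nat.beq (colW (negP w e)) 0 && Nat.blt (colW (negP w e)) 16777216

/-- `w` does not carry `ec e` to an element of the list -/
def badW (w : List ℕ) (e : ℕ) (L : List ℕ) : Bool :=
  outW w e || (posW w e && Nat.blt (reflW w e) 16777216 && !L.contains (reflW w e))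

theorem not_mem_U {w : List ℕ} (hw : ∀ i ∈ w, i < 4) {e : ℕ} (h : outW w e = true) :
    nw w * ec e * (nw w)⁻¹ ∉ U := by
  unfold outW at h
  rw [Bool.and_eq_true, Bool.and_eq_true] at h
  obtain ⟨⟨h1, h2⟩, h3⟩ := h
  have h1 := Nat.eq_of_beq_eq_true h1
  have h3 : colW (negP w e) < 16777216 := by
    rw [Nat.blt_eq] at h3
    exact h3
  have h2 : colW (negP w e) ≠ 0 := by
    intro h4
    rw [h4] at h2
    exact absurd h2 (by decide)
  have hp : ∀ c ∈ posP w e, c < 24 ∧ 24 ≤ act w (24 + c) := by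
    intro c hc
    unfold posP at hc
    rw [List.mem_filter] at hc
    exact ⟨(mem_lets.1 hc.1).1, of_decide_eq_true hc.2⟩
  have hn : ∀ c ∈ negP w e, c < 24 ∧ act w (24 + c) < 24 := by
    intro c hc
    unfold negP at hc
    rw [List.mem_filter, Bool.not_eq_true', decide_eq_false_iff_not] at hc
    exact ⟨(mem_lets.1 hc.1).1, by omega⟩
  intro hU
  have hp' : ∀ c ∈ posP w e, c < 24 := fun c hc => (hp c hc).1
  have hn' : ∀ c ∈ negP w e, c < 24 := fun c hc => (hn c hc).1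
  have e1 : ec e = wd ((posP w e).map fun j => 24 + j) * wd ((negP w e).map fun j => 24 + j) := by
    rw [← wd_append, ← List.map_append, wd_eq_ec, h1]
    intro c hc
    rw [List.mem_append] at hc
    rcases hc with hc | hc
    · exact hp' c hc
    · exact hn' c hc
  set a := nw w * wd ((posP w e).map fun j => 24 + j) * (nw w)⁻¹ with ha
  set b := nw w * wd ((negP w e).map fun j => 24 + j) * (nw w)⁻¹ with hb
  have hpl : ∀ r ∈ (posP w e).map (fun j => 24 + j), r < 48 := by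
    intro r hr
    rw [List.mem_map] at hr
    obtain ⟨j, hj, rfl⟩ := hr
    have := hp' j hj
    omega
  have hnl : ∀ r ∈ (negP w e).map (fun j => 24 + j), r < 48 := by
    intro r hr
    rw [List.mem_map] at hr
    obtain ⟨j, hj, rfl⟩ := hr
    have := hn' j hj
    omega
  have e2 : nw w * ec e * (nw w)⁻¹ = a * b := by
    rw [e1, ha, hb]
    group
  have haU : a ∈ U := by
    rw [ha, nw_conj_wd hw hpl]
    refine wd_mem_U fun r hr => ?_
    rw [List.mem_map] at hr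
    obtain ⟨s, hs, rfl⟩ := hr
    refine ⟨?_, act_lt hw (hpl s hs)⟩
    rw [List.mem_map] at hs
    obtain ⟨j, hj, rfl⟩ := hs
    exact (hp j hj).2
  have hbV : b ∈ V := by
    rw [hb, nw_conj_wd hw hnl]
    refine wd_mem fun r hr => ?_
    rw [List.mem_map] at hr
    obtain ⟨s, hs, rfl⟩ := hr
    apply x_mem_V
    rw [List.mem_map] at hs
    obtain ⟨j, hj, rfl⟩ := hs
    exact (hn j hj).2
  rw [e2] at hU
  have hbU : b ∈ U := by
    have h5 := U.mul_mem (U.inv_mem haU) hU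
    rw [inv_mul_cancel_left] at h5
    exact h5
  have h6 : b ∈ U ⊓ V := ⟨hbU, hbV⟩
  rw [U_inf_V, Subgroup.mem_bot, hb] at h6
  have h7 : wd ((negP w e).map fun j => 24 + j) = 1 := by
    have h8 : wd ((negP w e).map fun j => 24 + j) =
        (nw w)⁻¹ * (nw w * wd ((negP w e).map fun j => 24 + j) * (nw w)⁻¹) * nw w := by group
    rw [h8, h6]
    group
  rw [wd_eq_ec _ hn', ← ec_zero] at h7
  exact h2 (ec_inj h3 (by norm_num) h7)

theorem not_mem_of_badW {w : List ℕ} (hw : ∀ i ∈ w, i < 4) {e : ℕ} {L : List ℕ} (hL : ∀ e' ∈ L, e' < 2 ^ 24)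
    (h : badW w e L = true) {e' : ℕ} (he' : e' ∈ L) : nw w * ec e * (nw w)⁻¹ ≠ ec e' := by
  intro h1
  unfold badW at h
  rw [Bool.or_eq_true, Bool.and_eq_true, Bool.and_eq_true] at h
  rcases h with h | ⟨⟨h2, h3⟩, h4⟩
  · apply not_mem_U hw h
    rw [h1]
    exact ec_mem_U e'
  · rw [nw_conj_ec hw h2] at h1
    rw [Nat.blt_eq] at h3
    have h5 := ec_inj h3 (hL e' he') h1
    rw [h5, Bool.not_eq_true', ← Bool.not_eq_true] at h4
    exact h4 (List.contains_iff_mem.2 he')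

/-! ### the centraliser of `z` -/

theorem W_z : (W16.all fun w => w == [] || w == [1, 2, 1, 2] || badW w 9437184 [9437184]) = true := by decide +kernel

theorem cent_z_cases {g : LL} (hg : g ∈ HT) (h : g * z * g⁻¹ = z) :
    ∃ u ∈ UT, ∃ v ∈ UT, g = u * v ∨ g = u * nb * v := by
  obtain ⟨u, hu, w, hw, v, hv, rfl⟩ := bruhat_HT hg
  refine ⟨u, hu, v, hv, ?_⟩
  have h1 : nw w * z * (nw w)⁻¹ = z := by
    have e : nw w * z * (nw w)⁻¹ = u⁻¹ * (u * nw w * v * (v⁻¹ * z * (v⁻¹)⁻¹) * (u * nw w * v)⁻¹) * (u⁻¹)⁻¹ := by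
      group
    rw [e, z_central (inv_mem hv), h, z_central (inv_mem hu)]
  have h2 := W_z
  rw [List.all_eq_true] at h2
  have h3 := h2 w hw
  rw [Bool.or_eq_true, Bool.or_eq_true, beq_iff_eq, beq_iff_eq] at h3
  rcases h3 with (h3 | h3) | h3
  · left
    rw [h3]
    show u * 1 * v = u * v
    rw [mul_one]
  · right
    rw [h3]
    rfl
  · exact absurd h1 (not_mem_of_badW (lt_of_mem_W16 hw) (by simp) h3 (List.mem_singleton.2 rfl))

/-- `nb` fixes `z` -/
theorem nb_conj_z : nb * z * nb⁻¹ = z := by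
  have h := nw_conj_ec (w := [1, 2, 1, 2]) (e := 9437184) (by decide) (by decide +kernel)
  have e : reflW [1, 2, 1, 2] 9437184 = 9437184 := by decide +kernel
  rw [e] at h
  exact h

theorem nb_conj_z1 : nb * z1 * nb⁻¹ = ec 266240 := by
  have h := nw_conj_ec (w := [1, 2, 1, 2]) (e := 4259840) (by decide) (by decide +kernel)
  have e : reflW [1, 2, 1, 2] 4259840 = 266240 := by decide +kernel
  rw [e] at h
  exact h

theorem na_conj_z : na * z * na⁻¹ = z1 := by
  have h := nw_conj_ec (w := [0, 3]) (e := 9437184) (by decide) (by decide +kernel)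
  have e : reflW [0, 3] 9437184 = 4259840 := by decide +kernel
  rw [e] at h
  exact h

/-- the centraliser of `V = ⟨z, z1⟩` lies in `UT` -/
theorem cent_V_le {g : LL} (hg : g ∈ HT) (h : g * z * g⁻¹ = z) (h1 : g * z1 * g⁻¹ = z1) : g ∈ UT := by
  obtain ⟨u, hu, v, hv, rfl | rfl⟩ := cent_z_cases hg h
  · exact UT.mul_mem hu hv
  · exfalso
    have h2 : nb * (v * z1 * v⁻¹) * nb⁻¹ = u⁻¹ * z1 * (u⁻¹)⁻¹ := by
      have e : nb * (v * z1 * v⁻¹) * nb⁻¹ = u⁻¹ * (u * nb * v * z1 * (u * nb * v)⁻¹) * (u⁻¹)⁻¹ := by group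
      rw [e, h1]
    have h3 : nb * (z * z1) * nb⁻¹ = z * ec 266240 := by
      have e : nb * (z * z1) * nb⁻¹ = nb * z * nb⁻¹ * (nb * z1 * nb⁻¹) := by group
      rw [e, nb_conj_z, nb_conj_z1]
    have h4 : z * ec 266240 = ec 9703424 := by
      have h5 : mulU 9437184 266240 = 9703424 := by decide +kernel
      unfold z
      rw [← ec_mulU, h5]
    have key : ∀ a b : ℕ, a < 2 ^ 24 → b < 2 ^ 24 → a ≠ b → ec a = ec b → False := fun a b ha hb hab he =>
      hab (ec_inj ha hb he)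
    rcases conj_z1 hv with e1 | e1 <;> rcases conj_z1 (inv_mem hu) with e2 | e2
    · rw [e1, e2, nb_conj_z1] at h2
      exact key 266240 4259840 (by norm_num) (by norm_num) (by norm_num) h2
    · rw [e1, e2, nb_conj_z1, z_mul_z1] at h2
      exact key 266240 13697024 (by norm_num) (by norm_num) (by norm_num) h2
    · rw [e1, e2, h3, h4] at h2
      exact key 9703424 4259840 (by norm_num) (by norm_num) (by norm_num) h2
    · rw [e1, e2, h3, h4, z_mul_z1] at h2
      exact key 9703424 13697024 (by norm_num) (by norm_num) (by norm_num) h2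

/-! ### the centraliser of `d` -/

theorem W_d : (W16.all fun w => w == [] || w == [0, 3] || D4.all fun e => badW w e D4) = true := by decide +kernel

theorem cent_d_cases {g : LL} (hg : g ∈ HT) (h : g * d * g⁻¹ = d) :
    ∃ u ∈ UT, ∃ v ∈ UT, g = u * v ∨ g = u * na * v := by
  obtain ⟨u, hu, w, hw, v, hv, rfl⟩ := bruhat_HT hg
  refine ⟨u, hu, v, hv, ?_⟩
  obtain ⟨e, he, h1⟩ := conj_D4 hv 2129920 (by decide)
  obtain ⟨e', he', h1'⟩ := conj_D4 (inv_mem hu) 2129920 (by decide)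
  have h4 : nw w * ec e * (nw w)⁻¹ = ec e' := by
    rw [← h1, ← h1']
    have e : nw w * (v * ec 2129920 * v⁻¹) * (nw w)⁻¹ = u⁻¹ * (u * nw w * v * d * (u * nw w * v)⁻¹) * (u⁻¹)⁻¹ := by
      unfold d
      group
    rw [e, h]
    rfl
  have h2 := W_d
  rw [List.all_eq_true] at h2
  have h3 := h2 w hw
  rw [Bool.or_eq_true, Bool.or_eq_true, beq_iff_eq, beq_iff_eq] at h3
  rcases h3 with (h3 | h3) | h3
  · left
    rw [h3]
    show u * 1 * v = u * v
    rw [mul_one]
  · right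
    rw [h3]
    rfl
  · rw [List.all_eq_true] at h3
    exact absurd h4 (not_mem_of_badW (lt_of_mem_W16 hw) (by decide) (h3 e he) he')

end Cfsg.Agent.TitsK
end

-- part: TitsK/Table
section
/-!
Tables of the conjugates of `z` and of `d` in `ST` (paths in `TT`): `LA_spec`, `LB_spec`.
-/

set_option autoImplicit false
set_option Elab.async false

namespace Cfsg.Agent.TitsK

open Cfsg.Lie Cfsg.Agent.ChevalleyStructure.TwF4.Tables
open Cfsg.Agent.FourTwo.Base hiding bar bar_lt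
open Cfsg.Agent.FourTwo.BN Cfsg.Agent.FourTwo.Comm Cfsg.Agent.FourTwo.Classes
open Cfsg.Agent.FourTwo.UCode (mulU invU conjU lets colW colF force force_eq mem_lets wel_lets wel_mem)

/-! ### conjugation tables -/

/-- the conjugating elements of the tables -/
def K9 : List ℕ := [80, 513, 8448, 76186, 252958, 263662, 1179754, 4196554, 8519738]

theorem t263662 : ec 263662 ∈ TT := by
  have h : mulU 74 263172 = 263662 := by decide +kernel
  rw [← h, ec_mulU, TT_mul_iff ec74.2 ec263172.2]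
  exact iff_of_false t74 t263172

theorem t1179754 : ec 1179754 ∈ TT := by
  have h : mulU 74 1179680 = 1179754 := by decide +kernel
  rw [← h, ec_mulU, TT_mul_iff ec74.2 ec1179680.2]
  exact iff_of_false t74 t1179680

theorem t4196554 : ec 4196554 ∈ TT := by
  have h : mulU 74 4196480 = 4196554 := by decide +kernel
  rw [← h, ec_mulU, TT_mul_iff ec74.2 ec4196480.2]
  exact iff_of_false t74 t4196480

theorem t252958 : ec 252958 ∈ TT := by
  have h : invU 263662 = 252958 := by decide +kernel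
  rw [← h, ec_invU]
  exact TT.inv_mem t263662

theorem t8519738 : ec 8519738 ∈ TT := by
  have h : invU 1179754 = 8519738 := by decide +kernel
  rw [← h, ec_invU]
  exact TT.inv_mem t1179754

theorem t76186 : ec 76186 ∈ TT := by
  have h : invU 4196554 = 76186 := by decide +kernel
  rw [← h, ec_invU]
  exact TT.inv_mem t4196554

theorem K9_mem : ∀ k ∈ K9, ec k ∈ TT := by
  intro k hk
  simp only [K9, List.mem_cons, List.not_mem_nil, or_false] at hk
  rcases hk with rfl | rfl | rfl | rfl | rfl | rfl | rfl | rfl | rfl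
  · exact t80
  · exact t513
  · exact t8448
  · exact t76186
  · exact t252958
  · exact t263662
  · exact t1179754
  · exact t4196554
  · exact t8519738

/-- one step of a table: `(e, k, f)` -/
def stepT (q : ℕ × ℕ × ℕ) : Bool :=
  (Nat.beq q.2.1 0 && (posW [0, 3] q.1 && Nat.beq (reflW [0, 3] q.1) q.2.2)) ||
  (Nat.beq q.2.1 1 && (posW [1, 2, 1, 2] q.1 && Nat.beq (reflW [1, 2, 1, 2] q.1) q.2.2)) ||
  (K9.contains q.2.1 && Nat.beq (conjU q.2.1 q.1) q.2.2)

theorem stepT_spec {q : ℕ × ℕ × ℕ} (h : stepT q = true) : ∃ t ∈ TT, t * ec q.1 * t⁻¹ = ec q.2.2 := by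
  unfold stepT at h
  rw [Bool.or_eq_true, Bool.or_eq_true, Bool.and_eq_true, Bool.and_eq_true, Bool.and_eq_true, Bool.and_eq_true,
    Bool.and_eq_true] at h
  rcases h with (⟨-, h1, h2⟩ | ⟨-, h1, h2⟩) | ⟨h1, h2⟩
  · refine ⟨na, na_mem_TT, ?_⟩
    rw [← Nat.eq_of_beq_eq_true h2]
    exact nw_conj_ec (by decide) h1
  · refine ⟨nb, nb_mem_TT, ?_⟩
    rw [← Nat.eq_of_beq_eq_true h2]
    exact nw_conj_ec (by decide) h1
  · rw [List.contains_iff_mem] at h1
    refine ⟨ec q.2.1, K9_mem _ h1, ?_⟩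
    rw [← Nat.eq_of_beq_eq_true h2, ec_conjU]

/-- check of a table with root `r` -/
def okT (r : ℕ) : List (ℕ × ℕ × ℕ) → Bool
  | [] => true
  | q :: T => okT r T && (stepT q && (Nat.beq q.2.2 r || (T.map Prod.fst).contains q.2.2))

theorem okT_spec {r : ℕ} {T : List (ℕ × ℕ × ℕ)} (h : okT r T = true) :
    ∀ e ∈ T.map Prod.fst, ∃ t ∈ TT, t * ec e * t⁻¹ = ec r := by
  induction T with
  | nil => intro e he; simp at he
  | cons q T ih =>
    unfold okT at h
    rw [Bool.and_eq_true, Bool.and_eq_true, Bool.or_eq_true] at h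
    obtain ⟨h1, h2, h3⟩ := h
    intro e he
    rw [List.map_cons, List.mem_cons] at he
    rcases he with rfl | he
    · obtain ⟨t, ht, h4⟩ := stepT_spec h2
      rcases h3 with h3 | h3
      · rw [Nat.eq_of_beq_eq_true h3] at h4
        exact ⟨t, ht, h4⟩
      · rw [List.contains_iff_mem] at h3
        obtain ⟨s, hs, h5⟩ := ih h1 _ h3
        refine ⟨s * t, TT.mul_mem hs ht, ?_⟩
        rw [← h5, ← h4]
        group
    · exact ih h1 e he

/-- the table of the conjugates of `z` in `ST` -/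
def TA : List (ℕ × ℕ × ℕ) := [(10950896, 513, 15835472), (10418672, 80, 3045872), (5675248, 513, 9445712), (8886512, 513, 13705552),
  (7739632, 513, 11575632), (5241328, 513, 15827024), (16742896, 513, 4259920), (11567184, 0, 6656000),
  (15835472, 252958, 80), (3045872, 513, 80), (9445712, 0, 5066752), (13705552, 0, 14503936), (11575632, 0,
  7196672), (15827024, 0, 16093184), (4259920, 0, 9703424), (16633856, 252958, 9703424), (6656000, 80, 9703424),
  (80, 0, 266240), (5066752, 4196554, 266240), (14503936, 263662, 266240), (7196672, 252958, 266240), (16093184,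
  80, 266240), (9703424, 1, 13697024), (266240, 1, 4259840), (13697024, 513, 4259840), (4259840, 0, 9437184)]

/-- the table of the conjugates of `d` in `ST` -/
def TB : List (ℕ × ℕ × ℕ) := [(16509857, 76186, 12926853), (1997729, 252958, 12926853), (15839109, 513, 12926853), (9337761, 263662,
  13596453), (6530853, 513, 13596453), (13056929, 252958, 8257413), (3456901, 8448, 8257413), (7846817, 4196554,
  7071525), (2272161, 263662, 7071525), (5716897, 76186, 12165), (14249861, 8448, 12165), (1867653, 4196554,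
  142241), (6401925, 263662, 142241), (11709345, 513, 142241), (15186849, 80, 266753), (12374529, 1, 16376064),
  (9207685, 76186, 2671105), (10796933, 8519738, 2671105), (15968037, 263662, 2671105), (4812677, 252958,
  2671105), (7072673, 80, 2671105), (2937345, 1, 6938880), (13055781, 4196554, 541185), (3585829, 1179754,
  541185), (141093, 263662, 541185), (4942753, 80, 541185), (2130433, 1, 549120), (681765, 4196554, 10244609),
  (4127649, 80, 10244609), (2396673, 1, 4808960), (5715749, 4196554, 9978369), (10925861, 1179754, 9978369),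
  (9578277, 263662, 9978369), (2682757, 252958, 9978369), (14379937, 80, 9978369), (11567617, 1, 9986304),
  (10118949, 4196554, 807425), (12119941, 8519738, 807425), (11467681, 80, 807425), (11833857, 1, 14246144),
  (4126501, 4196554, 9437697), (5586821, 76186, 9437697), (6256421, 1179754, 9437697), (15597445, 8519738,
  9437697), (16508709, 263662, 9437697), (9449349, 252958, 9437697), (9579425, 80, 9437697), (12108289, 1,
  12116224), (9703937, 1, 13705472), (3610864, 252958, 1546480), (7305712, 513, 13697104), (14678512, 513,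
  6389840), (981488, 513, 2130000), (12483056, 513, 9437264), (15079664, 513, 2138448), (11466533, 4196554,
  513), (12926853, 76186, 513), (13596453, 1179754, 513), (8257413, 8519738, 513), (7071525, 263662, 513),
  (12165, 252958, 513), (142241, 80, 513), (266753, 1, 4268288), (16376064, 513, 4268288), (2671105, 1,
  2679040), (6938880, 80, 2679040), (541185, 1, 2138368), (549120, 513, 2138368), (10244609, 1, 15835392),
  (4808960, 513, 15835392), (9978369, 1, 11575552), (9986304, 513, 11575552), (807425, 1, 6398208), (14246144,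
  513, 6398208), (9437697, 1, 9445632), (12116224, 513, 9445632), (13705472, 0, 14237696), (13015280, 513,
  8528), (6398288, 0, 12374016), (1546480, 513, 4268368), (13697104, 0, 13963264), (6389840, 0, 11833344),
  (2130000, 0, 2396160), (9437264, 0, 4526080), (2138448, 0, 2936832), (513, 1, 8448), (4268288, 8519738, 8448),
  (2679040, 513, 8448), (2138368, 0, 2670592), (15835392, 0, 16367616), (11575552, 0, 6930432), (6398208, 0,
  12107776), (9445632, 0, 4800512), (14237696, 513, 4800512), (8528, 0, 806912), (12374016, 80, 806912),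
  (4268368, 0, 10244096), (13963264, 76186, 10244096), (11833344, 1179754, 10244096), (2396160, 263662,
  10244096), (4526080, 252958, 10244096), (2936832, 80, 10244096), (9977856, 1, 11567104), (8448, 0, 540672),
  (2670592, 76186, 540672), (16367616, 1179754, 540672), (6930432, 263662, 540672), (12107776, 252958, 540672),
  (4800512, 80, 540672), (806912, 1, 6389760), (10244096, 1, 15826944), (11567104, 8519738, 15826944), (540672,
  1, 2129920), (6389760, 8519738, 2129920), (15826944, 252958, 2129920)]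

theorem okTA : okT 9437184 TA = true := by decide +kernel
theorem okTB : okT 2129920 TB = true := by decide +kernel

/-- the conjugates of `z` in `ST` -/
def LA : List ℕ := 9437184 :: TA.map Prod.fst
/-- the conjugates of `d` in `ST` -/
def LB : List ℕ := 2129920 :: TB.map Prod.fst

theorem LA_spec : ∀ e ∈ LA, ∃ t ∈ TT, t * ec e * t⁻¹ = z := by
  intro e he
  unfold LA at he
  rw [List.mem_cons] at he
  rcases he with rfl | he
  · exact ⟨1, TT.one_mem, by unfold z; group⟩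
  · exact okT_spec okTA e he

theorem LB_spec : ∀ e ∈ LB, ∃ t ∈ TT, t * ec e * t⁻¹ = d := by
  intro e he
  unfold LB at he
  rw [List.mem_cons] at he
  rcases he with rfl | he
  · exact ⟨1, TT.one_mem, by unfold d; group⟩
  · exact okT_spec okTB e he

/-- membership in a list of codes, fast in the kernel -/
def memB (e : ℕ) (L : List ℕ) : Bool := List.rec false (fun a _ ih => cond (Nat.beq e a) true ih) L

theorem memB_spec {e : ℕ} {L : List ℕ} (h : memB e L = true) : e ∈ L := by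
  induction L with
  | nil =>
    have h1 : memB e [] = false := rfl
    rw [h1] at h
    exact absurd h (by decide)
  | cons a L ih =>
    have h1 : cond (Nat.beq e a) true (memB e L) = true := h
    cases h2 : Nat.beq e a with
    | false =>
      rw [h2] at h1
      exact List.mem_cons_of_mem _ (ih h1)
    | true =>
      rw [Nat.eq_of_beq_eq_true h2]
      exact List.mem_cons_self

end Cfsg.Agent.TitsK
end

-- part: TitsK/Bound
section
/-!
The codes stay below `2 ^ 24`: `mulU_lt`, `invU_lt`, `conjU_lt`, `colW_lt`.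
-/

set_option autoImplicit false

namespace Cfsg.Agent.TitsK

open Cfsg.Agent.FourTwo.UCode

theorem insAll_lt {f : ℕ → ℕ → ℕ} (hf : ∀ e k, e < 2 ^ 24 → k < 24 → f e k < 2 ^ 24) (e : ℕ) :
    ∀ (l : List Ent) (acc : ℕ), (∀ a ∈ l, a.2.1 < 24 ∧ ∀ c ∈ a.2.2, c < 24) → acc < 2 ^ 24 →
      insAll f e l acc < 2 ^ 24
  | [], acc, _, h => h
  | a :: l, acc, h, hacc => by
    have ih := insAll_lt hf e l
    have hl := fun b hb => h b (List.mem_cons_of_mem a hb)
    have ha := h a List.mem_cons_self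
    have hfold : ∀ (cs : List ℕ) (acc : ℕ), (∀ c ∈ cs, c < 24) → acc < 2 ^ 24 →
        (List.rec (motive := fun _ => ℕ → ℕ) (fun acc => acc)
          (fun c _ ih' acc => force (f acc c) ih') cs acc : ℕ) < 2 ^ 24 := by
      intro cs
      induction cs with
      | nil => intro acc _ h; exact h
      | cons c cs ihc =>
        intro acc hc hacc
        show force (f acc c) (fun acc => (List.rec (motive := fun _ => ℕ → ℕ) (fun acc => acc)
          (fun c _ ih' acc => force (f acc c) ih') cs acc : ℕ)) < 2 ^ 24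
        rw [force_eq]
        exact ihc _ (fun d hd => hc d (List.mem_cons_of_mem _ hd)) (hf _ _ hacc (hc c List.mem_cons_self))
    show cond (Nat.beq (Nat.land e a.1) 0) (insAll f e l acc)
      (force (f (List.rec (motive := fun _ => ℕ → ℕ) (fun acc => acc)
        (fun c _ ih' acc => force (f acc c) ih') a.2.2 acc) a.2.1) (insAll f e l)) < 2 ^ 24
    cases Nat.beq (Nat.land e a.1) 0
    · rw [cond_false, force_eq]
      exact ih _ hl (hf _ _ (hfold _ _ ha.2 hacc) ha.1)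
    · rw [cond_true]
      exact ih _ hl hacc

theorem mg_lt : ∀ (n e j : ℕ), e < 2 ^ 24 → j < 24 → mg n e j < 2 ^ 24
  | 0, e, j, he, _ => he
  | n + 1, e, j, he, hj => by
    have hrow := chkRow_of hj
    unfold chkRow at hrow
    rw [Bool.and_eq_true, Bool.and_eq_true, Bool.and_eq_true] at hrow
    obtain ⟨⟨⟨h1, h2⟩, h3⟩, -⟩ := hrow
    have h1 := of_decide_eq_true h1
    have h2 := of_decide_eq_true h2
    have h3 := of_decide_eq_true h3
    have hp : 2 ^ j < 2 ^ 24 := Nat.pow_lt_pow_right (by norm_num) hj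
    rw [mg_succ, h1, h2, h3]
    cases Nat.beq (Nat.land e (row j).2.1) 0
    · rw [cond_false]
      refine insAll_lt (fun e k he hk => mg_lt n e k he hk) e _ _ ?_ ?_
      · intro a ha
        unfold want at ha
        rw [List.mem_map] at ha
        obtain ⟨k, hk, rfl⟩ := ha
        rw [List.mem_range'_1] at hk
        exact ⟨by show k < 24; omega, fun c hc => ((cs_facts (by omega) (by omega)).1 c hc).2⟩
      · have h4 : Nat.mod e (2 ^ (j + 1)) ≤ e := Nat.mod_le _ _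
        exact Nat.xor_lt_two_pow (lt_of_le_of_lt h4 he) hp
    · rw [cond_true]
      exact Nat.xor_lt_two_pow he hp

theorem colF_lt : ∀ (w : List ℕ) (e : ℕ), (∀ c ∈ w, c < 24) → e < 2 ^ 24 → colF w e < 2 ^ 24
  | [], _, _, h => h
  | c :: w, e, h, he => by
    show force (mg 24 e c) (colF w) < 2 ^ 24
    rw [force_eq]
    exact colF_lt w _ (fun d hd => h d (List.mem_cons_of_mem _ hd)) (mg_lt 24 e c he (h c List.mem_cons_self))

theorem mulU_lt {a : ℕ} (ha : a < 2 ^ 24) (b : ℕ) : mulU a b < 2 ^ 24 :=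
  colF_lt _ _ (fun _ hc => (mem_lets.1 hc).1) ha

theorem invU_lt (a : ℕ) : invU a < 2 ^ 24 :=
  colF_lt _ _ (fun _ hc => (mem_lets.1 (List.mem_reverse.1 hc)).1) (by norm_num)

theorem conjU_lt {c : ℕ} (hc : c < 2 ^ 24) (a : ℕ) : conjU c a < 2 ^ 24 := by
  unfold conjU
  rw [force_eq]
  exact colF_lt _ _ (fun _ hd => (mem_lets.1 (List.mem_reverse.1 hd)).1) (mulU_lt hc a)

end Cfsg.Agent.TitsK
end

private theorem dce_2a9ba3b32fce : _root_.True := by
  try have : _root_.True := by simp only [_root_.Cfsg.Agent.TitsK.lf.eq_1]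
  try have : _root_.True := by simp only [_root_.Cfsg.Agent.TitsK.K9.eq_1]
  try have : _root_.True := by simp only [_root_.Cfsg.Agent.TitsK.gens12.eq_1]
  try have : _root_.True := by simp only [_root_.Cfsg.Agent.TitsK.lf.eq_2]
  try have : _root_.True := by simp only [_root_.Cfsg.Agent.TitsK.lf.eq_def]
  try have : _root_.True := by simp only [_root_.Cfsg.Agent.TitsK.okT.eq_def]
  exact _root_.True.intro
end

-- part: TitsK/EnumB
section
set_option linter.all false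
open scoped Cfsg.Agent.FastGrp

/-!
Kernel enumerations in `UT`: `cent_UT`, `zee_two`, `kill_spec`.
-/

set_option autoImplicit false
set_option Elab.async false

namespace Cfsg.Agent.TitsK

open Cfsg.Lie Cfsg.Agent.ChevalleyStructure.TwF4.Tables
open Cfsg.Agent.FourTwo.Base hiding bar bar_lt
open Cfsg.Agent.FourTwo.BN Cfsg.Agent.FourTwo.Comm Cfsg.Agent.FourTwo.Classes
open Cfsg.Agent.FourTwo.UCode (mulU invU conjU lets colW colF force force_eq mem_lets wel_lets wel_mem)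

/-! ### fast arithmetic in `UT`: the 4096 codes are numbered, products are read from tables -/

namespace Ix

/-- the codes -/
def CT : ℕ := 0x1bb21f0b9c1e25e7f50b9df432c7bbdff9baf183f1dff9f0789a4f6abc4ee66fa56abda4814febdff9ea432ba1dff9a069223f68dc3ec737d568ddd441179badf99a1213d1adf9d09b8a6f08fc6e843f8508fd84721fcbadf9ca313b81adf9803efa9f7b949eb0af757b9574878f3bbff13a74cb71bff1702cd2cf1ab4ce0227251ab52445076bbff16ab76321bff1206c6abf28d4be627f5528d554c45f1bedf11ab75b51edf150efc2ef48f4ee50770548f50486574bedf14ae57301edf100c3131ffabd1e0c46f5fabcf4db66bb8fd8ba6922f18fd8f0e03b4f9b9d4e8fcea59b9ca428eeeb8fd8ea9b8aa18fd8a0f1833fd9fd3eae96d5d9fcd4e8b69bbdd89acab2d1bdd8d0432b6fb9dd6ead9e85b9dc849bbecbbdd8caa99a81bdd880665b9f8ab59e190e758ab474ee2e3befd03a6c6a71efd0703473cfeb95ceeb8625eb94246ca66befd06aefc221efd02074cbbf99f5be8bde5599f454edfe1bfdd01aeffa51fdd050b763eff9d5eef9d605f9d404eff64bfdd04afdd201fdd0000fa21f0f8c1e31f7f50f8df436d7bbc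be9baf593f1cbe9f07c8a4f7eac4ef27fa57eada4855febcbe9ea573ba1cbe9a07d323f6ccc3ed327d56ccdd445079bb9e99a1603d1b9e9d09f9a6f1cec6e902f851ced84760fcbb9e9ca252b81b9e9802aea9f7f849ea4bf757f8574839f3babe13a70db71abe17028c2cf0ea4ce1637250ea52441176babe16aa37321abe120787abf2cc4be766f552cc554c04f1bf9e11ab34b51f9e150ebd2ef5ce4ee4467055ce50482474bf9e14af16301f9e100c7031feead1e0856f5eeacf4cf76bb8bc8ba7d32f18bc8f0f42b4f9f8d4e8bdea59f8ca43cfeeb8bc8ea9f9aa18bc8a0f5933fcded3eaa86d5cdecd4fca69bb9c89adea2d1b9c8d0573b6fbdcd6ea98e85bdcc848faecbb9c8caad8a81b9c880624b9f9ea59e1d1e759ea474fa3e3bebc03a787a71ebc0702063cfef85ceef9625ef842478b66bebc06aebd221ebc02070dbbf8de5be8fce558de454f9ee1bf9c01afbea51f9c050a373effdc5eefdc605fdc404fbe64bf9c04af9c201f9c00013f21f03dc1e2da7f503ddf43a87bbd7b9baf9c3f1d7b9f070da4f62fc4eee2fa562fda4890febd7b9ea4b6ba1d7b9a061623f609c3ecf77d5609dd449579ba5b99a1a53d1a5b9d093ca6f00bc6e8c7f8500bd847a5fcba5b9ca397b81a5b98036ba9f73d49eb8e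f7573d5748fcf3bb7b13a7c8b71b7b1702492cf12f4ce0a672512f5244d476bb7b16abf2321b7b120642abf2094be6a3f55209554cc1f1be5b11abf1b51e5b150e782ef40b4ee58370540b5048e174be5b14aed3301e5b100cb531ff2fd1e0406f5f2fcf4d326bb8798ba6162f18798f0e87b4f93dd4e878ea593dca420aeeb8798ea93caa18798a0f9c33fd1bd3ea6d6d5d1bcd4e0f69bb5989ac2f2d1b598d04b6b6fb19d6ea5de85b19c8493fecbb598caa1da81b598806e1b9f82f59e114e7582f474e66e3be7903a642a71e790703c33cfe3d5cee3c625e3d42464e66be7906ae78221e790207c8bbf91b5be839e5591b454e5be1bf5901ae7ba51f59050bf23eff195eef19605f19404e7b64bf5904af59201f5900007e21f07cc1e39b7f507cdf43e97bbc3a9bafdd3f1c3a9f074ca4f76ec4efa3fa576eda48d1febc3a9ea5f7ba1c3a9a075723f648c3edb67d5648dd44d479bb1a99a1e43d1b1a9d097da6f14ac6e986f8514ad847e4fcbb1a9ca2d6b81b1a98022aa9f77c49eacff7577c5748bdf3ba3a13a789b71a3a1702082cf06e4ce1e772506e52449576ba3a16aab3321a3a120703abf2484be7e2f55248554c80f1bf1a11abb0b51f1a150e392ef54a4ee4c270554a5048a074bf1a14af92301f1a10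0cf431fe6ed1e0016f5e6ecf4c736bb8388ba7572f18388f0fc6b4f97cd4e839ea597cca434beeb8388ea97daa18388a0fdd33fc5ad3ea2c6d5c5acd4f4e69bb1889ad6e2d1b188d05f7b6fb58d6ea1ce85b58c8487eecbb188caa5ca81b188806a0b9f96e59e155e7596e474f27e3be3803a703a71e380702823cfe7c5cee7d625e7c42470f66be3806ae39221e38020789bbf85a5be878e5585a454f1ae1bf1801af3aa51f18050ab33eff585eef58605f58404f3a64bf1804af18201f180003b321f2b1c1e0567f52b1df41247bbff79bad103f1ff79f0581a4f4a3c4ec6efa54a3da4a1cfebff79ea63aba1ff79a049a23f485c3ee7b7d5485dd461979b8d799a3293d18d79d0bb0a6f287c6ea4bf85287d84529fcb8d79ca11bb818d79801e7a9f5b149e902f755b1574a70f3b9f713a544b719f71700c52cf3a34ce22a7253a352465876b9f716a97e3219f71204ceabf0854be42ff55085554e4df1bcd711a97db51cd7150cf42ef6874ee70f705687504a6d74bcd714ac5f301cd7100e3931fda3d1e2cc6f5da3cf4fbe6bbaf58ba49a2f1af58f0c0bb4fbb1d4eaf4ea5bb1ca4086eebaf58eabb0aa1af58a0d1033ff97d3e8e16d5f97cd4c8369b9d589aea32d19d58d063ab6f995d6e8d1e85995c84bb3ecb9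d58ca891a819d588046db9faa359e398e75aa3474ceae3bcf503a4cea71cf507014f3cfcb15cecb0625cb14244c266bcf506acf4221cf5020544bbfb975beab5e55b97454cd7e1bdd501acf7a51dd505097e3efd955eed95605d95404cf764bdd504add5201dd50002f221f2f0c1e1177f52f0df41657bbeb69bad513f1eb69f05c0a4f5e2c4ed2ffa55e2da4a5dfebeb69ea77bba1eb69a05db23f4c4c3ef3a7d54c4dd465879b99699a3683d19969d0bf1a6f3c6c6eb0af853c6d84568fcb9969ca05ab819969800a6a9f5f049e843f755f0574a31f3b8b613a505b718b61700842cf2e24ce36b7252e252461976b8b616a83f3218b612058fabf0c44be56ef550c4554e0cf1bd9611a93cb51d96150cb52ef7c64ee64e7057c6504a2c74bd9614ad1e301d96100e7831fce2d1e28d6f5ce2cf4eff6bbab48ba5db2f1ab48f0d4ab4fbf0d4eab5ea5bf0ca41c7eebab48eabf1aa1ab48a0d5133fed6d3e8a06d5ed6cd4dc269b99489afe22d19948d077bb6f9d4d6e890e859d4c84af2ecb9948ca8d0a8199488042cb9fbe259e3d9e75be2474dabe3bcb403a58fa71cb407000e3cfcf05cecf1625cf042458366bcb406acb5221cb4020505bbfad65beaf4e55ad6454d96e1bd9401adb6a51d9405083f3efdd45eedd4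605dd4404db664bd9404ad94201d9400033721f235c1e0d27f5235df41a07bbf739bad943f1f739f0505a4f427c4eceafa5427da4a98febf739ea6beba1f739a041e23f401c3eeff7d5401dd469d79b85399a3ad3d18539d0b34a6f203c6eacff85203d845adfcb8539ca19fb81853980163a9f53549e986f75535574af4f3b97313a5c0b719731700412cf3274ce2ae7253275246dc76b97316a9fa32197312044aabf0014be4abf55001554ec9f1bc5311a9f9b51c53150c702ef6034ee78b705603504ae974bc5314acdb301c53100ebd31fd27d1e2486f5d27cf4f3a6bba718ba41e2f1a718f0c8fb4fb35d4ea70ea5b35ca4002eeba718eab34aa1a718a0d9433ff13d3e8656d5f13cd4c0769b95189ae272d19518d06beb6f911d6e855e85911c84b37ecb9518ca815a819518804e9b9fa2759e31ce75a27474c6ee3bc7103a44aa71c710701cb3cfc355cec34625c3542444666bc7106ac70221c710205c0bbfb135bea31e55b13454c53e1bd5101ac73a51d510509fa3efd115eed11605d11404c7364bd5104ad51201d5100027621f274c1e1937f5274df41e17bbe329badd53f1e329f0544a4f566c4edabfa5566da4ad9febe329ea7ffba1e329a055f23f440c3efbe7d5440dd46dc79b91299a3ec3d19129d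0b75a6f342c6eb8ef85342d845ecfcb9129ca0deb81912980022a9f57449e8c7f75574574ab5f3b83213a581b718321700002cf2664ce3ef72526652469d76b83216a8bb32183212050babf0404be5eaf55040554e88f1bd1211a9b8b51d12150c312ef7424ee6ca705742504aa874bd1214ad9a301d12100efc31fc66d1e2096f5c66cf4e7b6bba308ba55f2f1a308f0dceb4fb74d4ea31ea5b74ca4143eeba308eab75aa1a308a0dd533fe52d3e8246d5e52cd4d4669b91089af662d19108d07ffb6f950d6e814e85950c84a76ecb9108ca854a819108804a8b9fb6659e35de75b66474d2fe3bc3003a50ba71c3007008a3cfc745cec75625c7442450766bc3006ac31221c30020581bbfa525bea70e55a52454d12e1bd1001ad32a51d100508bb3efd505eed50605d50404d3264bd1004ad10201d100005ab21f4a9c1e64e7f54a9df473c7bb9ef9bab083f19ef9f0399a4f2bbc4ea76fa52bbda4c04feb9ef9ea022ba19ef9a028223f29dc3e8637d529ddd400179becf99a5313d1ecf9d0da8a6f49fc6ec53f8549fd84331fcbecf9ca703b81ecf9807ffa9f3a949ef1af753a9574c68f3bfef13a35cb71fef1706dd2cf5bb4ce4327255bb52404076bfef16af66321fef1202d6abf69d4be237f5569d554855f1ba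cf11af65b51acf150aec2ef09f4ee11770509f504c7574bacf14aa47301acf10082131fbbbd1e4d46f5bbbcf49a66bbced8ba2822f1ced8f0a13b4fda9d4ececea5da9ca469eeebced8eada8aa1ced8a0b0833f98fd3eef96d598fcd4a9b69bfcd89a8bb2d1fcd8d0022b6ff8dd6eec9e85f8dc84dabecbfcd8cae89a81fcd880275b9fcbb59e580e75cbb474af2e3baed03a2d6a71aed0707573cfaa95ceaa8625aa94242da66baed06aaec221aed02035cbbfd8f5becade55d8f454acfe1bbcd01aaefa51bcd050f663efb8d5eeb8d605b8d404aef64bbcd04abcd201bcd0004ea21f4e8c1e70f7f54e8df477d7bb8ae9bab493f18ae9f03d8a4f3fac4eb37fa53fada4c45feb8ae9ea163ba18ae9a03c323f2dcc3e9227d52dcdd404079bf8e99a5703d1f8e9d0de9a6f5dec6ed12f855ded84370fcbf8e9ca642b81f8e9806bea9f3e849ee5bf753e8574c29f3beae13a31db71eae17069c2cf4fa4ce5737254fa52400176beae16ae27321eae120397abf6dc4be376f556dc554814f1bb8e11af24b51b8e150aad2ef1de4ee0567051de504c3474bb8e14ab06301b8e10086031fafad1e4956f5afacf48e76bbcac8ba3c32f1cac8f0b52b4fde8d4ecadea5de8ca47dfeebcac8eade9aa1cac8a0b4933f8ced3eeb8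6d58cecd4bda69bf8c89a9fa2d1f8c8d0163b6ffccd6ee88e85fccc84ceaecbf8c8caec8a81f8c880234b9fdfa59e5c1e75dfa474bb3e3baac03a397a71aac0706163cfae85ceae9625ae842439b66baac06aaad221aac02031dbbfcce5becece55cce454b8ee1bb8c01abaea51b8c050e273efbcc5eebcc605bcc404bae64bb8c04ab8c201b8c00052f21f42dc1e6ca7f542ddf47b87bb96b9bab8c3f196b9f031da4f23fc4eaf2fa523fda4c80feb96b9ea0a6ba196b9a020623f219c3e8e77d5219dd408579be4b99a5b53d1e4b9d0d2ca6f41bc6ecd7f8541bd843b5fcbe4b9ca787b81e4b98077ba9f32d49ef9ef7532d574cecf3bf6b13a3d8b71f6b1706592cf53f4ce4b672553f5240c476bf6b16afe2321f6b120252abf6194be2b3f556195548d1f1ba4b11afe1b51a4b150a682ef01b4ee19370501b504cf174ba4b14aac3301a4b1008a531fb3fd1e4506f5b3fcf49226bbc698ba2062f1c698f0a97b4fd2dd4ec68ea5d2dca461aeebc698ead2caa1c698a0b8c33f90bd3ee7d6d590bcd4a1f69bf4989a83f2d1f498d00a6b6ff09d6ee4de85f09c84d2fecbf498cae0da81f498802f1b9fc3f59e504e75c3f474a76e3ba6903a252a71a690707d33cfa2d5cea2c625a2d42425e66ba6906aa68221a6902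03d8bbfd0b5bec29e55d0b454a4be1bb4901aa6ba51b49050fe23efb095eeb09605b09404a6b64bb4904ab49201b4900046e21f46cc1e78b7f546cdf47f97bb82a9babcd3f182a9f035ca4f37ec4ebb3fa537eda4cc1feb82a9ea1e7ba182a9a034723f258c3e9a67d5258dd40c479bf0a99a5f43d1f0a9d0d6da6f55ac6ed96f8555ad843f4fcbf0a9ca6c6b81f0a98063aa9f36c49eedff7536c574cadf3be2a13a399b71e2a1706182cf47e4ce5f772547e52408576be2a16aea3321e2a120313abf6584be3f2f55658554890f1bb0a11afa0b51b0a150a292ef15a4ee0d270515a504cb074bb0a14ab82301b0a1008e431fa7ed1e4116f5a7ecf48636bbc288ba3472f1c288f0bd6b4fd6cd4ec29ea5d6cca475beebc288ead6daa1c288a0bcd33f84ad3ee3c6d584acd4b5e69bf0889a97e2d1f088d01e7b6ff48d6ee0ce85f48c84c6eecbf088cae4ca81f088802b0b9fd7e59e545e75d7e474b37e3ba2803a313a71a280706923cfa6c5cea6d625a6c42431f66ba2806aa29221a28020399bbfc4a5bec68e55c4a454b0ae1bb0801ab2aa51b08050ea33efb485eeb48605b48404b2a64bb0804ab08201b080007a321f6a1c1e4467f56a1df45347bbbe79ba9003f1be79f0191a4f0b3c4e87efa50b3da4e0cfebb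e79ea22aba1be79a008a23f095c3ea6b7d5095dd420979bcc799a7393d1cc79d0fa0a6f697c6ee5bf85697d84139fcbcc79ca50bb81cc79805f7a9f1a149ed12f751a1574e60f3bde713a154b71de71704d52cf7b34ce63a7257b352424876bde716ad6e321de71200deabf4954be03ff55495554a5df1b8c711ad6db518c71508e42ef2974ee31f705297504e7d74b8c714a84f3018c7100a2931f9b3d1e6dc6f59b3cf4bae6bbee58ba08a2f1ee58f081bb4ffa1d4eee4ea5fa1ca4496eebee58eafa0aa1ee58a090033fb87d3ecf16d5b87cd489369bdc589aab32d1dc58d022ab6fd85d6ecc1e85d85c84fa3ecbdc58cac81a81dc588007db9feb359e788e75eb34748fae3b8e503a0dea718e507055f3cf8a15ce8a06258a14240d266b8e506a8e42218e5020154bbff875beea5e55f874548c7e1b9c501a8e7a519c5050d6e3ef9855ee9856059854048e764b9c504a9c52019c50006e221f6e0c1e5077f56e0df45757bbaa69ba9413f1aa69f01d0a4f1f2c4e93ffa51f2da4e4dfebaa69ea36bba1aa69a01cb23f0d4c3eb2a7d50d4dd424879bd8699a7783d1d869d0fe1a6f7d6c6ef1af857d6d84178fcbd869ca44ab81d869804b6a9f1e049ec53f751e0574e21f3bca613a115b71ca61704942cf6f24ce77b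7256f252420976bca616ac2f321ca612019fabf4d44be17ef554d4554a1cf1b98611ad2cb519861508a52ef3d64ee25e7053d6504e3c74b98614a90e301986100a6831f8f2d1e69d6f58f2cf4aef6bbea48ba1cb2f1ea48f095ab4ffe0d4eea5ea5fe0ca45d7eebea48eafe1aa1ea48a094133fac6d3ecb06d5ac6cd49d269bd8489abf22d1d848d036bb6fdc4d6ec80e85dc4c84ee2ecbd848cacc0a81d8488003cb9fff259e7c9e75ff24749bbe3b8a403a19fa718a407041e3cf8e05ce8e16258e042419366b8a406a8a52218a4020115bbfec65beee4e55ec6454986e1b98401a9a6a51984050c2f3ef9c45ee9c46059c44049a664b98404a98420198400072721f625c1e4c27f5625df45b07bbb639ba9843f1b639f0115a4f037c4e8fafa5037da4e88febb639ea2aeba1b639a000e23f011c3eaef7d5011dd428d79bc4399a7bd3d1c439d0f24a6f613c6eedff85613d841bdfcbc439ca58fb81c43980573a9f12549ed96f75125574ee4f3bd6313a1d0b71d631704512cf7374ce6be7257375242cc76bd6316adea321d6312005aabf4114be0bbf55411554ad9f1b84311ade9b518431508602ef2134ee39b705213504ef974b84314a8cb301843100aad31f937d1e6586f5937cf4b2a6bbe618ba00e2f1e618f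089fb4ff25d4ee60ea5f25ca4412eebe618eaf24aa1e618a098433fb03d3ec756d5b03cd481769bd4189aa372d1d418d02aeb6fd01d6ec45e85d01c84f27ecbd418cac05a81d418800f9b9fe3759e70ce75e3747487ee3b86103a05aa718610705db3cf8255ce82462582542405666b86106a8602218610201d0bbff035bee21e55f03454843e1b94101a863a51941050dea3ef9015ee90160590140486364b94104a94120194100066621f664c1e5837f5664df45f17bba229ba9c53f1a229f0154a4f176c4e9bbfa5176da4ec9feba229ea3efba1a229a014f23f050c3ebae7d5050dd42cc79bd0299a7fc3d1d029d0f65a6f752c6ef9ef85752d841fcfcbd029ca4ceb81d02980432a9f16449ecd7f75164574ea5f3bc2213a191b71c221704102cf6764ce7ff72567652428d76bc2216acab321c2212011babf4504be1faf55450554a98f1b90211ada8b519021508212ef3524ee2da705352504eb874b90214a98a301902100aec31f876d1e6196f5876cf4a6b6bbe208ba14f2f1e208f09deb4ff64d4ee21ea5f64ca4553eebe208eaf65aa1e208a09c533fa42d3ec346d5a42cd495669bd0089ab762d1d008d03efb6fd40d6ec04e85d40c84e66ecbd008cac44a81d008800b8b9ff7659e74de75f7647493fe3b8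2003a11ba7182007049a3cf8645ce86562586442411766b82006a821221820020191bbfe425bee60e55e42454902e1b90001a922a51900050cab3ef9405ee94060594040492264b90004a9002019000008bb21f9b9c1eb5e7f59b9df4a2c7bb4ff9ba6183f14ff9f0e89a4ffabc4e766fa5fabda4114feb4ff9ead32ba14ff9a0f9223ff8dc3e5737d5f8ddd4d1179b3df99a8213d13df9d00b8a6f98fc6e143f8598fd84e21fcb3df9caa13b813df980aefa9feb949e20af75eb9574178f3b2ff13ae4cb712ff170bcd2cf8ab4ce9227258ab524d5076b2ff16a2763212ff120fc6abfb8d4bef27f55b8d554545f1b7df11a275b517df1507fc2efd8f4eec07705d8f50416574b7df14a7573017df10053131f6abd1e9c46f56abcf44b66bb1fd8baf922f11fd8f0703b4f0b9d4e1fcea50b9ca4b8eeeb1fd8ea0b8aa11fd8a061833f49fd3e3e96d549fcd478b69b2dd89a5ab2d12dd8d0d32b6f29dd6e3d9e8529dc840bbecb2dd8ca399a812dd880f65b9f1ab59e890e751ab4747e2e3b7fd03afc6a717fd070a473cf7b95ce7b86257b9424fca66b7fd06a7fc2217fd020e4cbbf09f5be1bde5509f4547dfe1b6dd01a7ffa516dd0502763ef69d5ee69d60569d4047ff64b6dd04a6dd2016dd0009fa21f9f8c1ea1f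7f59f8df4a6d7bb5be9ba6593f15be9f0ec8a4feeac4e627fa5eeada4155feb5be9eac73ba15be9a0ed323ffccc3e4327d5fccdd4d5079b29e99a8603d129e9d00f9a6f8cec6e002f858ced84e60fcb29e9cab52b8129e980baea9fef849e34bf75ef8574139f3b3be13ae0db713be170b8c2cf9ea4ce8637259ea524d1176b3be16a3373213be120e87abfbcc4bee66f55bcc554504f1b69e11a234b5169e1507bd2efcce4eed46705cce50412474b69e14a61630169e10057031f7ead1e9856f57eacf45f76bb1bc8baed32f11bc8f0642b4f0f8d4e1bdea50f8ca4acfeeb1bc8ea0f9aa11bc8a065933f5ded3e3a86d55decd46ca69b29c89a4ea2d129c8d0c73b6f2dcd6e398e852dcc841faecb29c8ca3d8a8129c880f24b9f0ea59e8d1e750ea4746a3e3b7bc03ae87a717bc070b063cf7f85ce7f96257f8424e8b66b7bc06a7bd2217bc020e0dbbf1de5be1fce551de45469ee1b69c01a6bea5169c0503373ef6dc5ee6dc6056dc4046be64b69c04a69c20169c00083f21f93dc1ebda7f593ddf4aa87bb47b9ba69c3f147b9f0e0da4ff2fc4e7e2fa5f2fda4190feb47b9eadb6ba147b9a0f1623ff09c3e5f77d5f09dd4d9579b35b99a8a53d135b9d003ca6f90bc6e1c7f8590bd84ea5fcb35b9caa97b8135b98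0a6ba9fe3d49e28ef75e3d5741fcf3b27b13aec8b7127b170b492cf82f4ce9a672582f524dd476b27b16a2f232127b120f42abfb094befa3f55b095545c1f1b75b11a2f1b5175b1507782efd0b4eec83705d0b5041e174b75b14a7d330175b1005b531f62fd1e9406f562fcf44326bb1798baf162f11798f0787b4f03dd4e178ea503dca4b0aeeb1798ea03caa11798a069c33f41bd3e36d6d541bcd470f69b25989a52f2d12598d0db6b6f219d6e35de85219c8403fecb2598ca31da81259880fe1b9f12f59e814e7512f474766e3b77903af42a71779070ac33cf73d5ce73c62573d424f4e66b77906a778221779020ec8bbf01b5be139e5501b45475be1b65901a77ba516590502f23ef6195ee61960561940477b64b65904a65920165900097e21f97cc1ea9b7f597cdf4ae97bb53a9ba6dd3f153a9f0e4ca4fe6ec4e6a3fa5e6eda41d1feb53a9eacf7ba153a9a0e5723ff48c3e4b67d5f48dd4dd479b21a99a8e43d121a9d007da6f84ac6e086f8584ad84ee4fcb21a9cabd6b8121a980b2aa9fe7c49e3cff75e7c5741bdf3b33a13ae89b7133a170b082cf96e4ce8e772596e524d9576b33a16a3b332133a120e03abfb484beee2f55b48554580f1b61a11a2b0b5161a1507392efc4a4eedc2705c4a5041a074b6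1a14a69230161a1005f431f76ed1e9016f576ecf45736bb1388bae572f11388f06c6b4f07cd4e139ea507cca4a4beeb1388ea07daa11388a06dd33f55ad3e32c6d555acd464e69b21889a46e2d12188d0cf7b6f258d6e31ce85258c8417eecb2188ca35ca81218880fa0b9f06e59e855e7506e474627e3b73803ae03a71738070b823cf77c5ce77d62577c424e0f66b73806a739221738020e89bbf15a5be178e5515a45461ae1b61801a63aa516180503b33ef6585ee65860565840463a64b61804a618201618000ab321fbb1c1e9567f5bb1df48247bb6f79ba4103f16f79f0c81a4fda3c4e56efa5da3da431cfeb6f79eaf3aba16f79a0d9a23fd85c3e77b7d5d85dd4f1979b1d799aa293d11d79d02b0a6fb87c6e34bf85b87d84c29fcb1d79ca81bb811d79808e7a9fcb149e002f75cb1574370f3b0f713ac44b710f71709c52cfaa34ceb2a725aa3524f5876b0f716a07e3210f7120dceabf9854bed2ff5598555474df1b5d711a07db515d71505f42eff874eee0f705f8750436d74b5d714a55f3015d710073931f4a3d1ebcc6f54a3cf46be6bb3f58bad9a2f13f58f050bb4f2b1d4e3f4ea52b1ca4986eeb3f58ea2b0aa13f58a041033f697d3e1e16d5697cd458369b0d589a7a32d10d58d0f3ab6f095d6e1d1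e85095c842b3ecb0d58ca191a810d5880d6db9f3a359ea98e753a34745eae3b5f503adcea715f507084f3cf5b15ce5b06255b1424dc266b5f506a5f42215f5020c44bbf2975be3b5e552974545d7e1b4d501a5f7a514d505007e3ef4955ee4956054954045f764b4d504a4d52014d5000bf221fbf0c1e8177f5bf0df48657bb7b69ba4513f17b69f0cc0a4fce2c4e42ffa5ce2da435dfeb7b69eae7bba17b69a0cdb23fdc4c3e63a7d5dc4dd4f5879b09699aa683d10969d02f1a6fac6c6e20af85ac6d84c68fcb0969ca95ab810969809a6a9fcf049e143f75cf0574331f3b1b613ac05b711b61709842cfbe24cea6b725be2524f1976b1b616a13f3211b6120c8fabf9c44bec6ef559c455470cf1b49611a03cb514961505b52efec64eef4e705ec650432c74b49614a41e30149610077831f5e2d1eb8d6f55e2cf47ff6bb3b48bacdb2f13b48f044ab4f2f0d4e3b5ea52f0ca48c7eeb3b48ea2f1aa13b48a045133f7d6d3e1a06d57d6cd44c269b09489a6e22d10948d0e7bb6f0d4d6e190e850d4c843f2ecb0948ca1d0a81094880d2cb9f2e259ead9e752e24744abe3b5b403ac8fa715b407090e3cf5f05ce5f16255f0424c8366b5b406a5b52215b4020c05bbf3d65be3f4e553d6454496e1b49401a4b6a5149405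013f3ef4d45ee4d46054d44044b664b49404a494201494000a3721fb35c1e9d27f5b35df48a07bb6739ba4943f16739f0c05a4fd27c4e5eafa5d27da4398feb6739eafbeba16739a0d1e23fd01c3e7ff7d5d01dd4f9d79b15399aaad3d11539d0234a6fb03c6e3cff85b03d84cadfcb1539ca89fb81153980863a9fc3549e086f75c355743f4f3b07313acc0b710731709412cfa274cebae725a27524fdc76b07316a0fa321073120d4aabf9014bedabf559015547c9f1b55311a0f9b515531505702eff034eee8b705f035043e974b55314a5db3015531007bd31f427d1eb486f5427cf463a6bb3718bad1e2f13718f058fb4f235d4e370ea5235ca4902eeb3718ea234aa13718a049433f613d3e1656d5613cd450769b05189a7272d10518d0fbeb6f011d6e155e85011c84237ecb0518ca115a81051880de9b9f32759ea1ce7532747456ee3b57103ad4aa715710708cb3cf5355ce534625535424d4666b57106a570221571020cc0bbf2135be331e55213454553e1b45101a573a514510500fa3ef4115ee41160541140457364b45104a451201451000b7621fb74c1e8937f5b74df48e17bb7329ba4d53f17329f0c44a4fc66c4e4abfa5c66da43d9feb7329eaeffba17329a0c5f23fd40c3e6be7d5d40dd4fdc79b0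1299aaec3d10129d0275a6fa42c6e28ef85a42d84cecfcb0129ca9deb81012980922a9fc7449e1c7f75c745743b5f3b13213ac81b711321709002cfb664ceaef725b66524f9d76b13216a1bb321132120c0babf9404beceaf55940554788f1b41211a0b8b514121505312efe424eefca705e425043a874b41214a49a3014121007fc31f566d1eb096f5566cf477b6bb3308bac5f2f13308f04ceb4f274d4e331ea5274ca4843eeb3308ea275aa13308a04d533f752d3e1246d5752cd444669b01089a6662d10108d0effb6f050d6e114e85050c84376ecb0108ca154a81010880da8b9f26659ea5de7526647442fe3b53003ac0ba7153007098a3cf5745ce575625574424c0766b53006a531221530020c81bbf3525be370e55352454412e1b41001a432a514100501bb3ef4505ee45060545040443264b41004a410201410000cab21fda9c1ef4e7f5da9df4e3c7bb0ef9ba2083f10ef9f0a99a4fbbbc4e376fa5bbbda4504feb0ef9ea922ba10ef9a0b8223fb9dc3e1637d5b9ddd490179b7cf99ac313d17cf9d04a8a6fd9fc6e553f85d9fd84a31fcb7cf9cae03b817cf980effa9faa949e61af75aa9574568f3b6ef13aa5cb716ef170fdd2cfcbb4ced32725cbb52494076b6ef16a6663216ef120bd6abff9d4beb37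f55f9d554155f1b3cf11a665b513cf1503ec2ef99f4ee81770599f50457574b3cf14a3473013cf10012131f2bbd1edd46f52bbcf40a66bb5ed8bab822f15ed8f0313b4f4a9d4e5ecea54a9ca4f9eeeb5ed8ea4a8aa15ed8a020833f08fd3e7f96d508fcd439b69b6cd89a1bb2d16cd8d0922b6f68dd6e7c9e8568dc844abecb6cd8ca789a816cd880b75b9f5bb59ec80e755bb4743f2e3b3ed03abd6a713ed070e573cf3a95ce3a86253a9424bda66b3ed06a3ec2213ed020a5cbbf48f5be5ade5548f4543cfe1b2cd01a3efa512cd0506663ef28d5ee28d60528d4043ef64b2cd04a2cd2012cd000dea21fde8c1ee0f7f5de8df4e7d7bb1ae9ba2493f11ae9f0ad8a4fafac4e237fa5afada4545feb1ae9ea863ba11ae9a0ac323fbdcc3e0227d5bdcdd494079b68e99ac703d168e9d04e9a6fcdec6e412f85cded84a70fcb68e9caf42b8168e980fbea9fae849e75bf75ae8574529f3b7ae13aa1db717ae170f9c2cfdfa4cec73725dfa52490176b7ae16a7273217ae120a97abffdc4bea76f55fdc554114f1b28e11a624b5128e1503ad2ef8de4ee9567058de50453474b28e14a20630128e10016031f3fad1ed956f53facf41e76bb5ac8baac32f15ac8f0252b4f4e8d4e5adea54e8ca4edfeeb5ac8ea4e9aa15ac8a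024933f1ced3e7b86d51cecd42da69b68c89a0fa2d168c8d0863b6f6ccd6e788e856ccc845eaecb68c8ca7c8a8168c880b34b9f4fa59ecc1e754fa4742b3e3b3ac03aa97a713ac070f163cf3e85ce3e96253e8424a9b66b3ac06a3ad2213ac020a1dbbf5ce5be5ece555ce45428ee1b28c01a2aea5128c0507273ef2cc5ee2cc6052cc4042ae64b28c04a28c20128c000c2f21fd2dc1efca7f5d2ddf4eb87bb06b9ba28c3f106b9f0a1da4fb3fc4e3f2fa5b3fda4580feb06b9ea9a6ba106b9a0b0623fb19c3e1e77d5b19dd498579b74b99acb53d174b9d042ca6fd1bc6e5d7f85d1bd84ab5fcb74b9cae87b8174b980e7ba9fa2d49e69ef75a2d5745ecf3b66b13aad8b7166b170f592cfc3f4cedb6725c3f5249c476b66b16a6e232166b120b52abff194bebb3f55f195541d1f1b34b11a6e1b5134b1503682ef91b4ee89370591b5045f174b34b14a3c330134b1001a531f23fd1ed506f523fcf40226bb5698bab062f15698f0397b4f42dd4e568ea542dca4f1aeeb5698ea42caa15698a028c33f00bd3e77d6d500bcd431f69b64989a13f2d16498d09a6b6f609d6e74de85609c8442fecb6498ca70da81649880bf1b9f53f59ec04e7553f474376e3b36903ab52a71369070ed33cf32d5ce32c62532d424b5e66b3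6906a368221369020ad8bbf40b5be529e5540b45434be1b24901a36ba512490506e23ef2095ee20960520940436b64b24904a249201249000d6e21fd6cc1ee8b7f5d6cdf4ef97bb12a9ba2cd3f112a9f0a5ca4fa7ec4e2b3fa5a7eda45c1feb12a9ea8e7ba112a9a0a4723fb58c3e0a67d5b58dd49c479b60a99acf43d160a9d046da6fc5ac6e496f85c5ad84af4fcb60a9cafc6b8160a980f3aa9fa6c49e7dff75a6c5745adf3b72a13aa99b7172a170f182cfd7e4cecf7725d7e52498576b72a16a7a332172a120a13abff584beaf2f55f58554190f1b20a11a6a0b5120a1503292ef85a4ee9d270585a5045b074b20a14a28230120a1001e431f37ed1ed116f537ecf41636bb5288baa472f15288f02d6b4f46cd4e529ea546cca4e5beeb5288ea46daa15288a02cd33f14ad3e73c6d514acd425e69b60889a07e2d16088d08e7b6f648d6e70ce85648c8456eecb6088ca74ca81608880bb0b9f47e59ec45e7547e474237e3b32803aa13a71328070f923cf36c5ce36d62536c424a1f66b32806a329221328020a99bbf54a5be568e5554a45420ae1b20801a22aa512080507a33ef2485ee24860524840422a64b20804a208201208000ea321ffa1c1ed467f5fa1df4c347bb2e79ba0003f12e79f0891a4f9b3c4e17e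fa59b3da470cfeb2e79eab2aba12e79a098a23f995c3e36b7d5995dd4b0979b5c799ae393d15c79d06a0a6ff97c6e75bf85f97d84839fcb5c79cac0bb815c7980cf7a9f8a149e412f758a1574760f3b4e713a854b714e7170dd52cfeb34cef3a725eb3524b4876b4e716a46e3214e71209deabfd954be93ff55d9555435df1b1c711a46db511c71501e42efb974eea1f705b9750477d74b1c714a14f3011c710032931f0b3d1efdc6f50b3cf42ae6bb7e58ba98a2f17e58f011bb4f6a1d4e7e4ea56a1ca4d96eeb7e58ea6a0aa17e58a000033f287d3e5f16d5287cd419369b4c589a3b32d14c58d0b2ab6f485d6e5c1e85485c846a3ecb4c58ca581a814c588097db9f7b359ee88e757b34741fae3b1e503a9dea711e5070c5f3cf1a15ce1a06251a14249d266b1e506a1e42211e5020854bbf6875be7a5e556874541c7e1b0c501a1e7a510c505046e3ef0855ee0856050854041e764b0c504a0c52010c5000fe221ffe0c1ec077f5fe0df4c757bb3a69ba0413f13a69f08d0a4f8f2c4e03ffa58f2da474dfeb3a69eaa6bba13a69a08cb23f9d4c3e22a7d59d4dd4b4879b48699ae783d14869d06e1a6fed6c6e61af85ed6d84878fcb4869cad4ab81486980db6a9f8e049e553f758e0574721f3b5a613a815b715a617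0d942cfff24cee7b725ff2524b0976b5a616a52f3215a612089fabfdd44be87ef55dd455431cf1b08611a42cb510861501a52efad64eeb5e705ad650473c74b08614a00e30108610036831f1f2d1ef9d6f51f2cf43ef6bb7a48ba8cb2f17a48f005ab4f6e0d4e7a5ea56e0ca4cd7eeb7a48ea6e1aa17a48a004133f3c6d3e5b06d53c6cd40d269b48489a2f22d14848d0a6bb6f4c4d6e580e854c4c847e2ecb4848ca5c0a8148488093cb9f6f259eec9e756f24740bbe3b1a403a89fa711a4070d1e3cf1e05ce1e16251e042489366b1a406a1a52211a4020815bbf7c65be7e4e557c6454086e1b08401a0a6a5108405052f3ef0c45ee0c46050c44040a664b08404a084201084000e2721ff25c1edc27f5f25df4cb07bb2639ba0843f12639f0815a4f937c4e1fafa5937da4788feb2639eabaeba12639a090e23f911c3e3ef7d5911dd4b8d79b54399aebd3d15439d0624a6ff13c6e7dff85f13d848bdfcb5439cac8fb81543980c73a9f82549e496f758255747e4f3b46313a8d0b71463170d512cfe374cefbe725e37524bcc76b46316a4ea32146312095aabfd114be9bbf55d115543d9f1b14311a4e9b511431501602efb134eea9b705b135047f974b14314a1cb3011431003ad31f037d1ef586f5037cf422a6bb7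618ba90e2f17618f019fb4f625d4e760ea5625ca4d12eeb7618ea624aa17618a008433f203d3e5756d5203cd411769b44189a3372d14418d0baeb6f401d6e545e85401c84627ecb4418ca505a814418809f9b9f73759ee0ce7573747417ee3b16103a95aa71161070cdb3cf1255ce12462512542495666b16106a1602211610208d0bbf6035be721e55603454143e1b04101a163a510410504ea3ef0015ee00160500140416364b04104a041201041000f6621ff64c1ec837f5f64df4cf17bb3229ba0c53f13229f0854a4f876c4e0bbfa5876da47c9feb3229eaaefba13229a084f23f950c3e2ae7d5950dd4bcc79b40299aefc3d14029d0665a6fe52c6e69ef85e52d848fcfcb4029cadceb81402980d32a9f86449e5d7f758645747a5f3b52213a891b71522170d102cff764ceeff725f76524b8d76b52216a5ab32152212081babfd504be8faf55d50554398f1b00211a4a8b510021501212efa524eebda705a525047b874b00214a08a3010021003ec31f176d1ef196f5176cf436b6bb7208ba84f2f17208f00deb4f664d4e721ea5664ca4c53eeb7208ea665aa17208a00c533f342d3e5346d5342cd405669b40089a2762d14008d0aefb6f440d6e504e85440c84766ecb4008ca544a814008809b8b9f67659ee4de7567647403fe3b12003a81ba71120070d9a3cf1645ce16562516442481766b12006a121221120020891bbf7425be760e55742454002e1b00001a022a510000505ab3ef0405ee04060504040402264b00004a000201000000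

/-- right multiplication by the twelve generators -/
def RT : ℕ := 0x800800400400400400200200200200200200200200100100100100100100100100100100100100100100100100080080080080080080080080080080080080080080080080080080080080080080080080080080080080080080080080840840040040840840040040840840040040840840040040840840040040840840040040840840040040840840040040840840040040840840040040840840040040840840040040840840040040840840040040840840040040840840040040c20820c20820c20820c20820420020420020420020420020c20820c20820c20820c20820420020420020420020420020c20820c20820c20820c20820420020420020420020420020c20820c20820c20820c20820420020420020420020420020c20820c20820c20820c20820420020420020420020420020c20820c20820c20820c20820420020420020420020420020c20820c20820c20820c20820420020420020420020420020c20820c20820c20820c20820420020420020420020420020e10610c10410a10210810010e10610c10410a10210810010e10610c10410a10210810010e10610c10410a10210810010e10610c10410a10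210810010e10610c10410a10210810010e10610c10410a10210810010e10610c10410a10210810010e10610c10410a10210810010e10610c10410a10210810010e10610c10410a10210810010e10610c10410a10210810010e10610c10410a10210810010e10610c10410a10210810010e10610c10410a10210810010e10610c10410a10210810010e10610c10410a10210810010e10610c10410a10210810010e10610c10410a10210810010e10610c10410a10210810010e10610c10410a10210810010e10610c10410a10210810010e10610c10410a10210810010e10610c10410a10210810010e10610c10410a10210810010e10610c10410a10210810010e10610c10410a10210810010e10610c10410a10210810010e10610c10410a10210810010e10610c10410a10210810010e10610c10410a10210810010e10610c10410a10210810010a08a08a08a08a08a08a08a08a08a08a08a08a08a08a08a08408408408408408408408408408408408408408408408408e08e08e08e08e08e08e08e08e08e08e08e08e08e08e08e08008008008008008008008008008008008008008008008008a08a08a08a08a08a08a08a08a08a08a08a08a08a08a08a0840840840840840840840840840840840840840840840840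8e08e08e08e08e08e08e08e08e08e08e08e08e08e08e08e08008008008008008008008008008008008008008008008008a08a08a08a08a08a08a08a08a08a08a08a08a08a08a08a08408408408408408408408408408408408408408408408408e08e08e08e08e08e08e08e08e08e08e08e08e08e08e08e08008008008008008008008008008008008008008008008008a08a08a08a08a08a08a08a08a08a08a08a08a08a08a08a08408408408408408408408408408408408408408408408408e08e08e08e08e08e08e08e08e08e08e08e08e08e08e08e08008008008008008008008008008008008008008008008008a08a08a08a08a08a08a08a08a08a08a08a08a08a08a08a08408408408408408408408408408408408408408408408408e08e08e08e08e08e08e08e08e08e08e08e08e08e08e08e08008008008008008008008008008008008008008008008008a08a08a08a08a08a08a08a08a08a08a08a08a08a08a08a08408408408408408408408408408408408408408408408408e08e08e08e08e08e08e08e08e08e08e08e08e08e08e08e08008008008008008008008008008008008008008008008008a08a08a08a08a08a08a08a08a08a08a08a08a08a08a08a084084084084084084084084084084084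08408408408408408e08e08e08e08e08e08e08e08e08e08e08e08e08e08e08e08008008008008008008008008008008008008008008008008a08a08a08a08a08a08a08a08a08a08a08a08a08a08a08a08408408408408408408408408408408408408408408408408e08e08e08e08e08e08e08e08e08e08e08e08e08e08e08e080080080080080080080080080080080080080080080080089c4744784f044c4a44e846041c4f44f847044c4a44e84604fc49441841042c44448848047c41449849042c44448848049c4744784f044c4a44e846041c4f44f847044c4a44e84604fc49441841042c44448848047c41449849042c44448848049c4744784f044c4a44e846041c4f44f847044c4a44e84604fc49441841042c44448848047c41449849042c44448848049c4744784f044c4a44e846041c4f44f847044c4a44e84604fc49441841042c44448848047c41449849042c44448848041c4f44f84704cc4244684e049c4744784f04cc4244684e047c4144984904ac4c44084004fc4944184104ac4c440840041c4f44f84704cc4244684e049c4744784f04cc4244684e047c4144984904ac4c44084004fc4944184104ac4c440840041c4f44f84704cc4244684e049c4744784f04cc4244684e047c4144984904ac4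c44084004fc4944184104ac4c440840041c4f44f84704cc4244684e049c4744784f04cc4244684e047c4144984904ac4c44084004fc4944184104ac4c440840049c4744784f044c4a44e846041c4f44f847044c4a44e84604fc49441841042c44448848047c41449849042c44448848049c4744784f044c4a44e846041c4f44f847044c4a44e84604fc49441841042c44448848047c41449849042c44448848049c4744784f044c4a44e846041c4f44f847044c4a44e84604fc49441841042c44448848047c41449849042c44448848049c4744784f044c4a44e846041c4f44f847044c4a44e84604fc49441841042c44448848047c41449849042c44448848041c4f44f84704cc4244684e049c4744784f04cc4244684e047c4144984904ac4c44084004fc4944184104ac4c440840041c4f44f84704cc4244684e049c4744784f04cc4244684e047c4144984904ac4c44084004fc4944184104ac4c440840041c4f44f84704cc4244684e049c4744784f04cc4244684e047c4144984904ac4c44084004fc4944184104ac4c440840041c4f44f84704cc4244684e049c4744784f04cc4244684e047c4144984904ac4c44084004fc4944184104ac4c440840049c4744784f044c4a44e846041c4f44f847044c4a44e8460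4fc49441841042c44448848047c41449849042c44448848049c4744784f044c4a44e846041c4f44f847044c4a44e84604fc49441841042c44448848047c41449849042c44448848049c4744784f044c4a44e846041c4f44f847044c4a44e84604fc49441841042c44448848047c41449849042c44448848049c4744784f044c4a44e846041c4f44f847044c4a44e84604fc49441841042c44448848047c41449849042c44448848041c4f44f84704cc4244684e049c4744784f04cc4244684e047c4144984904ac4c44084004fc4944184104ac4c440840041c4f44f84704cc4244684e049c4744784f04cc4244684e047c4144984904ac4c44084004fc4944184104ac4c440840041c4f44f84704cc4244684e049c4744784f04cc4244684e047c4144984904ac4c44084004fc4944184104ac4c440840041c4f44f84704cc4244684e049c4744784f04cc4244684e047c4144984904ac4c44084004fc4944184104ac4c440840049c4744784f044c4a44e846041c4f44f847044c4a44e84604fc49441841042c44448848047c41449849042c44448848049c4744784f044c4a44e846041c4f44f847044c4a44e84604fc49441841042c44448848047c41449849042c44448848049c4744784f044c4a44e846041c4f44f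847044c4a44e84604fc49441841042c44448848047c41449849042c44448848049c4744784f044c4a44e846041c4f44f847044c4a44e84604fc49441841042c44448848047c41449849042c44448848041c4f44f84704cc4244684e049c4744784f04cc4244684e047c4144984904ac4c44084004fc4944184104ac4c440840041c4f44f84704cc4244684e049c4744784f04cc4244684e047c4144984904ac4c44084004fc4944184104ac4c440840041c4f44f84704cc4244684e049c4744784f04cc4244684e047c4144984904ac4c44084004fc4944184104ac4c440840041c4f44f84704cc4244684e049c4744784f04cc4244684e047c4144984904ac4c44084004fc4944184104ac4c4408400407ac3274a74247a83274a742a7a23274a742e7a63274a742c3a07270a70283a47270a70263ae7270a70223aa7270a70207ac3274a74247a83274a742a7a23274a742e7a63274a742c3a07270a70283a47270a70263ae7270a70223aa7270a702d7a132a4aa4297a532a4aa4277af32a4aa4237ab32a4aa4213ad72a0aa0253a972a0aa02b3a372a0aa02f3a772a0aa02d7a132a4aa4297a532a4aa4277af32a4aa4237ab32a4aa4213ad72a0aa0253a972a0aa02b3a372a0aa02f3a772a0aa02e7a23294a942a7a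63294a94247ac3294a94207a83294a94223ae7290a90263aa7290a90283a07290a902c3a47290a902e7a23294a942a7a63294a94247ac3294a94207a83294a94223ae7290a90263aa7290a90283a07290a902c3a47290a90237af3244a44277ab3244a44297a13244a442d7a53244a442f3a37240a402b3a77240a40253ad7240a40213a97240a40237af3244a44277ab3244a44297a13244a442d7a53244a442f3a37240a402b3a77240a40253ad7240a40213a97240a40247a83234a34207ac3234a342e7a63234a342a7a23234a34283a47230a302c3a07230a30223aa7230a30263ae7230a30247a83234a34207ac3234a342e7a63234a342a7a23234a34283a47230a302c3a07230a30223aa7230a30263ae7230a30297a532e4ae42d7a132e4ae4237ab32e4ae4277af32e4ae4253a972e0ae0213ad72e0ae02f3a772e0ae02b3a372e0ae0297a532e4ae42d7a132e4ae4237ab32e4ae4277af32e4ae4253a972e0ae0213ad72e0ae02f3a772e0ae02b3a372e0ae02a7a632d4ad42e7a232d4ad4207a832d4ad4247ac32d4ad4263aa72d0ad0223ae72d0ad02c3a472d0ad0283a072d0ad02a7a632d4ad42e7a232d4ad4207a832d4ad4247ac32d4ad4263aa72d0ad0223ae72d0ad02c3a472d0ad0283a072d0ad0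277ab3204a04237af3204a042d7a53204a04297a13204a042b3a77200a002f3a37200a00213a97200a00253ad7200a00277ab3204a04237af3204a042d7a53204a04297a13204a042b3a77200a002f3a37200a00213a97200a00253ad7200a00207ac3274a74247a83274a742a7a23274a742e7a63274a742c3a07270a70283a47270a70263ae7270a70223aa7270a70207ac3274a74247a83274a742a7a23274a742e7a63274a742c3a07270a70283a47270a70263ae7270a70223aa7270a702d7a132a4aa4297a532a4aa4277af32a4aa4237ab32a4aa4213ad72a0aa0253a972a0aa02b3a372a0aa02f3a772a0aa02d7a132a4aa4297a532a4aa4277af32a4aa4237ab32a4aa4213ad72a0aa0253a972a0aa02b3a372a0aa02f3a772a0aa02e7a23294a942a7a63294a94247ac3294a94207a83294a94223ae7290a90263aa7290a90283a07290a902c3a47290a902e7a23294a942a7a63294a94247ac3294a94207a83294a94223ae7290a90263aa7290a90283a07290a902c3a47290a90237af3244a44277ab3244a44297a13244a442d7a53244a442f3a37240a402b3a77240a40253ad7240a40213a97240a40237af3244a44277ab3244a44297a13244a442d7a53244a442f3a37240a402b3a77240a40253ad724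0a40213a97240a40247a83234a34207ac3234a342e7a63234a342a7a23234a34283a47230a302c3a07230a30223aa7230a30263ae7230a30247a83234a34207ac3234a342e7a63234a342a7a23234a34283a47230a302c3a07230a30223aa7230a30263ae7230a30297a532e4ae42d7a132e4ae4237ab32e4ae4277af32e4ae4253a972e0ae0213ad72e0ae02f3a772e0ae02b3a372e0ae0297a532e4ae42d7a132e4ae4237ab32e4ae4277af32e4ae4253a972e0ae0213ad72e0ae02f3a772e0ae02b3a372e0ae02a7a632d4ad42e7a232d4ad4207a832d4ad4247ac32d4ad4263aa72d0ad0223ae72d0ad02c3a472d0ad0283a072d0ad02a7a632d4ad42e7a232d4ad4207a832d4ad4247ac32d4ad4263aa72d0ad0223ae72d0ad02c3a472d0ad0283a072d0ad0277ab3204a04237af3204a042d7a53204a04297a13204a042b3a77200a002f3a37200a00213a97200a00253ad7200a00277ab3204a04237af3204a042d7a53204a04297a13204a042b3a77200a002f3a37200a00213a97200a00253ad7200a00207ac3274a74247a83274a742a7a23274a742e7a63274a742c3a07270a70283a47270a70263ae7270a70223aa7270a70207ac3274a74247a83274a742a7a23274a742e7a63274a742c3a07270a70283a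47270a70263ae7270a70223aa7270a702d7a132a4aa4297a532a4aa4277af32a4aa4237ab32a4aa4213ad72a0aa0253a972a0aa02b3a372a0aa02f3a772a0aa02d7a132a4aa4297a532a4aa4277af32a4aa4237ab32a4aa4213ad72a0aa0253a972a0aa02b3a372a0aa02f3a772a0aa02e7a23294a942a7a63294a94247ac3294a94207a83294a94223ae7290a90263aa7290a90283a07290a902c3a47290a902e7a23294a942a7a63294a94247ac3294a94207a83294a94223ae7290a90263aa7290a90283a07290a902c3a47290a90237af3244a44277ab3244a44297a13244a442d7a53244a442f3a37240a402b3a77240a40253ad7240a40213a97240a40237af3244a44277ab3244a44297a13244a442d7a53244a442f3a37240a402b3a77240a40253ad7240a40213a97240a40247a83234a34207ac3234a342e7a63234a342a7a23234a34283a47230a302c3a07230a30223aa7230a30263ae7230a30247a83234a34207ac3234a342e7a63234a342a7a23234a34283a47230a302c3a07230a30223aa7230a30263ae7230a30297a532e4ae42d7a132e4ae4237ab32e4ae4277af32e4ae4253a972e0ae0213ad72e0ae02f3a772e0ae02b3a372e0ae0297a532e4ae42d7a132e4ae4237ab32e4ae4277af32e4ae4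253a972e0ae0213ad72e0ae02f3a772e0ae02b3a372e0ae02a7a632d4ad42e7a232d4ad4207a832d4ad4247ac32d4ad4263aa72d0ad0223ae72d0ad02c3a472d0ad0283a072d0ad02a7a632d4ad42e7a232d4ad4207a832d4ad4247ac32d4ad4263aa72d0ad0223ae72d0ad02c3a472d0ad0283a072d0ad0277ab3204a04237af3204a042d7a53204a04297a13204a042b3a77200a002f3a37200a00213a97200a00253ad7200a00277ab3204a04237af3204a042d7a53204a04297a13204a042b3a77200a002f3a37200a00213a97200a00253ad7200a00207ac3274a74247a83274a742a7a23274a742e7a63274a742c3a07270a70283a47270a70263ae7270a70223aa7270a70207ac3274a74247a83274a742a7a23274a742e7a63274a742c3a07270a70283a47270a70263ae7270a70223aa7270a702d7a132a4aa4297a532a4aa4277af32a4aa4237ab32a4aa4213ad72a0aa0253a972a0aa02b3a372a0aa02f3a772a0aa02d7a132a4aa4297a532a4aa4277af32a4aa4237ab32a4aa4213ad72a0aa0253a972a0aa02b3a372a0aa02f3a772a0aa02e7a23294a942a7a63294a94247ac3294a94207a83294a94223ae7290a90263aa7290a90283a07290a902c3a47290a902e7a23294a942a7a63294a94247ac329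4a94207a83294a94223ae7290a90263aa7290a90283a07290a902c3a47290a90237af3244a44277ab3244a44297a13244a442d7a53244a442f3a37240a402b3a77240a40253ad7240a40213a97240a40237af3244a44277ab3244a44297a13244a442d7a53244a442f3a37240a402b3a77240a40253ad7240a40213a97240a40247a83234a34207ac3234a342e7a63234a342a7a23234a34283a47230a302c3a07230a30223aa7230a30263ae7230a30247a83234a34207ac3234a342e7a63234a342a7a23234a34283a47230a302c3a07230a30223aa7230a30263ae7230a30297a532e4ae42d7a132e4ae4237ab32e4ae4277af32e4ae4253a972e0ae0213ad72e0ae02f3a772e0ae02b3a372e0ae0297a532e4ae42d7a132e4ae4237ab32e4ae4277af32e4ae4253a972e0ae0213ad72e0ae02f3a772e0ae02b3a372e0ae02a7a632d4ad42e7a232d4ad4207a832d4ad4247ac32d4ad4263aa72d0ad0223ae72d0ad02c3a472d0ad0283a072d0ad02a7a632d4ad42e7a232d4ad4207a832d4ad4247ac32d4ad4263aa72d0ad0223ae72d0ad02c3a472d0ad0283a072d0ad0277ab3204a04237af3204a042d7a53204a04297a13204a042b3a77200a002f3a37200a00213a97200a00253ad7200a00277ab3204a04237a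f3204a042d7a53204a04297a13204a042b3a77200a002f3a37200a00213a97200a00253ad7200a0028258259f19f15a55a59f19f15d55d52012012552552012012a52a5f71f71f25f25f71f71155155a81a816d56d5a81a81da5da5471471825825471471c55c553813813d53d53813817257252f12f12a52a52f12f18d58d5b01b01755755b01b01b25b252f12f1ea5ea52f12f1ed5ed51011011551551011019a59a5c71c71c25c25c71c71255255181181dd5dd51811816a56a5771771b25b25771771f55f558818818d58d58818814254259f19f19a59a59f19f13d53d58018014554558018018258259f19f15a55a59f19f15d55d52012012552552012012a52a5f71f71f25f25f71f71155155a81a816d56d5a81a81da5da5471471825825471471c55c553813813d53d53813817257252f12f12a52a52f12f18d58d5b01b01755755b01b01b25b252f12f1ea5ea52f12f1ed5ed51011011551551011019a59a5c71c71c25c25c71c71255255181181dd5dd51811816a56a5771771b25b25771771f55f558818818d58d58818814254259f19f19a59a59f19f13d53d58018014554558018018258259f19f15a55a59f19f15d55d52012012552552012012a52a5f71f71f25f25f71f71155155a81a816d56d5a81a8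1da5da5471471825825471471c55c553813813d53d53813817257252f12f12a52a52f12f18d58d5b01b01755755b01b01b25b252f12f1ea5ea52f12f1ed5ed51011011551551011019a59a5c71c71c25c25c71c71255255181181dd5dd51811816a56a5771771b25b25771771f55f558818818d58d58818814254259f19f19a59a59f19f13d53d58018014554558018018258259f19f15a55a59f19f15d55d52012012552552012012a52a5f71f71f25f25f71f71155155a81a816d56d5a81a81da5da5471471825825471471c55c553813813d53d53813817257252f12f12a52a52f12f18d58d5b01b01755755b01b01b25b252f12f1ea5ea52f12f1ed5ed51011011551551011019a59a5c71c71c25c25c71c71255255181181dd5dd51811816a56a5771771b25b25771771f55f558818818d58d58818814254259f19f19a59a59f19f13d53d58018014554558018018258259f19f15a55a59f19f15d55d52012012552552012012a52a5f71f71f25f25f71f71155155a81a816d56d5a81a81da5da5471471825825471471c55c553813813d53d53813817257252f12f12a52a52f12f18d58d5b01b01755755b01b01b25b252f12f1ea5ea52f12f1ed5ed51011011551551011019a59a5c71c71c25c25c71c712552551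81181dd5dd51811816a56a5771771b25b25771771f55f558818818d58d58818814254259f19f19a59a59f19f13d53d58018014554558018018258259f19f15a55a59f19f15d55d52012012552552012012a52a5f71f71f25f25f71f71155155a81a816d56d5a81a81da5da5471471825825471471c55c553813813d53d53813817257252f12f12a52a52f12f18d58d5b01b01755755b01b01b25b252f12f1ea5ea52f12f1ed5ed51011011551551011019a59a5c71c71c25c25c71c71255255181181dd5dd51811816a56a5771771b25b25771771f55f558818818d58d58818814254259f19f19a59a59f19f13d53d58018014554558018018258259f19f15a55a59f19f15d55d52012012552552012012a52a5f71f71f25f25f71f71155155a81a816d56d5a81a81da5da5471471825825471471c55c553813813d53d53813817257252f12f12a52a52f12f18d58d5b01b01755755b01b01b25b252f12f1ea5ea52f12f1ed5ed51011011551551011019a59a5c71c71c25c25c71c71255255181181dd5dd51811816a56a5771771b25b25771771f55f558818818d58d58818814254259f19f19a59a59f19f13d53d58018014554558018018258259f19f15a55a59f19f15d55d52012012552552012012a52a5f71f71f25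f25f71f71155155a81a816d56d5a81a81da5da5471471825825471471c55c553813813d53d53813817257252f12f12a52a52f12f18d58d5b01b01755755b01b01b25b252f12f1ea5ea52f12f1ed5ed51011011551551011019a59a5c71c71c25c25c71c71255255181181dd5dd51811816a56a5771771b25b25771771f55f558818818d58d58818814254259f19f19a59a59f19f13d53d58018014554558018010250251f11f1da5da51f11f1dd5dd5a01a01a55a55a01a01aa5aa5771771725725771771955955281281ed5ed52812815a55a5c71c71025025c71c71455455b81b81bd5bd5b81b81f25f25af1af1aa5aa5af1af10d50d5301301f55f55301301325325af1af16a56a5af1af16d56d59019019559559019011a51a5471471425425471471a55a559819815d55d5981981ea5ea5f71f71325325f71f717557550810810d50d5081081c25c251f11f11a51a51f11f1bd5bd5001001c55c550010010250251f11f1da5da51f11f1dd5dd5a01a01a55a55a01a01aa5aa5771771725725771771955955281281ed5ed52812815a55a5c71c71025025c71c71455455b81b81bd5bd5b81b81f25f25af1af1aa5aa5af1af10d50d5301301f55f55301301325325af1af16a56a5af1af16d56d590190195595590190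11a51a5471471425425471471a55a559819815d55d5981981ea5ea5f71f71325325f71f717557550810810d50d5081081c25c251f11f11a51a51f11f1bd5bd5001001c55c550010010250251f11f1da5da51f11f1dd5dd5a01a01a55a55a01a01aa5aa5771771725725771771955955281281ed5ed52812815a55a5c71c71025025c71c71455455b81b81bd5bd5b81b81f25f25af1af1aa5aa5af1af10d50d5301301f55f55301301325325af1af16a56a5af1af16d56d59019019559559019011a51a5471471425425471471a55a559819815d55d5981981ea5ea5f71f71325325f71f717557550810810d50d5081081c25c251f11f11a51a51f11f1bd5bd5001001c55c550010010250251f11f1da5da51f11f1dd5dd5a01a01a55a55a01a01aa5aa5771771725725771771955955281281ed5ed52812815a55a5c71c71025025c71c71455455b81b81bd5bd5b81b81f25f25af1af1aa5aa5af1af10d50d5301301f55f55301301325325af1af16a56a5af1af16d56d59019019559559019011a51a5471471425425471471a55a559819815d55d5981981ea5ea5f71f71325325f71f717557550810810d50d5081081c25c251f11f11a51a51f11f1bd5bd5001001c55c550010010250251f11f1da5da51f11f1dd5dd5a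01a01a55a55a01a01aa5aa5771771725725771771955955281281ed5ed52812815a55a5c71c71025025c71c71455455b81b81bd5bd5b81b81f25f25af1af1aa5aa5af1af10d50d5301301f55f55301301325325af1af16a56a5af1af16d56d59019019559559019011a51a5471471425425471471a55a559819815d55d5981981ea5ea5f71f71325325f71f717557550810810d50d5081081c25c251f11f11a51a51f11f1bd5bd5001001c55c550010010250251f11f1da5da51f11f1dd5dd5a01a01a55a55a01a01aa5aa5771771725725771771955955281281ed5ed52812815a55a5c71c71025025c71c71455455b81b81bd5bd5b81b81f25f25af1af1aa5aa5af1af10d50d5301301f55f55301301325325af1af16a56a5af1af16d56d59019019559559019011a51a5471471425425471471a55a559819815d55d5981981ea5ea5f71f71325325f71f717557550810810d50d5081081c25c251f11f11a51a51f11f1bd5bd5001001c55c550010010250251f11f1da5da51f11f1dd5dd5a01a01a55a55a01a01aa5aa5771771725725771771955955281281ed5ed52812815a55a5c71c71025025c71c71455455b81b81bd5bd5b81b81f25f25af1af1aa5aa5af1af10d50d5301301f55f55301301325325af1af16a5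6a5af1af16d56d59019019559559019011a51a5471471425425471471a55a559819815d55d5981981ea5ea5f71f71325325f71f717557550810810d50d5081081c25c251f11f11a51a51f11f1bd5bd5001001c55c550010010250251f11f1da5da51f11f1dd5dd5a01a01a55a55a01a01aa5aa5771771725725771771955955281281ed5ed52812815a55a5c71c71025025c71c71455455b81b81bd5bd5b81b81f25f25af1af1aa5aa5af1af10d50d5301301f55f55301301325325af1af16a56a5af1af16d56d59019019559559019011a51a5471471425425471471a55a559819815d55d5981981ea5ea5f71f71325325f71f717557550810810d50d5081081c25c251f11f11a51a51f11f1bd5bd5001001c55c550010018258259f19f15a55a59f19f15d55d52012012552552012012a52a5f71f71f25f25f71f71155155a81a816d56d5a81a81da5da5471471825825471471c55c553813813d53d53813817257252f12f12a52a52f12f18d58d5b01b01755755b01b01b25b252f12f1ea5ea52f12f1ed5ed51011011551551011019a59a5c71c71c25c25c71c71255255181181dd5dd51811816a56a5771771b25b25771771f55f558818818d58d58818814254259f19f19a59a59f19f13d53d580180145545580180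18258259f19f15a55a59f19f15d55d52012012552552012012a52a5f71f71f25f25f71f71155155a81a816d56d5a81a81da5da5471471825825471471c55c553813813d53d53813817257252f12f12a52a52f12f18d58d5b01b01755755b01b01b25b252f12f1ea5ea52f12f1ed5ed51011011551551011019a59a5c71c71c25c25c71c71255255181181dd5dd51811816a56a5771771b25b25771771f55f558818818d58d58818814254259f19f19a59a59f19f13d53d58018014554558018018258259f19f15a55a59f19f15d55d52012012552552012012a52a5f71f71f25f25f71f71155155a81a816d56d5a81a81da5da5471471825825471471c55c553813813d53d53813817257252f12f12a52a52f12f18d58d5b01b01755755b01b01b25b252f12f1ea5ea52f12f1ed5ed51011011551551011019a59a5c71c71c25c25c71c71255255181181dd5dd51811816a56a5771771b25b25771771f55f558818818d58d58818814254259f19f19a59a59f19f13d53d58018014554558018018258259f19f15a55a59f19f15d55d52012012552552012012a52a5f71f71f25f25f71f71155155a81a816d56d5a81a81da5da5471471825825471471c55c553813813d53d53813817257252f12f12a52a52f12f18d58d5b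01b01755755b01b01b25b252f12f1ea5ea52f12f1ed5ed51011011551551011019a59a5c71c71c25c25c71c71255255181181dd5dd51811816a56a5771771b25b25771771f55f558818818d58d58818814254259f19f19a59a59f19f13d53d58018014554558018018258259f19f15a55a59f19f15d55d52012012552552012012a52a5f71f71f25f25f71f71155155a81a816d56d5a81a81da5da5471471825825471471c55c553813813d53d53813817257252f12f12a52a52f12f18d58d5b01b01755755b01b01b25b252f12f1ea5ea52f12f1ed5ed51011011551551011019a59a5c71c71c25c25c71c71255255181181dd5dd51811816a56a5771771b25b25771771f55f558818818d58d58818814254259f19f19a59a59f19f13d53d58018014554558018018258259f19f15a55a59f19f15d55d52012012552552012012a52a5f71f71f25f25f71f71155155a81a816d56d5a81a81da5da5471471825825471471c55c553813813d53d53813817257252f12f12a52a52f12f18d58d5b01b01755755b01b01b25b252f12f1ea5ea52f12f1ed5ed51011011551551011019a59a5c71c71c25c25c71c71255255181181dd5dd51811816a56a5771771b25b25771771f55f558818818d58d58818814254259f19f19a5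9a59f19f13d53d58018014554558018018258259f19f15a55a59f19f15d55d52012012552552012012a52a5f71f71f25f25f71f71155155a81a816d56d5a81a81da5da5471471825825471471c55c553813813d53d53813817257252f12f12a52a52f12f18d58d5b01b01755755b01b01b25b252f12f1ea5ea52f12f1ed5ed51011011551551011019a59a5c71c71c25c25c71c71255255181181dd5dd51811816a56a5771771b25b25771771f55f558818818d58d58818814254259f19f19a59a59f19f13d53d58018014554558018018258259f19f15a55a59f19f15d55d52012012552552012012a52a5f71f71f25f25f71f71155155a81a816d56d5a81a81da5da5471471825825471471c55c553813813d53d53813817257252f12f12a52a52f12f18d58d5b01b01755755b01b01b25b252f12f1ea5ea52f12f1ed5ed51011011551551011019a59a5c71c71c25c25c71c71255255181181dd5dd51811816a56a5771771b25b25771771f55f558818818d58d58818814254259f19f19a59a59f19f13d53d58018014554558018010250251f11f1da5da51f11f1dd5dd5a01a01a55a55a01a01aa5aa5771771725725771771955955281281ed5ed52812815a55a5c71c71025025c71c71455455b81b81bd5bd5b81b8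1f25f25af1af1aa5aa5af1af10d50d5301301f55f55301301325325af1af16a56a5af1af16d56d59019019559559019011a51a5471471425425471471a55a559819815d55d5981981ea5ea5f71f71325325f71f717557550810810d50d5081081c25c251f11f11a51a51f11f1bd5bd5001001c55c550010010250251f11f1da5da51f11f1dd5dd5a01a01a55a55a01a01aa5aa5771771725725771771955955281281ed5ed52812815a55a5c71c71025025c71c71455455b81b81bd5bd5b81b81f25f25af1af1aa5aa5af1af10d50d5301301f55f55301301325325af1af16a56a5af1af16d56d59019019559559019011a51a5471471425425471471a55a559819815d55d5981981ea5ea5f71f71325325f71f717557550810810d50d5081081c25c251f11f11a51a51f11f1bd5bd5001001c55c550010010250251f11f1da5da51f11f1dd5dd5a01a01a55a55a01a01aa5aa5771771725725771771955955281281ed5ed52812815a55a5c71c71025025c71c71455455b81b81bd5bd5b81b81f25f25af1af1aa5aa5af1af10d50d5301301f55f55301301325325af1af16a56a5af1af16d56d59019019559559019011a51a5471471425425471471a55a559819815d55d5981981ea5ea5f71f71325325f71f717557550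810810d50d5081081c25c251f11f11a51a51f11f1bd5bd5001001c55c550010010250251f11f1da5da51f11f1dd5dd5a01a01a55a55a01a01aa5aa5771771725725771771955955281281ed5ed52812815a55a5c71c71025025c71c71455455b81b81bd5bd5b81b81f25f25af1af1aa5aa5af1af10d50d5301301f55f55301301325325af1af16a56a5af1af16d56d59019019559559019011a51a5471471425425471471a55a559819815d55d5981981ea5ea5f71f71325325f71f717557550810810d50d5081081c25c251f11f11a51a51f11f1bd5bd5001001c55c550010010250251f11f1da5da51f11f1dd5dd5a01a01a55a55a01a01aa5aa5771771725725771771955955281281ed5ed52812815a55a5c71c71025025c71c71455455b81b81bd5bd5b81b81f25f25af1af1aa5aa5af1af10d50d5301301f55f55301301325325af1af16a56a5af1af16d56d59019019559559019011a51a5471471425425471471a55a559819815d55d5981981ea5ea5f71f71325325f71f717557550810810d50d5081081c25c251f11f11a51a51f11f1bd5bd5001001c55c550010010250251f11f1da5da51f11f1dd5dd5a01a01a55a55a01a01aa5aa5771771725725771771955955281281ed5ed52812815a55a5c71c71025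025c71c71455455b81b81bd5bd5b81b81f25f25af1af1aa5aa5af1af10d50d5301301f55f55301301325325af1af16a56a5af1af16d56d59019019559559019011a51a5471471425425471471a55a559819815d55d5981981ea5ea5f71f71325325f71f717557550810810d50d5081081c25c251f11f11a51a51f11f1bd5bd5001001c55c550010010250251f11f1da5da51f11f1dd5dd5a01a01a55a55a01a01aa5aa5771771725725771771955955281281ed5ed52812815a55a5c71c71025025c71c71455455b81b81bd5bd5b81b81f25f25af1af1aa5aa5af1af10d50d5301301f55f55301301325325af1af16a56a5af1af16d56d59019019559559019011a51a5471471425425471471a55a559819815d55d5981981ea5ea5f71f71325325f71f717557550810810d50d5081081c25c251f11f11a51a51f11f1bd5bd5001001c55c550010010250251f11f1da5da51f11f1dd5dd5a01a01a55a55a01a01aa5aa5771771725725771771955955281281ed5ed52812815a55a5c71c71025025c71c71455455b81b81bd5bd5b81b81f25f25af1af1aa5aa5af1af10d50d5301301f55f55301301325325af1af16a56a5af1af16d56d59019019559559019011a51a5471471425425471471a55a559819815d55d5981981ea5ea5f71f71325325f71f717557550810810d50d5081081c25c251f11f11a51a51f11f1bd5bd5001001c55c55001001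

/-- inverses -/
def IT : ℕ := 0x4d37062cd83c7e76b2609ff8a6bd4e875274e1f8ba7f15f0343c1675d32c177ca26991e87fb25e7e5d6468f2aa961be083316616d61cf07cd2da91d8a8bb2efd5c542ff2da051bd09a3c766fdf0cf970c2f39dc811b23e245144c6fecacc17c0193146b8da7c0a7af29493b872bb0e93503415f4fa0b19b0203e56a1d56c2374e2dd99a8ebb01e2a5b24dcfaeaa213a057372602d45c047092ae9d98fcbd6e695e145bfe9af117900e3e363bd94c4d7882c7958805b07ef05704f2f68a781f80153a8644d6bca67332889978deb2ce0f5af499f73af71d706c31961dddaccf792281976807bddef655e410fd2a1e1360db3ce67ed89c287952329758d0b4ae7554d457fd5a8d1350c231f607d18c2175421b9b4869bdbeac59c4bef14a441f40c134c650dcfc527772fc9d388abc8e9b50b4edf37a031930f83bd649d3ec7b7962b5972813b79e225ba424fd6aaa13208f32a6ead2dc5c7d12c6931804baee615e94a3f91af91710d63bb6d3dfcc157502af9b08fdb7fef857840af10a701f00bd30067cd53c8e71b23092f896be4e175b74d1fbbaef1cf0c43b1625de2ce77ba2399ce84fb15eee546458f1aa0612e0f33e66c6d31c8073d20a94d818b02eed5d549ff9da151a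d0ea3376bfda0c897fc22398c8a1b93e34504476f5cadc16c0e93646e8d77cfa7df2c49eb842b80e03593425f7fa9b10b0d03956f1d86cd373e28d94a8dbb31eba5224ecf9ea321aa0273826d2d15c747f927e98984cb66e795f14ebf59ae116907e3136ebdc4c3d7782179088b5bb7ee0560442fd8a681e80e53d8614dbbc567432d89478eeb1ce9f53f4a9f43a6714709c36964dd0ac3f7e22d19a6837bede665ce420fe2a8e1a60ab33e6aedd9c587652e2925860bfae6555d4e7f65a9d1250b23ef6d7d48c517a42cb9e48d9b6bebc58c40efa4a541e403133c600d1fca27072ac9038babf8e0b59b4ddf07a931030083cd619deec8b7e62e59a2823b49eb252a414fe6a3a1a20ff3da63ad7dc2c7212169618b4b1ee715f9413f21ae91610a634b603dacc657a027f9e084dbcfee85684bafa0a601e002d39068cd23c9e70b2409df8c6b34e27587401feba5f17f0543216d5d92cf77aa24993e81fbc5ede576488f4aab619e0e33f66b6dc1c107ad2fa93d8c8b52e5d5654cff4da2519d0fa3276cfd50c1976c2d39fc871bc3e845b4426f8caec15c0793f4618d07cea7cf2b491b812b50e335a34f5f2fa2b1bb040305601df6cc372e2fd9ba88bbe1e8a51243cfcea8211a0373926a2de5ce476928e9f989cb36e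c95414bbf89ad115906e30369bd34cad7e82e7978865be7e505d0412f08a581d80753486e4dcbc467532a89b78bebcceaf50f479f13ad71f700c3f96bdd7ac2f7f22a1956867b3de565fe4f0fb2a3e1160bb32e6ded29cc87f52129558b0baaed55ed4b7fb5aad1150a23ff6a7db8cc173423b994809b3be0c53c45ef74a641d40a13ac6f0d6fcb27172dc9f38eab28e3b5ab40df57a231b309835d6e9d9ec9b7f6295952873b99e8251a4c4fb6a8a1120ef3ca64ad8dcbc7b12e6911864b4eec1549443ff1ad91510b635b673d5ccf573028f99089db9fe585d84eaf70a501d00dd3e06dcdf3c6e77b21090f8f6b04eb7517431fdbacf1ef0a4351685d42c077da2199ee82fbf5e4e5e64b8f7aa2610e093306666d91c6075d22a96d878be2e4d57547fffda3518d08a3d761fd00c6979c2039ac8c1b73e945a4496f3cafc14c089384648dd7c1a7bf2e49cb822b60ea35334c5f1fabb12b0b0375651d26c3375e2ad96a8bbbd1e1a58240cffea1218a047362672db5c9479925e9a982cb86ed955140bf39ac114901e3f364bd64cdd7182379288d5b57e405c04a2fb8a481c80853386b4d1bcb67232f896788ebfce3f59f449f23a471670fc3896eddaacdf7822f1986857b0dec656e4c0f82aae1860cb3de60ed79cb8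7052c2905800b1aec55fd407f05abd1050d230f677de8cb17c42eb9c48b9b8be1c52c4eefc4a741c40513dc6a0dbfc4276728c9238dab18eab53b43df67ab312306832d6b9d4ec6b7862c5982843ba9e1258a4f4f86a1a18209f33a69adddccc7412369418d4bfeed15594f3f41ac91410c63ab6a3d0cc857c025f9c082db2fe485c845afc0a401c008d3306ecdc3cbe72b2a09bf866b94e47567421fcbabf11f0f43816b5d72cd778a2a995e8bfb65ebe5964a8f6aa561fe0433566d6d21c3078d21a95d868bf2e3d5854eff6dac51fd05a3876afdb0c3974c23399c8d1b63ee4554406faca0c13c0d9354678de7cca7ef25497b8b2bf0e535434d5f0facb1db0e03a5661d16ce370e21d9da82bb41eea5f241cfeea6217a0973326c2d05cc474926e99983cb96ea95a149bfa9a311390ce3a36fbdd4c8d7c82079188c5b47e30530432f28ab81b80d53e8684d2bc667732489d781eb6cecf5ef459f33a371970ac3596ddd9ac0f7d22419368c7b9de3651e4d0f92ade17601b38e6bedc9ce87d52f2935810b0aeb550d497f95a4d17500235f6c7d58ce17142db9f48a9b9be6c5dc47ef54a841b400130c690d8fc9273723c99384ab88e5b54b42df77ac31d30383fd689d7ecbb7d62759328d3b39ee25fa4e4f96a6a17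204f36a62ad6dc9c7912069718c4beeea15a9463fd1a391310163fb613dbccd571026f9f083db3fe385384caf50ab01b007d3406bcd13c4e75b2f096f856ba4ed75f7411ffba2f18f0043f16e5da2c277fa2f998e88fb55e2e506498f5aac616e0333a6606d71c4077d2ca90d8d8b42e2d59545ffddad51ed02a37767fde0c497bc2e39cc861bd3ef45444b6f1ca1c12c029324628d37c3a79f2049ab882bc0ec35d34e5f3fa5b14b0103d5631dc6c1377e24d90a81bb71e7a56242cfdeaf21ea0e73c2612d55cb47b92be9c988cb26eb95b142bf19a211290be35362bd84cfd7382d7948875bf7e20520482f98aa81a80253986d4dfbc9670321890782eb5ce5f57f469f03aa710705c32968dd4acff7a22119e68f7badea658e4e0fa2a4e1e606b37e66ed99c987252229658a0bbaea551d427f25a5d1650723af617d08c917e420b9a4819b2be7c5cc4cefe4a941a40f137c6c0d5fc6274726c94387abb8ecb5db41df47a531430c838d6d9daec4b7a62259e28e3b09e7256a4d4fa6afa1e203f39a6fad3dcec7612d6921874b5eeb15b94d3f61a2912106630b6c3decca57e02bf9a088db8fe2852847afe0aa01a00ed3d064cd63c5e74b28099f806b74ee75c74c1faba9f13f094361615dd2c377ea28997e8dfb85e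1e536448f0aa761de0233b6676d81cd07ed23a97d808b12e9d52540ff0dae51dd03a36760fd10cd972c2139bc8b1b83e445f44e6fcca2c11c0b93b46d8d47c2a78f27495b8d2b10ef35e3435f6faeb1fb0803456c1db6c0376e23d9fa84bba1e4a5524fcf8ea4215a0f73d2662da5c2472924e9b985cb76e0950147bfc9a111190ae34365bd74c6d7a82279388a5ba7e905904d2f48a981980b5308624d8bc867132689f787eb8ce6f54f4b9f53a171b70cc3b967dd3acef7b22619168a7b7de965be430ff2afe15607b36e61ed69c087b52d2915870beae155ad477ff5a6d1550623bf667df8c017742fb9d48c9b7becc57c49ef34aa41940613ec630d2fc7275721c9b382ab68efb5eb4cdf17ae31f305831d629ddec5b7b62559128b3bd9e4255a404ff6a4a15202f38a68adcdc7c7f12269518a4b0ee01509483fb1a1911107631b6b3d1cc3577024f9d085dbdfe9859842af30a9019001d3a061cdb3cae73b2d094f836b44e775574f1f9ba0f1af064311645d02cc779a2d99ae8efbb5e8e5a6478f3aae614e0533466a6dd1ca071d2ea92d8b8ba2e8d5354bffbdaf51cd04a3976dfd40ca97dc2c39ec801b33e545e4456f7ca3c10c0493c4688d97cda7ff22498b8e2b20e63573405f5fa7b16b070335691d66cf3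71e26d92a87bb91eda5c24ccfbead21ca0873226b2df5c547d929e9e98ecbc6e195114cbf79a011090de3b368bd24c1d7582f7968815b17e80580462ff8a88188045378674d5bc7676323892784ebbceff5df489f63a8712703c3c962ddeac1f7c22319c6897b4de0652e400fc2a6e1c600b39e6ced39c787452029458c0b5ae055bd4c7f45a7d14501234f6b7da8c7178422b984879bcbedc56c42ef84ab418409139c660dffc8272724c96381ab58e6b57b4fdf27a731630a836d679d0ecab7c62059c2883be9ed25ca434fc6ada1c205f37a65ad9dc0c7012f6901814bbee11519433f01a091010063eb663d4cc4578029f9808edb6fe8858849af80a801800cd3f06acd03cfe7eb2e097f826b54e075a7461f0baff1df0b43416f5db2c9774a2e999e8ffba5efe5564e8faaa1613e003396696de1c7074d25a99d828b32e7d5454affada8513d01a3476efd70c7978c27395c891ba3ea4594446f6ca4c1fc099394638d27c8a72f2149bb8f2b30e13583495fcfa8b11b0a0365621dd6ca37ce25d91a86bb81eaa53245cf2ea221ba0d73f2682dc5c8478922e95987cb56ee95614dbf69a711f908e3636bbd14ccd7082479d8885b87e705f0472fe8af81780953286c4debc267b320891785ebace8f52f419ff3a7715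70ec39969dd5ac4f7122019f6887b5de765de490f52a9e1b605b34e6fed09ca87152b29f5850bcaef55cd4d7f55a0d1b504239f687d98ca17d429b9348e9b5be2c51c43ef94ac41740413cc6d0d4fcd27f727c95380ab48e1b58b46dfb7a8311307833d6c9dbecfb7162359f2893bf9ea253a4a4f56a2a1b200f3aa66adadcdc7512469b1884b2eee1569423f11a791f105633b653d7cc957d022f93087dbffe785f848af90af017003d3806fcdd3c0e79b2b09af816b64e97537451f3ba6f14f0443316a5d62c6773a2b994e8cfb95e6e5c64d8f9aa861ae073366646db1c007bd28a9cd898b82e6d55541ff1da9512d06a3b763fd20c0977c2a390c821b13eb45844f6fdca5c1ec0693e4668df7c7a75f24496b8c2b00e835134a5fffa1b18b050315671d06c537be20d9ca85bbb1e3a5a246cf1eab212a0a7302652d95cf47792fe9098ccbe6ef957146bfd9a611e90fe39366bd44cbd7f8297988835b37e605e04c2f58ae8168065358694d3bcd67c32589c786eb9ce1f5bf429fc3ae71c701c3e96cdd8acbf7622519268b7b6dee654e4a0f62a0e12602b3be62ed59cd87e52629a58e0b7aee55dd467fe5a1d1a503236f657dc8cd172424b964859bebe3c50c48ef24ad41640b13bc680d9fc2278722c98383ab78e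8b51b45df87a1318308834d699d6ec0b7662659228a3bc9e325aa494f66aba12207f35a6badfdcac7a12969e1834b9eef1579493fa1a691e10263cb683d2cce57202ff9608cdb4fe685e843af20ae01600ad31060cda3c1e78b2c095f846bb4ea7507481f6badf1ff0d43a1655d12c7772a2c99be89fb45e5e5f6408fcaa3611e063376636d41c9072d27a9bd848bd2edd5e544ffcdaa511d07a3a764fdd0c997ec25397c8f1b43e045344a6f0ca6c1dc0f9374698d87c6a74f23499b892bd0eb3523475fafaab13b0c0385681d76c437ae27d93a80bb61e0a5924bcf4ea0219a0b7312622d65c647e920e97981cbb6e495c143bf09a511d90ee38361bdb4c2d7682679f88e5b67ed0550492f88ad81580f53c8664d4bcc67d322893783eb4ce2f58f4f9f93a5717708c37963ddfacaf7722219d68e7bbded657e470f32abe19603b3ae65eda9c487752929d5830b2ae5556d437f35a2d19502237f627d38c417b42bb914889bbbe8c5bc4deff4ae415402132c670defc3279725c97386aba8ebb52b48dfd7aa31330183dd669d1ec1b7762159d28f3b19e0259a444f36a0a19206f34a6cad0dc3c7312669918e4bcee415c94c3f71a591d10363db6f3ddcc757b020f91081db1fed855846aff0ad015005d36065cd73cee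7fb29098f876b84e375974b1f5ba4f16f0243d1605dc2c8775a29996e8afb75ece566438ffaaa618e0133866e6d11ce07dd2aa9ed8f8b62ecd5f54fff7dab510d00a35769fd80ce971c28392c841bf3e14524416fbca7c1cc0093046c8d57c9a73f26494b8a2be0e235b3445f9fa3b1ab0303f56d1da6cb37de22d9ea83bb51e9a50248cf7ea9210a0c73e26f2d35c147192de9298acb06e595d148bfb9a411c909e3736cbde4c5d7982b79a8855bd7ec0540422f38ac81480053b8634d9bc367a32789e780eb7cebf51f4c9fa3ac71e707c30966dd2ac5f7022719068d7b8de465ee440f02a2e10604b35e68edf9c38785242985880b9ae4557d487f85a3d18505238f6f7d68c3174426b944839b0be9c5ac46ef44af41440d135c620d3fcc27e720c9a385ab98e2b5bb4bdfe7a331a30e83ad639dceceb7062459028c3b29e9250a474f06a9a10201f3ba61ad5dc4c7c12b69c1854b7ee515d9473fc1a491c104632b623d8cc057402df9408adbafec85484daf40ac014000d3b066cd43c3e7ab22093f8e6b14ec75e74a1f4ba3f19f074301635df2c5770a2299de83fbe5e3e516428feaad617e0c33d6656da1cb070d29a9dd8e8b72ebd50546ffeda4517d0da30762fd30cb97cc2b391c851be3e645d4486f2ca8c1b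c0593d46f8d67c4a76f2d49fb832b70ed35c3455f8fa4b15b0603256e1d96c6378e29d95a8abbc1e6a57249cf6eae21fa0173b2642d85c447c92ee9198bcb16e2952141bf29ab11b904e32367bd54c0d748287998845bc7eb05b04b2fa8a38138055368604dabce67f32c895789ebece4f56f4d9fb3ab711702c3d965dd1ac8f7522c19b6847b1deb659e450f12a5e1f609b30e63ed49c687552729b5890b8ae3558d417f15acd1f50823df647dd8c6179425b974829b1beec55c4fefd4a0413408138c610d0fc127b72bc9138cab08edb5cb4adff7a431530b837d609dfec3b7562f59b2853bb9e6257a464f16aea1f20cf3ea6aadedc1c7112869f1844b6ee215294e3f51ab91b109637b693d3cc557902ef9708bdbbfeb85b844afd0a301300fd3c063cd93cce7db2709ef8d6b24e57577491f7baaf10f084371665d22ca777a27990e80fbd5eae586418fdaa461ee0b3326686df1cc07fd24a98d858bc2ead5154dff5da5516d0aa3f76ffd60cc973c26394c8e1b53e745c4436f9ca9c1ac0a93a46a8db7cba71f28492b802b40e43553465fbfadb1cb0903556b1d46c937fe2cd98a89bbf1efa5e24acf5ea7216a067342692dd5c3473923e94980cba6e395314abf99aa11a903e3d36abd04c7d7b82579c88f5b77e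a05a0402f18a281280a5318654d7bc167832989878aebdcedf5ff4e9f83a271870dc3a960ddcac7f722291966877b2de2650e460f22ace1660eb3fe6eed19c187a52a29e5820b3ae2559d4a7fa5add1e50f232f697d88c1176428b924899babefc54c44ef64a141240713fc640ddfce27c72ec9c38fab38e4b55b49dfc7ad31c304830d659d2eccb7262a5962863b89ef25ea454f26a7a1620bf31a67adbdc6c7e12569a18f4bdee31539453fe1aa91a10e638b643d6cc2576023f92080db0fea85a84faf60a2012006d3506ccde3cde7cb20091f886bf4e67547441f2ba1f1bf0143e1695d52cb776a2099fe85fb05e9e5b64c8f8aaf615e0a33366f6d01c5076d2ba9fd888b92e1d5a548ff8da6515d0ba3e768fd90c597ac29393c831b03ec4574466f4caac19c039334658dc7caa70f2f49db852b90e735634b5fefa6b17b0003c5641d36c837ee2bd97a8cbb21eca5d247cf0eac21da0773526e2d25ca47a92ce9398dcbf6e895814fbf49a9119902e3c36dbdf4ced7282a79b8825b27e10510452fc8a181180353886a4d0bc067932e89778feb0ceef5cf439fd3a9713704c3396fddbac6f7322e1996827bfde1653e4b0f72a7e1d60fb3ee69ede9c887352529958f0b6ae9552d4f7f75aed1d50e233f6e7d78c81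7f427b954849bfbe4c5fc41efb4a241140e136c6b0dafcf27d729c9338aabe8e7b56b44df97a631730d839d6a9d5ecdb7362d5992833b59ec25da484f76aca1d20af30a60ad4dcfc7712a69d1824b8ee81589403f31a991910f639b633d9ccb57f02cf9508ddb5fe185184aafb0a1011009d32069cd33c2e7bb2509cf8b6bc4ef75d7471f1ba8f12f0e43916c5d82c4771a25992e86fb35e0e5264f8fbaa661ce0d33c6626d51c2079d26a9ad838b22e0d5b543ff3da7514d0ca31765fdc0c2975c24396c881bb3ed45644d6ffcabc18c0c9344608d17c5a77f2a490b862ba0ee35f3485fdfafb1eb0f03b5611de6c7379e2ed9aa8fbb11e5a54244cf3ea5214a0073a2632d75cd475921e96986cb46e9959144bff9a8118905e33360bda4c9d7d82779e8895b97e005004e2f78a081080c53f86f4ddbcf67e32b89a78ceb3ce7f55f409fe3a071a70bc3496add6ac9f7422b1946817bcde865ae480f42aee14608b31e64edb9cf87c52829c5840bdae8553d447fc5afd1c50923cf637d28cf17042ab9048f9b4be5c5ec4aef04a3410401131c6e0d7fc027a72cc9e389abd8eeb5fb47dfa7af31e30283ed6f9d8ec2b746285942803b69e5254a4b4f46a5a1420df3fa6dad1dc8c781276981894b3ee915994b3f81a8918108636b6e3dcccc570021f90086dbefe0850841af00a001000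

/-- numbers of the codes -/
def XT : ℕ := 0x7fd96dffd16dedd84d6dd04d1bd72d9bdf2d89d60d09de0dffa2ea7faaeabda6ca3daeca7baaaafba2aa39ae8ab9a68a207d97a07597f270b77278b70477d7847fd7d67af75672f767c66ce7ce6ca5c24c25ca4c23c22ca3ca2ce1c60c61ce0ce79de96795e9f59cc97594c9c397a9439fa9d19689519e89886296086a96ca6eb64a66b64c6ed6cc66d60e62f68e6af6bfb16b3fb96b2db04badb84bdbbf2b5bb72b49be0bc9b60bff82e87f8ae8bd86c83d8ec87b8aa8fb82a8398e88b98688e754e5675ce5b559c53551c50352a5835aa5515f85d1578577aa6af7a26a35ae4ab5a64a73aa2af3a22a31ae0ab1a60aa87517287d177a7837fa70370c77578c7f57de7a775e72775f47e4df4fe49d43c41d4bc49b4ba41b43a4594f84d94784ef9d696f9569fd9c497d94494b9f29cb9729599e09d99609806216006a16c26e36426636c46656446e56866a76066276273ce3a734e37531c3f539c3c33aa34332a3913783113f83778a68f78268358e48b58648738a28f38228318e08b186086f5c65ef54653d5145bd59450b52258b5a25595f05d957058f23e20f2be2cd27c24d2fc20b2ba28b23a2492f82c92782a0f79f20ff9fb2f6bf32febf84fddf04f5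df96fcff16f4ffd74f64574764154b44954344934b24134324514f04d14704b718e13710e16515c1e51dc19312a1131aa1411f81c11781e8e49e68ec9eaae8be2ae0be2ce8deace0de6ee4feeeecfe2f3c63af34637d3143fd39434b3223cb3a23193f039937038f03e00f0be0cd07c04d0fc00b0ba08b03a0490f80c90780e7d2ed67daed75d3cdf5dbcd03d4ad83dcad91d58d11dd8d072b62872362452f42c52742032b22832322412f02c12702a8f71f28ff1fbaf63f3afe3f0cf55f8cfd5f1ef47f9efc7f7fc5ecffcdecbdc1cc3dc9ccbbc9ac3bc1ac79cd8cf9c58c3f1061bf1861ed1d416d15419b12211b1a21491f01c9170160ec1ee0e41e22e03ea2e83e24e85ea4e05e66e47ee6ec7ea7b2eb27baeb35b3cbb5bbcb43b4abc3bcabd1b58b51bd8b070b60870360450f40c50740030b20830320410f00c107006fda6defd26dfddb4d7dd34d0bd42d8bdc2d99d50d19dd0defa1ea6fa9eaada5ca2dadca6ba9aaeba1aa29ad8aa9a58a507c97d074978271b70279b77476d7f47ed7a67bf72673f777c56cf7cd6cb5c14c35c94c33c12cb3c92cf1c50c71cd0cf79ee97796e9e59fc96597c9d394a9539ca9c19589419d89f86396786b96ba6fb63a67b63c6fd6bc67d67e63f6fe6bf6afb26b2fba6b3db34b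bdbb4bcbbc2b4bb42b59bd0bd9b50bef81e86f89e8ad85c82d8dc86b89a8eb81a8298d88a985889755e5175de5c558c54550c57353a5f35ba5215e85a1568567a96ae7a16a25ad4aa5a54a63a92ae3a12a21ad0aa1a50ad87417587c170a79378a71377c7657fc7e57ae7b772e73772f46e4af4ee4ed42c46d4ac4eb4aa46b42a4294e84a94684ff9e697f9669ed9f496d97495b9c29db9429499d09c99509f06316706b16b26f36326736b46756346f56f66b76766376573de3d735e30530c38538c3b33ba33333a3e13683613e83678968e78168258d48a58548638928e38128218d08a185081f5d659f55654d5045cd58457b5325fb5b25295e05a95605ff22e27f2ae2bd26c23d2ec27b2aa2fb22a2392e82b9268290f69f10fe9f82f7bf02ffbfb4fcdf34f4dfa6fdff26f5ffa74e64274664654a44e54244e34a24634224214e04a14604c719e14711e11514c1951cc1e313a1631ba1311e81b11681d8e59e58ed9e9ae9be1ae1be1ce9de9ce1de5ee5fedeedfe5f3d63df35630d30438d38433b3323bb3b23693e03e93603ff02e07f0ae0bd06c03d0ec07b0aa0fb02a0390e80b90680d7d3ed57dbed45d2cdc5dacd33d5adb3ddada1d48d21dc8d772a62f72262352e42b52642732a22f32222312e02b1260298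f61f18fe1f8af73f0aff3f3cf45fbcfc5f2ef57faefd7f4fc4eccfccec8dc0cc0dc8cc8bc8ac0bc0ac49cc8cc9c48c4f1161cf19619d1c411d1441eb13216b1b21391e01b9160150ed1ed0e51e12e13e92e93e14e95e94e15e56e57ed6ed7e97b3eb17bbeb05b2cb85bacb73b5abf3bdabe1b48b61bc8b770a60f70260350e40b50640730a20f30220310e00b106005fdb6ddfd36dcdda4d4dd24d3bd52dbbdd2da9d40d29dc0ddfa0ea5fa8ea9da4ca1dacca5ba8aadba0aa19ac8a99a48a407f97c077979272b7127ab76475d7e47dd7b678f73670f747c46cc7cc6c85c04c05c84c03c02c83c82cc1c40c41cc0cc79fe94797e9d59ec95596c9e395a9639da9f19489719c89e86096686896aa6cb62a64b62c6cd6ac64d66e60f6ee68f69fb36b1fbb6b0db24b8dba4bfbbd2b7bb52b69bc0be9b40bdf80e85f88e89d84c81d8cc85b88a8db80a8198c889984888756e5075ee5d55bc55553c56350a5e358a5315d85b1558557a86ad7a06a15ac4a95a44a53a82ad3a02a11ac0a91a40ac87717487f171a7a379a72376c7557ec7d57be78773e70773f45e4bf4de4fd41c47d49c4fb49a47b41a4394d84b94584cf9f694f9769dd9e495d96496b9d29eb9529799c09f99409e06016606816a26c36226436a46456246c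56e66876666076473ee3c736e31533c3953bc3a338a32330a3f13583713d83578868d78068158c48958448538828d38028118c089184080f5e658f56655d5345dd5b456b5025eb5825395d05b95505ef21e26f29e2ad25c22d2dc26b29a2eb21a2292d82a9258280f19f00f99f92f0bf12f8bfa4fbdf24f3dfb6faff36f2ffb74d64374564754944f54144f34924734124314d04b14504d71ae15712e10517c1851fc1f310a17318a1211d81a11581c8e29e48ea9e8aeebe0ae6be0ceede8ce6de4ee2feceeafe4f3e63cf36631d33439d3b432b3023ab3823793d03f93503ef01e06f09e0ad05c02d0dc06b09a0eb01a0290d80a90580c7d4ed47dced55d5cdd5ddcd23d2ada3daadb1d38d31db8d672962e72162252d42a52542632922e32122212d02a1250288f11f08f91f9af03f1af83f2cf35facfb5f3ef27fbefa7f5fc3ecdfcbec9dc7cc1dcfcc9bcfac1bc7ac59cb8cd9c38c5f1261df1a618d1f410d1741fb10217b1821291d01a9150140ea1ec0e21e02e63e82ee3e04ee5e84e65e46e27ec6ea7e87b4eb07bceb15b5cb95bdcb63b2abe3baabf1b38b71bb8b670960e70160250d40a50540630920e30120210d00a105004fdc6dcfd46ddddd4d5dd54d2bd22dabda2db9d30d39db0dcfa7ea4fafea8da3ca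0dabca4bafaacba7aa09ab8a89a38a707e97f07697a273b7227bb75474d7d47cd78679f70671f757c36cd7cb6c95c74c15cf4c13c72c93cf2cd1c30c51cb0cd798e95790e9c599c94591c9f392a9739aa9e19389619b89d861965869969a6db61a65b61c6dd69c65d65e61f6de69f68fb46b0fbc6b1db54b9dbd4bebba2b6bb22b79bb0bf9b30bcf87e84f8fe88d83c80d8bc84b8fa8cb87a8098b88898388b757e5375fe5e55ac56552c55351a5d359a5015c8581548547af6ac7a76a05ab4a85a34a43af2ac3a72a01ab0a81a30af87617787e172a7b37aa73375c7457dc7c578e79770e71770f44e48f4ce4cd40c44d48c4cb48a44b40a4094c84894484df98695f9069cd99494d91497b9a29fb9229699b09e99309d06116506916926d36126536946556146d56d66976566176773fe3f737e32532c3a53ac39339a31331a3c13483413c83478f68c78768058b48858348438f28c38728018b088183083f5f65bf57656d5245ed5a455b5125db5925095c05895405df20e25f28e29d24c21d2cc25b28a2db20a2192c82992482f0f09f70f89fe2f1bf62f9bfd4fadf54f2dfc6fbff46f3ff874c64074464454844c54044c34824434024014c04814404e71be16713e13516c1b51ec1c311a14319a1111c81911481b8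e39e38eb9efaefbe7ae7be7cefdefce7de3ee3febeebfe7f3f63ff37632d3243ad3a431b31239b3923493c03c93403df00e05f08e09d04c01d0cc05b08a0db00a0190c80990480b7d5ed37dded25d4cda5dccd53d3add3dbadc1d28d41da8d572862d72062152c42952442532822d32022112c02912402f8f01f78f81feaf13f6af93f5cf25fdcfa5f4ef37fcefb7f2fc2ecafcaecedc6cc6dceccebceac6bc6ac29ca8ca9c28c6f1361ef1b61bd1e413d1641cb11214b1921191c0199140130eb1eb0e31e72e73ef2ef3e74ef5ef4e75e36e37eb6eb7ef7b5eb77bdeb65b4cbe5bccb13b3ab93bbab81b28b01ba8b570860d70060150c40950440530820d30020110c009104003fdd6dbfd56daddc4d2dd44d5bd32ddbdb2dc9d20d49da0dbfa6ea3faeeafda2ca7daaca3baeaabba6aa79aa8af9a28a607997e07197b274b7327cb74473d7c47bd7967ef71676f727c26ca7ca6ce5c64c65ce4c63c62ce3ce2ca1c20c21ca0ca799e92791e9b598c93590c98393a9039ba9919289119a89c86696486e968a6ab60a62b60c6ad68c62d64e66f6ce6ef6ffb56b7fbd6b6db44bedbc4b9bbb2b1bb32b09ba0b89b20bbf86e83f8ee8fd82c87d8ac83b8ea8bb86a8798a88f98288a750e52758e5f55dc57555c54356a5c35e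a5115b8591538537ae6ab7a66a75aa4af5a24a33ae2ab3a62a71aa0af1a20ae871176879173a7c37ba74374c7357cc7b579e7e771e76771f43e49f4be4dd47c45d4fc4db4fa45b47a4194b84994384af99692f9169bd98493d90490b9b298b9329199a09999209c06616406e16826a36026236846256046a56c66e764666766738e3e730e33535c3b53dc3833ea30336a3d13383513b83378e68b78668758a48f58248338e28b38628718a08f182082f5865af50657d5545fd5d454b5625cb5e25195b05995305cf27e24f2fe28d23c20d2bc24b2fa2cb27a2092b82892382e0f39f60fb9ff2f2bf72fabfc4f9df44f1dfd6f8ff56f0ff974b64174364554f44d54744d34f24534724114b04914304f71ce17714e12511c1a519c1d316a1531ea1011b81811381a8e09e28e89eeaecbe6ae4be6cecdeece4de2ee0feaee8fe6f3863ef30633d3543bd3d430b36238b3e23593b03d93303cf07e04f0fe08d03c00d0bc04b0fa0cb07a0090b80890380a7d6ed27deed35d7cdb5dfcd43d0adc3d8add1d18d51d98d472f62c72762052b42852342432f22c32722012b02812302e8f31f68fb1ffaf23f7afa3f4cf15fccf95f5ef07fdef87f3fc1ecbfc9ecfdc5cc7dcdccfbcdac7bc5ac39c98cb9c18c7f1461ff1c61ad1941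2d1141db16215b1e21091b0189130120e81ea0e01e62e43ee2ec3e64ec5ee4e45e26e07ea6e87ee7b6eb67beeb75b7cbf5bfcb03b0ab83b8ab91b18b11b98b470f60c70760050b40850340430f20c30720010b008103002fde6dafd66dbddf4d3dd74d4bd02dcbd82dd9d10d59d90dafa5ea2fadeaeda1ca6da9ca2badaaaba5aa69a98ae9a18a107897907097c275b7427db73472d7b47ad7e67ff76677f737c16cb7c96cf5c54c75cd4c73c52cf3cd2cb1c10c31c90cb79ae93792e9a59bc92593c99390a91398a9819189019989b86796386f96fa6bb67a63b67c6bd6fc63d63e67f6be6ff6efb66b6fbe6b7db74bfdbf4b8bb82b0bb02b19b90b99b10baf85e82f8de8ed81c86d89c82b8da8ab85a8698988e98188d751e55759e5855cc50554c53357a5b35fa5615a85e1528527ad6aa7a56a65a94ae5a14a23ad2aa3a52a61a90ae1a10a9870171878174a7d37ca75373c7257bc7a57ee7f776e77776f42e4ef4ae4ad46c42d4ec4ab4ea42b46a4694a84e94284bf9a693f9269ad9b492d93491b98299b9029099909899109b06716306f16f26b36726336f46356746b56b66f763667761739e39731e34534c3c53cc3f33fa37337a3a13283213a83278d68a78568658948e58148238d28a38528618908e181085f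5965df51650d54458d5c453b5725bb5f25695a05e95205bf26e23f2ee2fd22c27d2ac23b2ea2bb26a2792a82f92282d0f29f50fa9fc2f3bf42fbbff4f8df74f0dfe6f9ff66f1ffe74a64674264254e44a54644a34e24234624614a04e14204871de10715e15510c1d518c1a317a1231fa1711a81f1128198e19e18e99edaedbe5ae5be5ceddedce5de1ee1fe9ee9fe1f39639f31634d3443cd3c437b3723fb3f23293a03a93203bf06e03f0ee0fd02c07d0ac03b0ea0bb06a0790a80f9028097d7ed17dfed05d6cd85decd73d1adf3d9ade1d08d61d88d372e62b72662752a42f52242332e22b32622712a02f12202d8f21f58fa1fcaf33f4afb3f7cf05ffcf85f6ef17feef97f0fc0ec8fc8eccdc4cc4dcccccbccac4bc4ac09c88c89c08c0f15618f1d61dd18415d1041ab17212b1f21791a01f9120110e91e90e11e52e53ed2ed3e54ed5ed4e55e16e17e96e97ed7b7eb57bfeb45b6cbc5becb33b1abb3b9aba1b08b21b88b370e60b70660750a40f50240330e20b30620710a00f102001fdf6d9fd76d8dde4d0dd64d7bd12dfbd92de9d00d69d80d9fa4ea1faceadda0ca5da8ca1bacaa9ba4aa59a88ad9a08a007b97807397d276b7527eb72471d7a479d7f67cf77674f707c06c87c86cc5c44c45cc4c43c42cc3cc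2c81c00c01c80c879be90793e9959ac91592c9a391a92399a9b19089319889a86496286c96ea68b66a60b66c68d6ec60d62e64f6ae6cf6dfb76b5fbf6b4db64bcdbe4bbbb92b3bb12b29b80ba9b00b9f84e81f8ce8dd80c85d88c81b8ca89b84a8598888d98088c752e5475ae5955fc51557c52354a5a35ca5715985f1518517ac6a97a46a55a84ad5a04a13ac2a93a42a51a80ad1a00a887317087b175a7e37da76372c7157ac7957fe7c777e74777f41e4ff49e4bd45c43d4dc4bb4da43b45a4794984f941848f9b690f93699d9a491d92492b9929ab9129399809b99009a06416206c16e26836626036e46056646856a66c76266476073ae38732e35537c3d53fc3e33ca36334a3b13183313983178c68978468558848d58048138c28938428518808d180084f5a65cf52651d57459d5f452b5425ab5c25795905f95105af25e22f2de2ed21c26d29c22b2da2ab25a2692982e92182c0f59f40fd9fd2f4bf52fcbfe4ffdf64f7dff6feff76f6fff74964774164354d44b54544b34d24334524714904f14104971ee11716e14513c1c51bc1b314a1331ca1611981e1118188e69e08ee9ecaeabe4ae2be4ceadecce2de0ee6fe8eeefe0f3a638f32635d3743dd3f436b3423eb3c23393903b93103af05e02f0de0ed01c0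6d09c02b0da0ab05a0690980e9018087d0ed07d8ed15d1cd95d9cd63d6ade3deadf1d78d71df8d272d62a72562652942e52142232d22a32522612902e12102c8f51f48fd1fdaf43f5afc3f6cf75fecff5f7ef67ffefe7f1fc7ec9fcfecddc3cc5dcbccdbcbac5bc3ac19cf8c99c78c1f16619f1e61cd1b414d1341bb14213b1c21691901e9110100ee1e80e61e42e23ec2ea3e44ea5ec4e25e06e67e86ee7ec7b0eb47b8eb55b1cbd5b9cb23b6aba3beabb1b78b31bf8b270d60a70560650940e50140230d20a30520610900e101000fd86d8fd06d9dd94d1dd14d6bd62debde2df9d70d79df0d8fa3ea0fabeacda7ca4dafca0babaa8ba3aa49af8ac9a78a307a97b07297e277b7627fb71470d79478d7c67df74675f717c76c97cf6cd5c34c55cb4c53c32cd3cb2c91c70c11cf0c979ce91794e9859dc90595c9b396a9339ea9a19789219f89986596186d96da69b65a61b65c69d6dc61d61e65f69e6df6cfb06b4fb86b5db14bddb94babbe2b2bb62b39bf0bb9b70b8f83e80f8be8cd87c84d8fc80b8ba88b83a8498f88c98788f753e5775be5a55ec52556c51355a5935da5415885c1508507ab6a87a36a45af4ac5a74a03ab2a83a32a41af0ac1a70ab87217387a176a7f37ea77371c70579c7857ce7d774e75774f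40e4cf48e48d44c40d4cc48b4ca40b44a4494884c940849f9c691f94698d9d490d95493b9e29bb9629299f09a99709906516106d16d26936526136d46156546956966d76166576373be3b733e36536c3e53ec3d33da35335a3813083013883078b68878368458f48c58748038b28838328418f08c187087f5b65ff53652d5645ad5e451b55259b5d25495805c950059f24e21f2ce2dd20c25d28c21b2ca29b24a2592882d92082b0f49f30fc9fa2f5bf22fdbf94fedf14f6df86ffff06f7ffc74864474064054c44854444834c24034424414804c14004a71fe12717e17512c1f51ac18315a1031da1511881d11081f8e79e78ef9ebaebbe3ae3be3cebdebce3de7ee7fefeeffe3f3b63bf33636d3643ed3e435b3523db3d230938038930039f04e01f0ce0dd00c05d08c01b0ca09b04a0590880d90080f7d1ed77d9ed65d0cde5d8cd13d7ad93dfad81d68d01de8d172c62972462552842d52042132c22932422512802d12002b8f41f38fc1faaf53f2afd3f1cf65f9cfe5f0ef77f8eff7f6fc6ecefceecadc2cc2dcaccabcaac2bc2ac69ce8ce9c68c2f1761af1f61fd1a417d12418b15210b1d21591801d9100170ef1ef0e71e32e33eb2eb3e34eb5eb4e35e76e77ef6ef7eb7b1eb37b9eb25b0cba5b8cb53b7abd3bfabc1b68b41be8b170c60970460550840d50040130c20930420510800d10000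

/-- conjugates of the generators -/
def JT : ℕ := 0x800000000000000000000000000000000000800400000000000000000000000000000000800400200000000000000000000000000000800400200100000000000000000000000000800400200100880000000000000000000000800400200900080040000000000000000000800400200100080440220000000000000000800400200500e80040020010000000000000800400a00100080e40020110c48000000000800400600f00d80040060010008d74000000800c002001000803409a00901f8004c56000

/-- the code with the number `i` -/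
def cd (i : ℕ) : ℕ := Nat.land (Nat.shiftRight CT (Nat.mul 24 i)) 16777215

/-- an entry of a table -/
def tb (T k : ℕ) : ℕ := Nat.land (Nat.shiftRight T (Nat.mul 12 k)) 4095

/-- the number of a code -/
def ix (a : ℕ) : ℕ := tb XT (Nat.mod (Nat.shiftRight (Nat.mul (Nat.land a 1167799) 206292656161) 32) 4096)

/-- the generators -/
def gk (w : ℕ) : ℕ :=
  [513, 74, 263172, 80, 1179680, 4196480, 8448, 266240, 540672, 2129920, 4259840, 9437184].getD w 0

/-- the product with the generator `w` -/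
def rm (w o i : ℕ) : ℕ := Nat.xor i (tb RT (Nat.add o (Nat.shiftRight i w)))

/-- a bit, the start of its table, its value -/
def trip (w : ℕ) : ℕ × ℕ × ℕ := (w, 8192 - 2 ^ (13 - w), 2 ^ w)

def WL : List (ℕ × ℕ × ℕ) := [(0, 0, 1), (1, 4096, 2), (2, 6144, 4), (3, 7168, 8), (4, 7680, 16), (5, 7936, 32), (6, 8064, 64),
  (7, 8128, 128), (8, 8160, 256), (9, 8176, 512), (10, 8184, 1024), (11, 8188, 2048)]

theorem WL_eq : WL = (List.range 12).map trip := by decide +kernel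

/-- the bits of `j` -/
def bts (j : ℕ) (l : List (ℕ × ℕ × ℕ)) : List (ℕ × ℕ × ℕ) :=
  List.rec [] (fun a _ ih => cond (Nat.beq (Nat.land j a.2.2) 0) ih (a :: ih)) l

def run (l : List (ℕ × ℕ × ℕ)) (i : ℕ) : ℕ :=
  List.rec (motive := fun _ => ℕ → ℕ) (fun i => i) (fun a _ ih i => force (rm a.1 a.2.1 i) ih) l i

/-- the number of the product -/
def mulI (i j : ℕ) : ℕ := run (force j fun j => bts j WL) i

/-- a bounded quantifier -/
def upTo (p : ℕ → Bool) (n : ℕ) : Bool := Nat.rec true (fun k ih => cond (p k) ih false) n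

theorem upTo_spec {p : ℕ → Bool} : ∀ {n : ℕ}, upTo p n = true → ∀ k < n, p k = true
  | 0, _, k, hk => by omega
  | n + 1, h, k, hk => by
    have h1 : cond (p n) (upTo p n) false = true := h
    cases h2 : p n
    · rw [h2] at h1
      exact absurd h1 Bool.false_ne_true
    · rw [h2] at h1
      rcases Nat.lt_succ_iff_lt_or_eq.1 hk with h3 | rfl
      · exact upTo_spec h1 k h3
      · exact h2

/-- a bounded quantifier in blocks -/
def upTo2 (p : ℕ → Bool) (n : ℕ) : Bool :=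
  upTo (fun a => upTo (fun b => force (Nat.add (Nat.mul a 64) b) fun k => cond (Nat.ble n k) true (p k)) 64) (Nat.succ (Nat.div n 64))

theorem upTo2_spec {p : ℕ → Bool} {n : ℕ} (h : upTo2 p n = true) (k : ℕ) (hk : k < n) : p k = true := by
  have h1 := upTo_spec (upTo_spec h (k / 64) (Nat.lt_succ_of_le (Nat.div_le_div_right hk.le))) (k % 64) (Nat.mod_lt _ (by norm_num))
  have e : Nat.add (Nat.mul (k / 64) 64) (k % 64) = k := Nat.div_add_mod' k 64
  rw [force_eq, e, show Nat.ble n k = false from by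
    rw [← Bool.not_eq_true, Nat.ble_eq]
    omega] at h1
  exact h1

theorem chkB : upTo (fun w => upTo2 (fun i => Nat.beq (cd (Nat.add (Nat.pow 2 w) i)) (mulU (cd i) (gk w))) (Nat.pow 2 w)) 12 = true := by
  decide +kernel

theorem chkC : upTo (fun w => force (8192 - 2 ^ (13 - w)) fun o =>
    upTo2 (fun j => Nat.beq (Nat.mod (tb RT (Nat.add o j)) (Nat.pow 2 w)) 0) (Nat.pow 2 (12 - w)) &&
    (upTo (fun y => Nat.beq (mulU (cd (Nat.shiftLeft y w)) (gk w)) (cd (rm w o (Nat.shiftLeft y w)))) 2 &&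
    upTo (fun n => Nat.beq (mulU (gk (w + 1 + n)) (gk w)) (mulU (gk w) (cd (tb JT (13 * w + 1 + n)))) &&
      (Nat.beq (Nat.mod (tb JT (13 * w + 1 + n)) (Nat.pow 2 (w + 1))) 0 &&
      upTo2 (fun y => Nat.beq (rm w o (Nat.shiftLeft (Nat.add (Nat.pow 2 (n + 1)) y) w))
        (mulI (rm w o (Nat.shiftLeft y w)) (tb JT (13 * w + 1 + n)))) (Nat.pow 2 (n + 1)))) (11 - w))) 12 = true := by
  decide +kernel

theorem chkD : upTo2 (fun i => Nat.beq (mulI i (tb IT i)) 0) 4096 = true := by decide +kernel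

theorem cd_zero : cd 0 = 0 := by decide +kernel

theorem cd_lt (i : ℕ) : cd i < 2 ^ 24 := Nat.lt_succ_of_le (Nat.and_le_right (n := Nat.shiftRight CT (Nat.mul 24 i)))

theorem tb_lt (T k : ℕ) : tb T k < 2 ^ 12 := Nat.lt_succ_of_le (Nat.and_le_right (n := Nat.shiftRight T (Nat.mul 12 k)))

theorem ix_lt (a : ℕ) : ix a < 2 ^ 12 := tb_lt XT _

/-- the factor of a bit -/
noncomputable def fa (i w : ℕ) : LL := if i.testBit w then ec (gk w) else 1

/-- the normal form -/
noncomputable def nf (i n : ℕ) : LL := ((List.range n).map (fa i)).prod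

theorem nf_zero (i : ℕ) : nf i 0 = 1 := rfl

theorem nf_succ (i n : ℕ) : nf i (n + 1) = nf i n * fa i n := by
  delta nf
  rw [List.range_succ, List.map_append, List.prod_append, List.map_singleton, List.prod_singleton]

theorem fa_congr {a b w : ℕ} (h : a.testBit w = b.testBit w) : fa a w = fa b w := by
  delta fa
  rw [h]

theorem nf_one {c : ℕ} : ∀ {w : ℕ}, (∀ k < w, c.testBit k = false) → nf c w = 1
  | 0, _ => nf_zero c
  | w + 1, h => by
    rw [nf_succ, nf_one fun k hk => h k (by omega), show fa c w = 1 from if_neg (by rw [h w (by omega)]; decide), mul_one]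

theorem nf_split {a b c w : ℕ} (h1 : ∀ k < w, a.testBit k = b.testBit k) (h2 : ∀ k < w, c.testBit k = false)
    (h3 : ∀ k, w ≤ k → a.testBit k = c.testBit k) (n : ℕ) : nf a (w + n) = nf b w * nf c (w + n) := by
  induction n with
  | zero =>
    clear h3
    induction w with
    | zero => rw [nf_zero, nf_zero, nf_zero, mul_one]
    | succ w ih =>
      have h4 := ih (fun k hk => h1 k (by omega)) (fun k hk => h2 k (by omega))
      have h5 : nf c w = 1 := nf_one fun k hk => h2 k (by omega)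
      have h6 : fa c w = 1 := if_neg (by rw [h2 w (by omega)]; decide)
      rw [Nat.add_zero] at h4 ⊢
      rw [nf_succ, nf_succ, nf_succ, h4, h5, h6, fa_congr (h1 w (by omega)), mul_one, mul_one, mul_one]
  | succ n ih => rw [← Nat.add_assoc, nf_succ, nf_succ, ih, fa_congr (h3 _ (by omega)), mul_assoc]

theorem cd_nf : ∀ w ≤ 12, ∀ i < 2 ^ w, ec (cd i) = nf i w
  | 0, _, i, hi => by
    obtain rfl : i = 0 := by omega
    rw [cd_zero, ec_zero, nf_zero]
  | w + 1, hw, i, hi => by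
    rw [nf_succ]
    rcases lt_or_ge i (2 ^ w) with h | h
    · rw [cd_nf w (by omega) i h, show fa i w = 1 from if_neg (by rw [Nat.testBit_lt_two_pow h]; decide), mul_one]
    · obtain ⟨j, rfl⟩ := Nat.exists_eq_add_of_le h
      have hj : j < 2 ^ w := by rw [pow_succ] at hi; omega
      have h1 : cd (2 ^ w + j) = mulU (cd j) (gk w) := Nat.eq_of_beq_eq_true (upTo2_spec (upTo_spec chkB w (by omega)) j hj)
      have h2 := nf_split (a := 2 ^ w + j) (b := j) (c := 2 ^ w) (w := w) (fun k hk => Nat.testBit_two_pow_add_gt hk j)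
        (fun k hk => Nat.testBit_two_pow_of_ne (by omega)) (fun k hk => by
          rw [Nat.add_comm, Nat.testBit_eq_decide_div_mod_eq, Nat.testBit_eq_decide_div_mod_eq]
          obtain ⟨m, rfl⟩ := Nat.exists_eq_add_of_le hk
          rw [pow_add, ← Nat.div_div_eq_div_mul, ← Nat.div_div_eq_div_mul, Nat.add_div_right _ (by positivity),
            Nat.div_eq_of_lt hj, Nat.div_self (by positivity)]) 0
      have h4 : nf (2 ^ w) w = 1 := nf_one fun k hk => Nat.testBit_two_pow_of_ne (by omega)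
      rw [Nat.add_zero, h4, mul_one] at h2
      rw [h1, ec_mulU, cd_nf w (by omega) j hj, h2, show fa (2 ^ w + j) w = ec (gk w) from
        if_pos (by rw [Nat.testBit_two_pow_add_eq, Nat.testBit_lt_two_pow hj]; rfl)]

theorem rm_lt {w o i : ℕ} (hi : i < 2 ^ 12) : rm w o i < 2 ^ 12 := Nat.xor_lt_two_pow hi (tb_lt _ _)

/-- the table `w` is right -/
def Good (w : ℕ) : Prop := ∀ i < 2 ^ 12, ec (cd (rm w (8192 - 2 ^ (13 - w)) i)) = ec (cd i) * ec (gk w)

theorem low_bits {D w : ℕ} (h1 : D % 2 ^ w = 0) : ∀ k < w, D.testBit k = false := fun k hk => by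
  have := Nat.testBit_mod_two_pow D w k
  rw [h1, Nat.zero_testBit, decide_eq_true hk, Bool.true_and] at this
  exact this.symm

theorem good_of {w : ℕ} (hw : w < 12) (H : ∀ y < 2 ^ (12 - w),
    ec (cd (rm w (8192 - 2 ^ (13 - w)) (y <<< w))) = ec (cd (y <<< w)) * ec (gk w)) : Good w := by
  intro i hi
  obtain ⟨n, hn⟩ : ∃ n, 12 = w + n := ⟨12 - w, by omega⟩
  have hj : i >>> w < 2 ^ (12 - w) := by
    rw [Nat.shiftRight_eq_div_pow, Nat.div_lt_iff_lt_mul (by positivity), ← pow_add, show 12 - w + w = 12 by omega]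
    exact hi
  have h0 := upTo_spec chkC w hw
  rw [force_eq, Bool.and_eq_true] at h0
  have h := upTo2_spec h0.1 (i >>> w) hj
  have h2 := H _ hj
  have hD := tb_lt RT (Nat.add (8192 - 2 ^ (13 - w)) (i >>> w))
  have e : rm w (8192 - 2 ^ (13 - w)) i = i ^^^ tb RT (Nat.add (8192 - 2 ^ (13 - w)) (i >>> w)) := rfl
  have e' : rm w (8192 - 2 ^ (13 - w)) (i >>> w <<< w) =
    i >>> w <<< w ^^^ tb RT (Nat.add (8192 - 2 ^ (13 - w)) (i >>> w <<< w >>> w)) := rfl
  rw [e', Nat.shiftLeft_shiftRight] at h2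
  rw [e]
  generalize tb RT (Nat.add (8192 - 2 ^ (13 - w)) (i >>> w)) = D at h hD h2
  have h3 := low_bits (D := D) (w := w) (Nat.eq_of_beq_eq_true h)
  have h4 : ∀ k < w, (i >>> w <<< w).testBit k = false := fun k hk => by
    rw [Nat.testBit_shiftLeft, decide_eq_false (by omega), Bool.false_and]
  have h5 : ∀ k, w ≤ k → i.testBit k = (i >>> w <<< w).testBit k := fun k hk => by
    rw [Nat.testBit_shiftLeft, decide_eq_true hk, Bool.true_and, Nat.testBit_shiftRight, show w + (k - w) = k by omega]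
  have h6 : i >>> w <<< w < 2 ^ 12 := lt_of_le_of_lt (by
    rw [Nat.shiftLeft_eq, Nat.shiftRight_eq_div_pow]; exact Nat.div_mul_le_self _ _) hi
  have h7 := Nat.xor_lt_two_pow hi hD
  have a1 := nf_split (a := i) (b := i) (fun _ _ => rfl) h4 h5 n
  have a2 := nf_split (a := i ^^^ D) (b := i) (c := i >>> w <<< w ^^^ D) (w := w)
    (fun k hk => by rw [Nat.testBit_xor, h3 k hk, Bool.xor_false])
    (fun k hk => by rw [Nat.testBit_xor, h3 k hk, h4 k hk]; rfl)
    (fun k hk => by rw [Nat.testBit_xor, Nat.testBit_xor, ← h5 k hk]) n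
  rw [← hn] at a1 a2
  rw [cd_nf 12 le_rfl _ h7, cd_nf 12 le_rfl _ hi, a1, a2, ← cd_nf 12 le_rfl _ h6,
    ← cd_nf 12 le_rfl _ (Nat.xor_lt_two_pow h6 hD), h2, mul_assoc]

theorem run_spec (j : ℕ) : ∀ (L : List ℕ), (∀ w ∈ L, j.testBit w = true → Good w) → ∀ i < 2 ^ 12,
    run (bts j (L.map trip)) i < 2 ^ 12 ∧ ec (cd (run (bts j (L.map trip)) i)) = ec (cd i) * (L.map (fa j)).prod
  | [], _, i, hi => by
    have e : run (bts j (([] : List ℕ).map trip)) i = i := rfl
    rw [e, List.map_nil, List.prod_nil, mul_one]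
    exact ⟨hi, rfl⟩
  | w :: L, h, i, hi => by
    have ih := run_spec j L fun v hv => h v (List.mem_cons_of_mem _ hv)
    have e : bts j ((w :: L).map trip) =
        cond (Nat.beq (Nat.land j (2 ^ w)) 0) (bts j (L.map trip)) (trip w :: bts j (L.map trip)) := rfl
    rw [e, Cfsg.Agent.FourTwo.UCode.land_pow_eq_zero, List.map_cons, List.prod_cons]
    cases hb : j.testBit w
    · rw [show fa j w = 1 from if_neg (by rw [hb]; decide), one_mul]
      exact ih i hi
    · have e2 : run (trip w :: bts j (L.map trip)) i = force (rm w (8192 - 2 ^ (13 - w)) i) (run (bts j (L.map trip))) := rfl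
      have h2 := h w List.mem_cons_self hb i hi
      rw [Bool.not_true, cond_false, e2, force_eq, show fa j w = ec (gk w) from if_pos hb, ← mul_assoc, ← h2]
      exact ih _ (rm_lt hi)

theorem mulI_of {i j : ℕ} (h : ∀ w < 12, j.testBit w = true → Good w) (hi : i < 2 ^ 12) (hj : j < 2 ^ 12) :
    mulI i j < 2 ^ 12 ∧ ec (cd (mulI i j)) = ec (cd i) * ec (cd j) := by
  delta mulI
  rw [force_eq, WL_eq, cd_nf 12 le_rfl j hj]
  exact run_spec j _ (fun w hw => h w (List.mem_range.1 hw)) i hi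

theorem tail {w : ℕ} (hw : w < 12) (hP : ∀ v, w < v → v < 12 → Good v) : ∀ n, w + 1 + n ≤ 12 → ∀ y < 2 ^ (n + 1),
    ec (cd (rm w (8192 - 2 ^ (13 - w)) (y <<< w))) = ec (cd (y <<< w)) * ec (gk w) := by
  have h0 := upTo_spec chkC w hw
  rw [force_eq, Bool.and_eq_true, Bool.and_eq_true] at h0
  intro n
  induction n with
  | zero =>
    intro _ y hy
    have h1 : mulU (cd (y <<< w)) (gk w) = cd (rm w (8192 - 2 ^ (13 - w)) (y <<< w)) :=
      Nat.eq_of_beq_eq_true (upTo_spec h0.2.1 y hy)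
    rw [← h1, ec_mulU]
  | succ n ih =>
    intro hn y hy
    rcases lt_or_ge y (2 ^ (n + 1)) with h | h
    · exact ih (by omega) y h
    obtain ⟨y, rfl⟩ := Nat.exists_eq_add_of_le h
    have hy' : y < 2 ^ (n + 1) := by rw [pow_succ 2 (n + 1)] at hy; omega
    have h1 := upTo_spec h0.2.2 n (by omega)
    rw [Bool.and_eq_true, Bool.and_eq_true] at h1
    have h2 : mulU (gk (w + 1 + n)) (gk w) = mulU (gk w) (cd (tb JT (13 * w + 1 + n))) := Nat.eq_of_beq_eq_true h1.1
    have h3 := low_bits (D := tb JT (13 * w + 1 + n)) (w := w + 1) (Nat.eq_of_beq_eq_true h1.2.1)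
    have h4 : rm w (8192 - 2 ^ (13 - w)) ((2 ^ (n + 1) + y) <<< w) =
        mulI (rm w (8192 - 2 ^ (13 - w)) (y <<< w)) (tb JT (13 * w + 1 + n)) := Nat.eq_of_beq_eq_true (upTo2_spec h1.2.2 y hy')
    have e : 2 ^ (w + 1 + n) = 2 ^ (n + 1) * 2 ^ w := by rw [← pow_add, show n + 1 + w = w + 1 + n by omega]
    have h5 : y <<< w < 2 ^ (w + 1 + n) := by
      rw [Nat.shiftLeft_eq, e]
      exact Nat.mul_lt_mul_of_pos_right hy' (by positivity)
    have h6 : (2 ^ (n + 1) + y) <<< w = 2 ^ (w + 1 + n) + y <<< w := by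
      rw [Nat.shiftLeft_eq, Nat.shiftLeft_eq, e, add_mul]
    have h7 : cd (2 ^ (w + 1 + n) + y <<< w) = mulU (cd (y <<< w)) (gk (w + 1 + n)) :=
      Nat.eq_of_beq_eq_true (upTo2_spec (upTo_spec chkB (w + 1 + n) (by omega)) _ h5)
    have h8 : y <<< w < 2 ^ 12 := h5.trans (Nat.pow_lt_pow_right (by norm_num) (by omega))
    have h9 := (mulI_of (j := tb JT (13 * w + 1 + n)) (fun v hv hb => hP v (by
      by_contra hc
      rw [h3 v (by omega)] at hb
      exact Bool.false_ne_true hb) hv) (rm_lt (w := w) (o := 8192 - 2 ^ (13 - w)) h8) (tb_lt _ _)).2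
    rw [h4, h9, ih (by omega) y hy', h6, h7, ec_mulU, mul_assoc, mul_assoc, ← ec_mulU (gk w), ← h2, ec_mulU]

theorem good : ∀ n w : ℕ, 12 ≤ w + n → w < 12 → Good w
  | 0, _, h, h' => by omega
  | n + 1, w, h, hw => good_of hw fun y hy =>
    tail hw (fun v h1 h2 => good n v (by omega) h2) (11 - w) (by omega) y (by rwa [show 11 - w + 1 = 12 - w by omega])

theorem mulI_spec {i j : ℕ} (hi : i < 2 ^ 12) (hj : j < 2 ^ 12) :
    mulI i j < 2 ^ 12 ∧ ec (cd (mulI i j)) = ec (cd i) * ec (cd j) := mulI_of (fun w hw _ => good 12 w (by omega) hw) hi hj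

theorem inv_of {G : Type*} [Group G] {a b : G} (h : 1 = a * b) : b = a⁻¹ := eq_inv_of_mul_eq_one_right h.symm

theorem inv_spec {i : ℕ} (hi : i < 2 ^ 12) : ec (cd (tb IT i)) = (ec (cd i))⁻¹ := by
  have h := (mulI_spec hi (tb_lt IT i)).2
  rw [Nat.eq_of_beq_eq_true (upTo2_spec chkD i hi), cd_zero, ec_zero] at h
  exact inv_of h

/-- a fast and a slow program -/
def two (f s : ℕ → ℕ → ℕ) (a b : ℕ) : ℕ :=
  force a fun a => force b fun b =>
    cond (Nat.beq (cd (ix a)) a) (cond (Nat.beq (cd (ix b)) b) (cd (f (ix a) (ix b))) (s a b)) (s a b)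

theorem two_eq {f s : ℕ → ℕ → ℕ} (h : ∀ i < 2 ^ 12, ∀ j < 2 ^ 12, s (cd i) (cd j) = cd (f i j)) : s = two f s := by
  funext a b
  delta two
  rw [force_eq, force_eq]
  cases h1 : Nat.beq (cd (ix a)) a
  · rfl
  · cases h2 : Nat.beq (cd (ix b)) b
    · rfl
    · have h3 := h _ (ix_lt a) _ (ix_lt b)
      rw [Nat.eq_of_beq_eq_true h1, Nat.eq_of_beq_eq_true h2] at h3
      exact h3

def mulF : ℕ → ℕ → ℕ := two mulI mulU

def invF (a : ℕ) : ℕ := force a fun a => cond (Nat.beq (cd (ix a)) a) (cd (tb IT (ix a))) (invU a)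

def commF : ℕ → ℕ → ℕ := two (fun i j => mulI (mulI i j) (tb IT (mulI j i))) commU

def conjF : ℕ → ℕ → ℕ := two (fun k i => mulI (mulI k i) (tb IT k)) conjU

theorem mulU_eq : mulU = mulF := two_eq fun i hi j hj =>
  ec_inj (mulU_lt (cd_lt i) _) (cd_lt _) (by rw [ec_mulU, (mulI_spec hi hj).2])

theorem invU_eq : invU = invF := by
  funext a
  delta invF
  rw [force_eq]
  cases h1 : Nat.beq (cd (ix a)) a
  · rfl
  · rw [cond_true]
    refine ec_inj (invU_lt a) (cd_lt _) ?_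
    rw [ec_invU, inv_spec (ix_lt a), Nat.eq_of_beq_eq_true h1]

theorem commU_eq : commU = commF := two_eq fun i hi j hj =>
  ec_inj (mulU_lt (mulU_lt (cd_lt i) _) _) (cd_lt _) (by
    rw [ec_commU, (mulI_spec (mulI_spec hi hj).1 (tb_lt _ _)).2, (mulI_spec hi hj).2, inv_spec (mulI_spec hj hi).1,
      (mulI_spec hj hi).2, mul_inv_rev])

theorem conjU_eq : conjU = conjF := two_eq fun i hi j hj =>
  ec_inj (conjU_lt (cd_lt i) _) (cd_lt _) (by
    rw [ec_conjU, (mulI_spec (mulI_spec hi hj).1 (tb_lt _ _)).2, (mulI_spec hi hj).2, inv_spec hi])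

theorem contains_eq (L : List ℕ) (a : ℕ) : L.contains a = memB a L := by
  induction L with
  | nil => rfl
  | cons b L ih =>
    have e : memB a (b :: L) = cond (Nat.beq a b) true (memB a L) := rfl
    rw [List.contains_cons, ih, e]
    cases h : Nat.beq a b
    · rw [beq_false_of_ne (Nat.ne_of_beq_eq_false h)]
      rfl
    · rw [Nat.eq_of_beq_eq_true h, beq_self_eq_true]
      rfl

/-- the number of leaves with `p` -/
def cntF (p : ℕ → Bool) (gs : List (ℕ × Bool)) (e : ℕ) : ℕ :=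
  List.rec (motive := fun _ => ℕ → ℕ) (fun e => cond (p e) 1 0)
    (fun g _ ih e => Nat.add (ih e) (force (mulF e g.1) ih)) gs e

end Ix

/-- generators of `ST` -/
def Sg : List ℕ := [513, 80, 8448, 266240, 263662, 1179754, 4196554]

theorem Sg_TT : ∀ c ∈ Sg, ec c ∈ TT := by
  intro c hc
  simp only [Sg, List.mem_cons, List.not_mem_nil, or_false] at hc
  rcases hc with rfl | rfl | rfl | rfl | rfl | rfl | rfl
  · exact t513
  · exact t80
  · exact t8448
  · exact t266240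
  · exact t263662
  · exact t1179754
  · exact t4196554

theorem u263662 : ec 263662 ∈ UT := by
  have h : mulU 74 263172 = 263662 := by decide +kernel
  rw [← h, ec_mulU]
  exact UT.mul_mem ec74 ec263172

theorem u1179754 : ec 1179754 ∈ UT := by
  have h : mulU 74 1179680 = 1179754 := by decide +kernel
  rw [← h, ec_mulU]
  exact UT.mul_mem ec74 ec1179680

theorem u4196554 : ec 4196554 ∈ UT := by
  have h : mulU 74 4196480 = 4196554 := by decide +kernel
  rw [← h, ec_mulU]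
  exact UT.mul_mem ec74 ec4196480

theorem Sg_UT : ∀ c ∈ Sg, ec c ∈ UT := by
  intro c hc
  simp only [Sg, List.mem_cons, List.not_mem_nil, or_false] at hc
  rcases hc with rfl | rfl | rfl | rfl | rfl | rfl | rfl
  · exact ec513
  · exact ec80
  · exact ec8448
  · exact ec266240
  · exact u263662
  · exact u1179754
  · exact u4196554

theorem Sg_lt : ∀ c ∈ Sg, c < 2 ^ 24 := by decide

theorem chk_cent : allU (fun e => Nat.beq e 0 || Nat.beq e 9437184 ||
    !(Sg.all fun c => Nat.beq (mulU e c) (mulU c e))) = true := by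
  delta allU allP
  rw [Ix.mulU_eq]
  decide +kernel

/-- the centraliser of `ST` in `UT` -/
theorem cent_UT {u : LL} (hu : u ∈ UT) (h : ∀ c ∈ Sg, u * ec c = ec c * u) : u = 1 ∨ u = z := by
  obtain ⟨e, he, rfl, -, h2⟩ := UT_all chk_cent hu
  rw [Bool.or_eq_true, Bool.or_eq_true] at h2
  rcases h2 with (h2 | h2) | h2
  · left
    rw [Nat.eq_of_beq_eq_true h2, ec_zero]
  · right
    rw [Nat.eq_of_beq_eq_true h2]
    rfl
  · exfalso
    rw [Bool.not_eq_true', ← Bool.not_eq_true] at h2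
    apply h2
    rw [List.all_eq_true]
    intro c hc
    have h3 := h c hc
    rw [← ec_mulU, ← ec_mulU] at h3
    rw [ec_inj (mulU_lt he c) (mulU_lt (Sg_lt c hc) e) h3]
    exact Nat.beq_refl _

theorem chk_zee : allS (fun e => memB e [0, 9437184, 4259840, 13697024] ||
    !(Sg.all fun c => force (commU e c) fun f => Nat.beq f 0 || Nat.beq f 9437184)) = true := by
  delta allS allU allP
  rw [Ix.commU_eq, Ix.mulU_eq]
  decide +kernel

/-- the second centre of `ST` -/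
theorem zee_two {u : LL} (hu : u ∈ UT) (hT : u ∈ TT)
    (h : ∀ c ∈ Sg, u * ec c * (u⁻¹ * (ec c)⁻¹) = 1 ∨ u * ec c * (u⁻¹ * (ec c)⁻¹) = z) :
    u = 1 ∨ u = z ∨ u = z1 ∨ u = z * z1 := by
  obtain ⟨e, he, rfl, -, h2⟩ := ST_all chk_zee hu hT
  rw [Bool.or_eq_true] at h2
  rcases h2 with h2 | h2
  · have h3 := memB_spec h2
    simp only [List.mem_cons, List.not_mem_nil, or_false] at h3
    rcases h3 with rfl | rfl | rfl | rfl
    · exact Or.inl ec_zero
    · exact Or.inr (Or.inl rfl)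
    · exact Or.inr (Or.inr (Or.inl rfl))
    · exact Or.inr (Or.inr (Or.inr z_mul_z1.symm))
  · exfalso
    rw [Bool.not_eq_true', ← Bool.not_eq_true] at h2
    apply h2
    rw [List.all_eq_true]
    intro c hc
    have h3 := h c hc
    have hlt : commU e c < 2 ^ 24 := mulU_lt (mulU_lt he c) _
    rw [← ec_commU] at h3
    rw [force_eq, Bool.or_eq_true]
    rcases h3 with h3 | h3
    · left
      rw [← ec_zero] at h3
      rw [ec_inj hlt (by norm_num) h3]
      rfl
    · right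
      rw [ec_inj hlt (by norm_num) h3]
      rfl

/-- the elements killed by `tab` -/
def killE (e : ℕ) : Bool := memB e LA || memB (mulU e 2129920) LA ||
  force (mulU e e) fun s => memB s LA || memB (mulU s 2129920) LA

/-- the elements killed by `tab` -/
def kill (e : ℕ) : Bool := killE e || [540672, 266240, 80, 8448].any fun c => force (commU e c) killE

theorem chk_kill : allS (fun e => cond (Nat.beq (mulU e 4259840) (mulU 4259840 e))
    (cond (Nat.beq (mulU e 2129920) (mulU 2129920 e)) (Nat.beq e 0 || Nat.beq e 2129920 || kill e) true) true) = true := by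
  delta allS allU allP kill killE
  rw [Ix.commU_eq, Ix.mulU_eq]
  decide +kernel

theorem killE_spec {e : ℕ} (h : killE e = true) {N : Subgroup LL} (hd : d ∈ N) (he : ec e ∈ N) :
    ∃ x ∈ N, ∃ t ∈ TT, t * x * t⁻¹ = z := by
  unfold killE at h
  rw [force_eq, Bool.or_eq_true, Bool.or_eq_true, Bool.or_eq_true] at h
  rcases h with (h | h) | (h | h)
  · exact ⟨_, he, LA_spec _ (memB_spec h)⟩
  · refine ⟨_, ?_, LA_spec _ (memB_spec h)⟩
    rw [ec_mulU]
    exact N.mul_mem he hd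
  · refine ⟨_, ?_, LA_spec _ (memB_spec h)⟩
    rw [ec_mulU]
    exact N.mul_mem he he
  · refine ⟨_, ?_, LA_spec _ (memB_spec h)⟩
    rw [ec_mulU, ec_mulU]
    exact N.mul_mem (N.mul_mem he he) hd

theorem kill_comm : ∀ c ∈ [540672, 266240, 80, 8448], ec c * d = d * ec c := by
  have h : ([540672, 266240, 80, 8448].all fun c => Nat.beq (mulU c 2129920) (mulU 2129920 c)) = true := by
    decide +kernel
  rw [List.all_eq_true] at h
  intro c hc
  have h1 := Nat.eq_of_beq_eq_true (h c hc)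
  unfold d
  rw [← ec_mulU, ← ec_mulU, h1]

theorem kill_TT : ∀ c ∈ [540672, 266240, 80, 8448], ec c ∈ TT := by
  intro c hc
  simp only [List.mem_cons, List.not_mem_nil, or_false] at hc
  rcases hc with rfl | rfl | rfl | rfl
  · exact t540672
  · exact t266240
  · exact t80
  · exact t8448

/-- a subgroup `N` containing `d`, normalised by `C_TT(d)`, with an element `u ≠ 1, d` of `ST` commuting with `z1` and
`d`, contains a conjugate of `z` -/
theorem kill_spec {u : LL} (hu : u ∈ UT) (hT : u ∈ TT) (h1 : u * z1 = z1 * u) (h2 : u * d = d * u) (hu1 : u ≠ 1)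
    (hud : u ≠ d) {N : Subgroup LL} (hd : d ∈ N) (huN : u ∈ N)
    (hN : ∀ c ∈ TT, c * d = d * c → ∀ n ∈ N, c * n * c⁻¹ ∈ N) : ∃ x ∈ N, ∃ t ∈ TT, t * x * t⁻¹ = z := by
  obtain ⟨e, he, rfl, -, h3⟩ := ST_all chk_kill hu hT
  have e1 : Nat.beq (mulU e 4259840) (mulU 4259840 e) = true := by
    unfold z1 at h1
    rw [← ec_mulU, ← ec_mulU] at h1
    rw [ec_inj (mulU_lt he _) (mulU_lt (by norm_num) e) h1]
    exact Nat.beq_refl _
  have e2 : Nat.beq (mulU e 2129920) (mulU 2129920 e) = true := by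
    unfold d at h2
    rw [← ec_mulU, ← ec_mulU] at h2
    rw [ec_inj (mulU_lt he _) (mulU_lt (by norm_num) e) h2]
    exact Nat.beq_refl _
  rw [e1, cond_true, e2, cond_true, Bool.or_eq_true, Bool.or_eq_true] at h3
  rcases h3 with (h3 | h3) | h3
  · exfalso
    rw [Nat.eq_of_beq_eq_true h3, ec_zero] at hu1
    exact hu1 rfl
  · exfalso
    rw [Nat.eq_of_beq_eq_true h3] at hud
    exact hud rfl
  · unfold kill at h3
    rw [Bool.or_eq_true, List.any_eq_true] at h3
    rcases h3 with h3 | ⟨c, hc, h3⟩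
    · exact killE_spec h3 hd huN
    · rw [force_eq] at h3
      refine killE_spec h3 hd ?_
      rw [ec_commU, mul_assoc]
      refine N.mul_mem huN ?_
      rw [← mul_assoc]
      exact hN _ (kill_TT c hc) (kill_comm c hc) _ (N.inv_mem huN)

end Cfsg.Agent.TitsK

private theorem dce_ffb6bb98041b : _root_.True := by
  try have : _root_.True := by simp only [_root_.Cfsg.Agent.TitsK.Sg.eq_1]
  exact _root_.True.intro
end

-- part: TitsK/Data
section
prune_inst 0x30000500242210000018001020000020300000020040000000a0050200010040200400010a200510100088502008006001000000420000000a000800000000000000628002400000200000008001180c00000000000000000000000000000000000000000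
set_option linter.all false
open scoped Cfsg.Agent.FastGrp

-- part: TitsK/Abs
section
/-!
General lemmas on subgroups of a finite group, in relative form.
-/

set_option autoImplicit false

namespace Cfsg.Agent.TitsK.Abs

variable {G : Type*} [Group G]

/-- the order of a subgroup `Y ≤ P` with `Y ⊓ Q = 1`, `Q` normal in `P` -/
theorem card_dvd {P Q B Y : Subgroup G} (hQB : Q ≤ B) (hBP : B ≤ P) (hYP : Y ≤ P)
    (hn : ∀ p ∈ P, ∀ q ∈ Q, p * q * p⁻¹ ∈ Q) (hYQ : ∀ y ∈ Y, y ∈ Q → y = 1) :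
    Nat.card ↥Y ∣ Q.relIndex B * B.relIndex P := by
  have hQP : Q ≤ P := hQB.trans hBP
  rw [Subgroup.relIndex_mul_relIndex Q B P hQB hBP]
  have : (Q.subgroupOf P).Normal := ⟨fun q hq p => hn p p.2 q hq⟩
  have h1 := Subgroup.relIndex_dvd_index_of_normal (Q.subgroupOf P) (Y.subgroupOf P)
  have h2 : (Q.subgroupOf P).relIndex (Y.subgroupOf P) = Nat.card ↥Y := by
    rw [← Subgroup.inf_relIndex_right]
    have h3 : Q.subgroupOf P ⊓ Y.subgroupOf P = ⊥ := by
      rw [eq_bot_iff]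
      rintro x ⟨hx1, hx2⟩
      exact Subgroup.mem_bot.2 (Subtype.ext (hYQ x hx2 hx1))
    rw [h3, Subgroup.relIndex_bot_left]
    exact Nat.card_congr (Subgroup.subgroupOfEquivOfLe hYP).toEquiv
  rw [h2] at h1
  exact h1

/-- index of a normal subgroup with cyclic quotient -/
theorem relIndex_dvd_of_cyclic {Q B : Subgroup G} (hn : ∀ b ∈ B, ∀ q ∈ Q, b * q * b⁻¹ ∈ Q) {y : G} (hy : y ∈ B)
    {n : ℕ} (hyn : y ^ n ∈ Q) (h : ∀ b ∈ B, ∃ i : ℕ, ∃ q ∈ Q, b = y ^ i * q) : Q.relIndex B ∣ n := by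
  have hN : (Q.subgroupOf B).Normal := ⟨fun q hq p => hn p p.2 q hq⟩
  let Y : ↥B := ⟨y, hy⟩
  let π := QuotientGroup.mk' (Q.subgroupOf B)
  have hgen : ∀ q : ↥B ⧸ Q.subgroupOf B, q ∈ Subgroup.zpowers (π Y) := by
    intro q
    obtain ⟨b, rfl⟩ := QuotientGroup.mk'_surjective (Q.subgroupOf B) q
    obtain ⟨i, q, hq, hb⟩ := h b b.2
    have hqB : q ∈ B := by
      have e : q = (y ^ i)⁻¹ * b := by rw [hb]; group
      rw [e]
      exact B.mul_mem (B.inv_mem (B.pow_mem hy i)) b.2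
    have e : b = Y ^ i * ⟨q, hqB⟩ := Subtype.ext hb
    have e2 : π b = π Y ^ i := by
      rw [e, map_mul, map_pow]
      have e3 : π ⟨q, hqB⟩ = 1 := (QuotientGroup.eq_one_iff _).2 hq
      rw [e3, mul_one]
    show π b ∈ _
    rw [e2]
    exact ⟨i, by simp⟩
  have h1 : Nat.card (↥B ⧸ Q.subgroupOf B) = orderOf (π Y) := by
    rw [← Nat.card_zpowers]
    refine Nat.card_congr ⟨fun q => ⟨q, hgen q⟩, fun q => q.1, fun q => rfl, fun q => rfl⟩
  rw [Subgroup.relIndex, Subgroup.index, h1]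
  apply orderOf_dvd_of_pow_eq_one
  rw [← map_pow]
  exact (QuotientGroup.eq_one_iff _).2 hyn

/-- `⟨y⟩ D` for `y` normalising `D` -/
def mulSub (D : Subgroup G) (y : G) (hy : y ∈ Subgroup.normalizer (D : Set G)) : Subgroup G where
  carrier := {h | ∃ i : ℤ, ∃ q ∈ D, h = y ^ i * q}
  one_mem' := ⟨0, 1, D.one_mem, by group⟩
  mul_mem' := by
    rintro _ _ ⟨i, q, hq, rfl⟩ ⟨j, q', hq', rfl⟩
    have h1 := (Subgroup.mem_normalizer_iff.1 (Subgroup.zpow_mem _ hy (-j)) q).1 hq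
    refine ⟨i + j, _, D.mul_mem h1 hq', ?_⟩
    group
  inv_mem' := by
    rintro _ ⟨i, q, hq, rfl⟩
    have h1 := (Subgroup.mem_normalizer_iff.1 (Subgroup.zpow_mem _ hy i) q⁻¹).1 (D.inv_mem hq)
    refine ⟨-i, _, h1, ?_⟩
    group

theorem mem_mulSub {D : Subgroup G} {y : G} (hy : y ∈ Subgroup.normalizer (D : Set G)) {h : G} :
    h ∈ mulSub D y hy ↔ ∃ i : ℤ, ∃ q ∈ D, h = y ^ i * q := Iff.rfl

/-- `H = ⟨y⟩ D` with `D` normal: the index of `D` divides `n` if `yⁿ ∈ D` -/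
theorem relIndex_dvd_of_mulSub {D H : Subgroup G} {y : G} (hy : y ∈ Subgroup.normalizer (D : Set G)) (hyH : y ∈ H)
    (hDH : ∀ b ∈ H, ∀ q ∈ D, b * q * b⁻¹ ∈ D) {n : ℕ} (hn : y ^ n ∈ D) (h : H ≤ mulSub D y hy) :
    D.relIndex H ∣ n := by
  have hN : (D.subgroupOf H).Normal := ⟨fun q hq p => hDH p p.2 q hq⟩
  let Y : ↥H := ⟨y, hyH⟩
  let π := QuotientGroup.mk' (D.subgroupOf H)
  have hgen : ∀ q : ↥H ⧸ D.subgroupOf H, q ∈ Subgroup.zpowers (π Y) := by
    intro q
    obtain ⟨b, rfl⟩ := QuotientGroup.mk'_surjective (D.subgroupOf H) q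
    obtain ⟨i, q, hq, hb⟩ := (mem_mulSub hy).1 (h b.2)
    have hqB : q ∈ H := by
      have e : q = (y ^ i)⁻¹ * b := by rw [hb]; group
      rw [e]
      exact H.mul_mem (H.inv_mem (H.zpow_mem hyH i)) b.2
    have e : b = Y ^ i * ⟨q, hqB⟩ := Subtype.ext hb
    have e2 : π b = π Y ^ i := by
      rw [e, map_mul, map_zpow]
      have e3 : π ⟨q, hqB⟩ = 1 := (QuotientGroup.eq_one_iff _).2 hq
      rw [e3, mul_one]
    show π b ∈ _
    rw [e2]
    exact ⟨i, by simp⟩
  have h1 : Nat.card (↥H ⧸ D.subgroupOf H) = orderOf (π Y) := by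
    rw [← Nat.card_zpowers]
    refine Nat.card_congr ⟨fun q => ⟨q, hgen q⟩, fun q => q.1, fun q => rfl, fun q => rfl⟩
  rw [Subgroup.relIndex, Subgroup.index, h1]
  apply orderOf_dvd_of_pow_eq_one
  rw [← map_pow]
  exact (QuotientGroup.eq_one_iff _).2 hn

/-- a 2-subgroup of a finite group `H` is conjugate in `H` into a 2-subgroup of odd index -/
theorem exists_conj_sub [Finite G] {H S T : Subgroup G} (hSH : S ≤ H) (hS : IsPGroup 2 S) (hi : ¬ 2 ∣ S.relIndex H)
    (hTH : T ≤ H) (hT : IsPGroup 2 T) : ∃ g ∈ H, ∀ t ∈ T, g * t * g⁻¹ ∈ S := by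
  have : Fact (Nat.Prime 2) := ⟨Nat.prime_two⟩
  have hS' : IsPGroup 2 (S.subgroupOf H) := hS.of_equiv (Subgroup.subgroupOfEquivOfLe hSH).symm
  have hT' : IsPGroup 2 (T.subgroupOf H) := hT.of_equiv (Subgroup.subgroupOfEquivOfLe hTH).symm
  obtain ⟨Q, hQ⟩ := hT'.exists_le_sylow
  obtain ⟨g, hg⟩ := MulAction.exists_smul_eq H (hS'.toSylow hi) Q
  refine ⟨(g⁻¹ : ↥H), (g⁻¹).2, fun t ht => ?_⟩
  have h1 : (⟨t, hTH ht⟩ : ↥H) ∈ (Q : Subgroup ↥H) := hQ ht
  rw [← hg, Sylow.coe_subgroup_smul, Subgroup.mem_pointwise_smul_iff_inv_smul_mem] at h1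
  have e : (MulAut.conj g)⁻¹ • (⟨t, hTH ht⟩ : ↥H) = g⁻¹ * ⟨t, hTH ht⟩ * g := by
    rw [← map_inv, MulAut.smul_def, MulAut.conj_apply, inv_inv]
  rw [e] at h1
  have h2 : ((g⁻¹ * ⟨t, hTH ht⟩ * g : ↥H) : G) ∈ S := h1
  have e2 : ((g⁻¹ : ↥H) : G) * t * ((g⁻¹ : ↥H) : G)⁻¹ = ((g⁻¹ * ⟨t, hTH ht⟩ * g : ↥H) : G) := by
    simp
  rw [e2]
  exact h2

/-- an element of a 2-group centralised by ... : an odd order 2-subgroup is trivial -/
theorem eq_bot_of_odd [Finite G] {I : Subgroup G} (hI : IsPGroup 2 I) (h : Odd (Nat.card ↥I)) : I = ⊥ := by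
  have : Fact (Nat.Prime 2) := ⟨Nat.prime_two⟩
  obtain ⟨n, hn⟩ := IsPGroup.iff_card.1 hI
  rw [hn] at h
  cases n with
  | zero => exact Subgroup.card_eq_one.1 (by rw [hn, pow_zero])
  | succ n =>
    exfalso
    rw [pow_succ] at h
    exact (Nat.not_odd_iff_even.2 (even_two.mul_left _)) h

/-! ### cyclic groups of order 2 and 4 -/

theorem zpowers_two {y g : G} (hy : y * y = 1) (hg : g ∈ Subgroup.zpowers y) : g = 1 ∨ g = y := by
  obtain ⟨k, hk⟩ := Subgroup.mem_zpowers_iff.1 hg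
  have e : y ^ (2 : ℤ) = 1 := by rw [zpow_two, hy]
  obtain ⟨j, rfl | rfl⟩ := k.even_or_odd'
  · left
    rw [← hk, zpow_mul, e, one_zpow]
  · right
    rw [← hk, zpow_add, zpow_mul, e, one_zpow, one_mul, zpow_one]

theorem zpowers_four {T : Subgroup G} {y g : G} (hy : y * y * (y * y) = 1) (hyT : y ∉ T) (hyT' : y * y ∈ T)
    (hg : g ∈ Subgroup.zpowers y) (hgT : g ∈ T) : g = 1 ∨ g = y * y := by
  obtain ⟨k, hk⟩ := Subgroup.mem_zpowers_iff.1 hg
  obtain ⟨j, rfl | rfl⟩ := k.even_or_odd'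
  · rw [zpow_mul, zpow_two] at hk
    exact zpowers_two hy (Subgroup.mem_zpowers_iff.2 ⟨j, hk⟩)
  · exfalso
    apply hyT
    rw [zpow_add, zpow_mul, zpow_two, zpow_one] at hk
    have e : y = ((y * y) ^ j)⁻¹ * g := by
      rw [← hk]
      group
    rw [e]
    exact T.mul_mem (T.inv_mem (T.zpow_mem hyT' j)) hgT

theorem conj_pow_aux (w y : G) (n : ℕ) : (w * y * w⁻¹) ^ n = w * y ^ n * w⁻¹ := conj_pow

/-! ### conjugate subgroups -/

/-- `w S w⁻¹` -/
def cj (w : G) (S : Subgroup G) : Subgroup G where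
  carrier := {g | w⁻¹ * g * w ∈ S}
  one_mem' := by
    show w⁻¹ * 1 * w ∈ S
    rw [mul_one, inv_mul_cancel]
    exact S.one_mem
  mul_mem' := by
    intro a b ha hb
    have h := S.mul_mem ha hb
    have e : w⁻¹ * a * w * (w⁻¹ * b * w) = w⁻¹ * (a * b) * w := by group
    rw [e] at h
    exact h
  inv_mem' := by
    intro a ha
    have h := S.inv_mem ha
    have e : (w⁻¹ * a * w)⁻¹ = w⁻¹ * a⁻¹ * w := by group
    rw [e] at h
    exact h

theorem mem_cj {w : G} {S : Subgroup G} {g : G} : g ∈ cj w S ↔ w⁻¹ * g * w ∈ S := Iff.rfl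

theorem conj_mem_cj {w : G} {S : Subgroup G} {s : G} (hs : s ∈ S) : w * s * w⁻¹ ∈ cj w S := by
  rw [mem_cj]
  have e : w⁻¹ * (w * s * w⁻¹) * w = s := by group
  rw [e]
  exact hs

theorem card_cj (w : G) (S : Subgroup G) : Nat.card ↥(cj w S) = Nat.card ↥S := by
  refine Nat.card_congr ⟨fun g => ⟨w⁻¹ * g * w, g.2⟩, fun s => ⟨w * s * w⁻¹, conj_mem_cj s.2⟩, fun g => ?_, fun s => ?_⟩
  · apply Subtype.ext
    show w * (w⁻¹ * g * w) * w⁻¹ = g
    group
  · apply Subtype.ext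
    show w⁻¹ * (w * s * w⁻¹) * w = s
    group

end Cfsg.Agent.TitsK.Abs
end

-- part: TitsK/Data
section
/-!
The facts about `²F₄(2)` and the Tits group used for the automorphism group and the fact sheet, in an abstract group
(so that the heavy ambient group `F₄(2)` does not appear in the arguments): `structure TData`.
-/

set_option autoImplicit false

namespace Cfsg.Agent.TitsK

/-- `H = ²F₄(2)`, `T` the Tits group, `U` a Sylow 2-subgroup of `H`, `V = ⟨z, z1⟩`. -/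
structure TData (G : Type*) [Group G] where
  H : Subgroup G
  T : Subgroup G
  U : Subgroup G
  V : Subgroup G
  E : Subgroup G
  w0 : G
  z : G
  z1 : G
  d : G
  ya : G
  yam : G
  zb : G
  zbm : G
  T_le : T ≤ H
  relIndex_T : T.relIndex H = 2
  T_conj : ∀ h ∈ H, ∀ t ∈ T, h * t * h⁻¹ ∈ T
  U_le : U ≤ H
  isPGroup_U : IsPGroup 2 ↥U
  odd_U : ¬ 2 ∣ U.relIndex H
  odd_S : ¬ 2 ∣ (U ⊓ T).relIndex T
  -- `V`
  z_mem_V : z ∈ V
  z1_mem_V : z1 ∈ V
  V_cases : ∀ v ∈ V, v ≠ 1 → ∃ t ∈ T, t * v * t⁻¹ = z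
  V_le_U : V ≤ U
  V_le_T : V ≤ T
  z_sq : z * z = 1
  z_ne : z ≠ 1
  V_comm : ∀ v ∈ V, ∀ c ∈ U, v * c * (v⁻¹ * c⁻¹) = 1 ∨ v * c * (v⁻¹ * c⁻¹) = z
  z_central : ∀ u ∈ U, u * z * u⁻¹ = z
  cent_V : ∀ g ∈ H, g * z * g⁻¹ = z → g * z1 * g⁻¹ = z1 → g ∈ U
  -- `d`
  d_mem_U : d ∈ U
  d_mem_T : d ∈ T
  d_comm : ∀ v ∈ V, v * d = d * v
  cent_d : ∀ g ∈ H, g * d * g⁻¹ = d → ∀ v ∈ V, g * v * g⁻¹ ∈ V
  -- `E`
  E_le_U : E ≤ U
  E_le_T : E ≤ T
  z_mem_E : z ∈ E
  z1_mem_E : z1 ∈ E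
  cent_z : ∀ g ∈ H, g * z * g⁻¹ = z → ∀ e ∈ E, g * e * g⁻¹ ∈ E
  -- centres
  cent_S : ∀ u ∈ U, (∀ c ∈ U ⊓ T, u * c = c * u) → u = 1 ∨ u = z
  zee_two : ∀ u ∈ U ⊓ T, (∀ c ∈ U ⊓ T, u * c * (u⁻¹ * c⁻¹) = 1 ∨ u * c * (u⁻¹ * c⁻¹) = z) → u ∈ V
  z_not_central : ∃ t ∈ T, t * z * t⁻¹ ≠ z
  -- involutions
  no_outer : ∀ u ∈ U, u * u = 1 → u ∈ T
  invol : ∀ u ∈ U ⊓ T, u * u = 1 → u ≠ 1 → (∃ t ∈ T, t * u * t⁻¹ = z) ∨ (∃ t ∈ T, t * u * t⁻¹ = d)
  kill : ∀ u ∈ U ⊓ T, u * z1 = z1 * u → u * d = d * u → u ≠ 1 → u ≠ d → ∀ N : Subgroup G, d ∈ N → u ∈ N →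
    (∀ c ∈ T, c * d = d * c → ∀ n ∈ N, c * n * c⁻¹ ∈ N) → ∃ x ∈ N, ∃ t ∈ T, t * x * t⁻¹ = z
  -- the opposite subgroup
  w0_mem : w0 ∈ T
  w0_sq : w0 * w0 = 1
  opp : ∀ g ∈ U, w0 * g * w0 ∈ U → g = 1
  big : ∀ g ∈ H, (∀ s ∈ U ⊓ T, g * s * g⁻¹ ∈ U ⊓ T → s = 1) → ∃ u ∈ U, ∃ v ∈ U, g = u * w0 * v
  cent_z_opp : ∀ g ∈ T, w0 * g * w0 ∈ U → g * z * g⁻¹ = z → g = 1 ∨ g = zbm
  norm_V_opp : ∀ g ∈ T, w0 * g * w0 ∈ U → (∀ v ∈ V, g * v * g⁻¹ ∈ V) → g = 1 ∨ g = yam
  zbm_mem : zbm ∈ T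
  zbm_opp : w0 * zbm * w0 ∈ U
  zbm_z : zbm * z * zbm⁻¹ = z
  zbm_ne : zbm ≠ 1
  yam_mem : yam ∈ T
  yam_opp : w0 * yam * w0 ∈ U
  yam_V : ∀ v ∈ V, yam * v * yam⁻¹ ∈ V
  yam_ne : yam ≠ 1
  w0_zbm : w0 * zbm * w0 = zb
  w0_yam : w0 * yam * w0 = ya
  gen : ∀ K : Subgroup G, ya ∈ K → yam ∈ K → zb ∈ K → zbm ∈ K → T ≤ K

end Cfsg.Agent.TitsK
end
end

-- part: TitsK/Inst
section
prune_inst 0x1004000022100000000000000000201000000000400000202001000100004080000000082001100000800020000060001000004000000000000000000400000000420002400000200000008001100000000000000000000000000000000000000000000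
set_option linter.all false
open scoped Cfsg.Agent.FastGrp

-- part: TitsK/EnumA
section
/-!
Kernel enumerations in `UT`: `no_outer_invol` (no involutions in `UT` outside `TT`), `invol_ST` (the involutions of
`UT ⊓ TT` are conjugate to `z` or to `d`).
-/

set_option autoImplicit false
set_option Elab.async false

namespace Cfsg.Agent.TitsK

open Cfsg.Lie Cfsg.Agent.ChevalleyStructure.TwF4.Tables
open Cfsg.Agent.FourTwo.Base hiding bar bar_lt
open Cfsg.Agent.FourTwo.BN Cfsg.Agent.FourTwo.Comm Cfsg.Agent.FourTwo.Classes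
open Cfsg.Agent.FourTwo.UCode (mulU invU conjU lets colW colF force force_eq mem_lets wel_lets wel_mem)

theorem chk_outer : allU (fun e => cond (parB e) (!Nat.beq (mulU e e) 0) true) = true := by
  delta allU allP
  rw [Ix.mulU_eq]
  decide +kernel

/-- no involutions in `UT` outside `TT` -/
theorem no_outer_invol {u : LL} (hu : u ∈ UT) (h : u * u = 1) : u ∈ TT := by
  obtain ⟨e, he, rfl, h1, h2⟩ := UT_all chk_outer hu
  rw [h1]
  by_contra h3
  rw [Bool.not_eq_false] at h3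
  rw [h3, cond_true, Bool.not_eq_true', ← Bool.not_eq_true] at h2
  apply h2
  have h4 : ec (mulU e e) = ec 0 := by rw [ec_mulU, h, ec_zero]
  rw [ec_inj (mulU_lt he e) (by norm_num) h4]
  rfl

theorem chk_invol : allS (fun e => cond (Nat.beq (mulU e e) 0) (Nat.beq e 0 || memB e LA || memB e LB) true) = true := by
  delta allS allU allP
  rw [Ix.mulU_eq]
  decide +kernel

/-- the involutions of `ST` are conjugate in `TT` to `z` or to `d` -/
theorem invol_ST {u : LL} (hu : u ∈ UT) (hT : u ∈ TT) (h : u * u = 1) (h1 : u ≠ 1) :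
    (∃ t ∈ TT, t * u * t⁻¹ = z) ∨ (∃ t ∈ TT, t * u * t⁻¹ = d) := by
  obtain ⟨e, he, rfl, -, h2⟩ := ST_all chk_invol hu hT
  have h4 : ec (mulU e e) = ec 0 := by rw [ec_mulU, h, ec_zero]
  have h5 : mulU e e = 0 := ec_inj (mulU_lt he e) (by norm_num) h4
  have h6 : Nat.beq (mulU e e) 0 = true := by rw [h5]; rfl
  rw [h6, cond_true, Bool.or_eq_true, Bool.or_eq_true] at h2
  rcases h2 with (h2 | h2) | h2
  · exfalso
    rw [Nat.eq_of_beq_eq_true h2, ec_zero] at h1
    exact h1 rfl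
  · exact Or.inl (LA_spec e (memB_spec h2))
  · exact Or.inr (LB_spec e (memB_spec h2))

end Cfsg.Agent.TitsK
end

-- part: TitsK/Rank
section
/-!
The two parabolic subgroups of `HT` and the opposite unipotent group `VT = w₀ UT w₀⁻¹`:

* `Q8`, `Q1`: the kernels (`UT ⊓ RG P8`, `UT ⊓ RG P1`), `conj_Q8`, `conj_Q1`;
* `Pz = C_HT(z)`, `V4 = ⟨z, z1⟩`, `Pv = N_HT(V4)`;
* `VT_cent_z`: the elements of `VT` commuting with `z` are the powers of `ybm`;
* `VT_norm_V4`: the elements of `VT` normalising `V4` are `1`, `yam`.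
-/

set_option autoImplicit false

namespace Cfsg.Agent.TitsK

open Cfsg.Lie Cfsg.Agent.ChevalleyStructure.TwF4.Tables
open Cfsg.Agent.FourTwo.Base hiding bar bar_lt
open Cfsg.Agent.FourTwo.BN Cfsg.Agent.FourTwo.Comm Cfsg.Agent.FourTwo.Classes
open Cfsg.Agent.FourTwo.Par
open Cfsg.Agent.FourTwo.Cent (U_eq)
open Cfsg.Agent.FourTwo.UCode (mulU invU conjU lets colW colF force force_eq mem_lets wel_lets wel_mem)
open Cfsg.Agent.TitsK.Abs

/-! ### kernels -/

/-- the positive roots outside the class 8 -/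
def P8 (r : ℕ) : Bool := decide (24 ≤ r) && !([25, 27, 28, 30].contains r)
/-- the positive roots outside the class 1 -/
def P1 (r : ℕ) : Bool := decide (24 ≤ r) && !([24, 33].contains r)

theorem closed8 : closedB P8 = true := by decide +kernel
theorem closed1 : closedB P1 = true := by decide +kernel
theorem norm8 : normB Cfsg.Agent.FourTwo.Cent.posP P8 = true := by decide +kernel
theorem norm1 : normB Cfsg.Agent.FourTwo.Cent.posP P1 = true := by decide +kernel

theorem RG_conj_act {w : List ℕ} (hw : ∀ i ∈ w, i < 4) {P : ℕ → Bool} (h : ∀ r < 48, P r = true → P (act w r) = true)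
    {g : LL} (hg : g ∈ RG P) : nw w * g * (nw w)⁻¹ ∈ RG P := by
  have h1 : RG P ≤ cj (nw w)⁻¹ (RG P) := RG_le fun r hr hP => by
    rw [mem_cj, inv_inv, nw_conj hw hr]
    exact x_mem_RG (act_lt hw hr) (h r hr hP)
  have h2 := h1 hg
  rw [mem_cj, inv_inv] at h2
  exact h2

theorem act8 : ∀ r < 48, P8 r = true → P8 (act [1, 2, 1, 2] r) = true := by decide +kernel
theorem act1 : ∀ r < 48, P1 r = true → P1 (act [0, 3] r) = true := by decide +kernel

/-- the kernel for `z` -/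
def Q8 : Subgroup LL := UT ⊓ RG P8
/-- the kernel for `V4` -/
def Q1 : Subgroup LL := UT ⊓ RG P1

theorem Q8_le : Q8 ≤ UT := inf_le_left
theorem Q1_le : Q1 ≤ UT := inf_le_left

theorem UT_conj_RG {P : ℕ → Bool} (h : normB Cfsg.Agent.FourTwo.Cent.posP P = true) {u g : LL} (hu : u ∈ UT) (hg : g ∈ RG P) :
    u * g * u⁻¹ ∈ RG P := by
  have h1 := hu.1
  rw [U_eq] at h1
  exact conj_mem h h1 hg

theorem UT_conj_Q8 {u q : LL} (hu : u ∈ UT) (hq : q ∈ Q8) : u * q * u⁻¹ ∈ Q8 :=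
  ⟨UT.mul_mem (UT.mul_mem hu hq.1) (UT.inv_mem hu), UT_conj_RG norm8 hu hq.2⟩

theorem UT_conj_Q1 {u q : LL} (hu : u ∈ UT) (hq : q ∈ Q1) : u * q * u⁻¹ ∈ Q1 :=
  ⟨UT.mul_mem (UT.mul_mem hu hq.1) (UT.inv_mem hu), UT_conj_RG norm1 hu hq.2⟩

theorem nb_conj_Q8 {q : LL} (hq : q ∈ Q8) : nb * q * nb⁻¹ ∈ Q8 := by
  have h1 : nb * q * nb⁻¹ ∈ RG P8 := RG_conj_act (w := [1, 2, 1, 2]) (by decide) act8 hq.2
  exact ⟨⟨RG_le_U closed8 h1, HT.mul_mem (HT.mul_mem nb_mem_HT hq.1.2) (HT.inv_mem nb_mem_HT)⟩, h1⟩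

theorem na_conj_Q1 {q : LL} (hq : q ∈ Q1) : na * q * na⁻¹ ∈ Q1 := by
  have h1 : na * q * na⁻¹ ∈ RG P1 := RG_conj_act (w := [0, 3]) (by decide) act1 hq.2
  exact ⟨⟨RG_le_U closed1 h1, HT.mul_mem (HT.mul_mem na_mem_HT hq.1.2) (HT.inv_mem na_mem_HT)⟩, h1⟩

theorem ec_mem_RG {P : ℕ → Bool} {e : ℕ} (h : ((lets e).all fun j => P (24 + j)) = true) : ec e ∈ RG P := by
  rw [ec_eq_wd]
  rw [List.all_eq_true] at h
  refine wd_mem_RG fun r hr => ?_
  rw [List.mem_map] at hr
  obtain ⟨j, hj, rfl⟩ := hr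
  have := (mem_lets.1 hj).1
  exact ⟨by omega, h j hj⟩

theorem gens8 : (gens12.all fun g => Nat.beq g.1 74 || Nat.beq g.1 80 || (lets g.1).all fun j => P8 (24 + j)) = true := by
  decide +kernel
theorem gens1 : (gens12.all fun g => Nat.beq g.1 513 || (lets g.1).all fun j => P1 (24 + j)) = true := by
  decide +kernel

theorem UT_decomp8 {u : LL} (hu : u ∈ UT) : ∃ i : ℕ, ∃ q ∈ Q8, u = yb ^ i * q := by
  refine UT_induct (P := fun u => ∃ i : ℕ, ∃ q ∈ Q8, u = yb ^ i * q) ⟨0, 1, Q8.one_mem, by group⟩ ?_ hu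
  rintro a g hg ⟨i, q, hq, rfl⟩
  have h := gens8
  rw [List.all_eq_true] at h
  have h1 := h g hg
  rw [Bool.or_eq_true, Bool.or_eq_true] at h1
  have hyb : ∀ n : ℕ, yb ^ i * q * yb ^ n = yb ^ (i + n) * ((yb ^ n)⁻¹ * q * ((yb ^ n)⁻¹)⁻¹) := by
    intro n
    rw [pow_add, inv_inv]
    group
  rcases h1 with (h1 | h1) | h1
  · rw [Nat.eq_of_beq_eq_true h1, ← yb_eq]
    refine ⟨i + 1, _, UT_conj_Q8 (UT.inv_mem (UT.pow_mem yb_mem 1)) hq, ?_⟩
    rw [← hyb 1, pow_one]
  · rw [Nat.eq_of_beq_eq_true h1, ← zb_eq, ← yb_sq]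
    refine ⟨i + 2, _, UT_conj_Q8 (UT.inv_mem (UT.pow_mem yb_mem 2)) hq, ?_⟩
    rw [← hyb 2, pow_two]
  · exact ⟨i, q * ec g.1, Q8.mul_mem hq ⟨gens_mem g hg, ec_mem_RG h1⟩, by rw [mul_assoc]⟩

theorem UT_decomp1 {u : LL} (hu : u ∈ UT) : ∃ i : ℕ, ∃ q ∈ Q1, u = ya ^ i * q := by
  refine UT_induct (P := fun u => ∃ i : ℕ, ∃ q ∈ Q1, u = ya ^ i * q) ⟨0, 1, Q1.one_mem, by group⟩ ?_ hu
  rintro a g hg ⟨i, q, hq, rfl⟩
  have h := gens1
  rw [List.all_eq_true] at h
  have h1 := h g hg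
  rw [Bool.or_eq_true] at h1
  rcases h1 with h1 | h1
  · rw [Nat.eq_of_beq_eq_true h1, ← ya_eq]
    refine ⟨i + 1, _, UT_conj_Q1 (UT.inv_mem ya_mem) hq, ?_⟩
    rw [pow_succ, inv_inv]
    group
  · exact ⟨i, q * ec g.1, Q1.mul_mem hq ⟨gens_mem g hg, ec_mem_RG h1⟩, by rw [mul_assoc]⟩

theorem yb_pow4 : yb ^ 4 = 1 := by
  have h : mulU 80 80 = 0 := by decide +kernel
  have e : yb ^ 4 = yb * yb * (yb * yb) := by rw [pow_succ, pow_succ, pow_two, mul_assoc, mul_assoc]
  rw [e, yb_sq, zb_eq, ← ec_mulU, h, ec_zero]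

theorem ya_sq : ya * ya = 1 := by
  have h : mulU 513 513 = 0 := by decide +kernel
  rw [ya_eq, ← ec_mulU, h, ec_zero]

theorem relIndex8 : Q8.relIndex UT ∣ 4 :=
  relIndex_dvd_of_cyclic (fun _ hb _ hq => UT_conj_Q8 hb hq) yb_mem (by rw [yb_pow4]; exact Q8.one_mem)
    fun _ hb => UT_decomp8 hb

theorem relIndex1 : Q1.relIndex UT ∣ 2 :=
  relIndex_dvd_of_cyclic (fun _ hb _ hq => UT_conj_Q1 hb hq) ya_mem (by rw [pow_two, ya_sq]; exact Q1.one_mem)
    fun _ hb => UT_decomp1 hb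

/-! ### `UT` is a Sylow 2-subgroup of `HT` -/

theorem UT_le_HT : UT ≤ HT := inf_le_right

theorem relIndex_UT : UT.relIndex HT = 3 ^ 3 * 5 ^ 2 * 13 := by
  have h := card_of_relIndex UT_le_HT _ rfl
  rw [card_UT, card_HT] at h
  have h2 : 2 ^ 12 * UT.relIndex HT = 2 ^ 12 * (3 ^ 3 * 5 ^ 2 * 13) := by
    rw [h]
    ring
  exact Nat.eq_of_mul_eq_mul_left (by norm_num) h2

theorem odd_relIndex {P : Subgroup LL} (h1 : UT ≤ P) (h2 : P ≤ HT) : Nat.Coprime 2 (UT.relIndex P) := by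
  have h : UT.relIndex P ∣ UT.relIndex HT := Dvd.intro _ (Subgroup.relIndex_mul_relIndex UT P HT h1 h2)
  rw [relIndex_UT] at h
  exact Nat.Coprime.coprime_dvd_right h (by norm_num)

theorem isPGroup_UT : IsPGroup 2 ↥UT := IsPGroup.of_card card_UT

/-! ### the parabolic subgroups -/

/-- `C_HT(z)` -/
def Pz : Subgroup LL := HT ⊓ Subgroup.centralizer {z}

theorem mem_Pz {g : LL} : g ∈ Pz ↔ g ∈ HT ∧ g * z * g⁻¹ = z := by
  unfold Pz
  rw [Subgroup.mem_inf, Subgroup.mem_centralizer_singleton_iff, mul_inv_eq_iff_eq_mul]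

theorem UT_le_Pz : UT ≤ Pz := fun _ hu => mem_Pz.2 ⟨hu.2, z_central hu⟩

theorem Pz_conj_Q8 {p q : LL} (hp : p ∈ Pz) (hq : q ∈ Q8) : p * q * p⁻¹ ∈ Q8 := by
  obtain ⟨hp1, hp2⟩ := mem_Pz.1 hp
  obtain ⟨u, hu, v, hv, rfl | rfl⟩ := cent_z_cases hp1 hp2
  · exact UT_conj_Q8 (UT.mul_mem hu hv) hq
  · have h := UT_conj_Q8 hu (nb_conj_Q8 (UT_conj_Q8 hv hq))
    have e : u * nb * v * q * (u * nb * v)⁻¹ = u * (nb * (v * q * v⁻¹) * nb⁻¹) * u⁻¹ := by group
    rw [e]
    exact h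

/-- codes of `V4` -/
def L4 : List ℕ := [0, 9437184, 4259840, 13697024]

/-- the four-group `⟨z, z1⟩` -/
def V4 : Subgroup LL where
  carrier := {g | ∃ e ∈ L4, g = ec e}
  one_mem' := ⟨0, by decide, ec_zero.symm⟩
  mul_mem' := by
    rintro _ _ ⟨a, ha, rfl⟩ ⟨b, hb, rfl⟩
    have h : (L4.all fun a => L4.all fun b => L4.contains (mulU a b)) = true := by decide +kernel
    rw [List.all_eq_true] at h
    have h1 := h a ha
    rw [List.all_eq_true] at h1
    exact ⟨mulU a b, List.contains_iff_mem.1 (h1 b hb), (ec_mulU a b).symm⟩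
  inv_mem' := by
    rintro _ ⟨a, ha, rfl⟩
    have h : (L4.all fun a => L4.contains (invU a)) = true := by decide +kernel
    rw [List.all_eq_true] at h
    exact ⟨invU a, List.contains_iff_mem.1 (h a ha), (ec_invU a).symm⟩

theorem mem_V4 {g : LL} : g ∈ V4 ↔ ∃ e ∈ L4, g = ec e := Iff.rfl

theorem mem_V4_iff {g : LL} : g ∈ V4 ↔ g = 1 ∨ g = z ∨ g = z1 ∨ g = z * z1 := by
  rw [mem_V4, z_mul_z1, ← ec_zero]
  simp only [L4, List.mem_cons, List.not_mem_nil, or_false]
  constructor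
  · rintro ⟨e, rfl | rfl | rfl | rfl, rfl⟩
    · exact Or.inl rfl
    · exact Or.inr (Or.inl rfl)
    · exact Or.inr (Or.inr (Or.inl rfl))
    · exact Or.inr (Or.inr (Or.inr rfl))
  · rintro (rfl | rfl | rfl | rfl)
    · exact ⟨0, Or.inl rfl, rfl⟩
    · exact ⟨9437184, Or.inr (Or.inl rfl), rfl⟩
    · exact ⟨4259840, Or.inr (Or.inr (Or.inl rfl)), rfl⟩
    · exact ⟨13697024, Or.inr (Or.inr (Or.inr rfl)), rfl⟩

theorem z_mem_V4 : z ∈ V4 := mem_V4_iff.2 (Or.inr (Or.inl rfl))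
theorem z1_mem_V4 : z1 ∈ V4 := mem_V4_iff.2 (Or.inr (Or.inr (Or.inl rfl)))

theorem V4_le_UT : V4 ≤ UT := by
  intro g hg
  rcases mem_V4_iff.1 hg with rfl | rfl | rfl | rfl
  · exact UT.one_mem
  · exact z_mem
  · exact z1_mem
  · exact UT.mul_mem z_mem z1_mem

theorem V4_le_TT : V4 ≤ TT := by
  intro g hg
  rcases mem_V4_iff.1 hg with rfl | rfl | rfl | rfl
  · exact TT.one_mem
  · exact z_mem_TT
  · exact z1_mem_TT
  · exact TT.mul_mem z_mem_TT z1_mem_TT

theorem UT_conj_V4 {u v : LL} (hu : u ∈ UT) (hv : v ∈ V4) : u * v * u⁻¹ ∈ V4 := by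
  obtain ⟨e, he, rfl⟩ := mem_V4.1 hv
  exact UT_conj_list (by decide +kernel) hu e he

theorem na_conj_V4 {v : LL} (hv : v ∈ V4) : na * v * na⁻¹ ∈ V4 := by
  obtain ⟨e, he, rfl⟩ := mem_V4.1 hv
  have h : (L4.all fun e => posW [0, 3] e && L4.contains (reflW [0, 3] e)) = true := by decide +kernel
  rw [List.all_eq_true] at h
  have h1 := h e he
  rw [Bool.and_eq_true] at h1
  exact ⟨_, List.contains_iff_mem.1 h1.2, nw_conj_ec (w := [0, 3]) (by decide) h1.1⟩

/-- `N_HT(V4)` -/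
def Pv : Subgroup LL := HT ⊓ Subgroup.normalizer (V4 : Set LL)

theorem Pv_conj_V4 {p v : LL} (hp : p ∈ Pv) (hv : v ∈ V4) : p * v * p⁻¹ ∈ V4 :=
  (Subgroup.mem_normalizer_iff.1 hp.2 v).1 hv

theorem mem_normalizer_of {G : Type*} [Group G] [Finite G] {H : Subgroup G} {g : G} (h : ∀ x ∈ H, g * x * g⁻¹ ∈ H) :
    g ∈ Subgroup.normalizer (H : Set G) := by
  rw [Subgroup.mem_normalizer_iff]
  intro x
  refine ⟨fun hx => h x hx, fun hx => ?_⟩
  have hinj : Function.Injective (fun y : ↥H => (⟨g * y * g⁻¹, h y y.2⟩ : ↥H)) := by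
    intro a b hab
    have h1 := congrArg Subtype.val hab
    apply Subtype.ext
    simpa using h1
  obtain ⟨y, hy⟩ := Finite.surjective_of_injective hinj ⟨g * x * g⁻¹, hx⟩
  have h1 : g * (y : G) * g⁻¹ = g * x * g⁻¹ := congrArg Subtype.val hy
  have h2 : (y : G) = x := by simpa using h1
  rw [← h2]
  exact y.2

theorem mem_Pv {g : LL} (hg : g ∈ HT) (h : ∀ v ∈ V4, g * v * g⁻¹ ∈ V4) : g ∈ Pv := ⟨hg, mem_normalizer_of h⟩

theorem UT_le_Pv : UT ≤ Pv := fun _ hu => mem_Pv hu.2 fun _ hv => UT_conj_V4 hu hv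

theorem W_v : (W16.all fun w => w == [] || w == [0, 3] || badW w 9437184 L4 || badW w 4259840 L4) = true := by
  decide +kernel

theorem Pv_cases {g : LL} (hg : g ∈ Pv) : ∃ u ∈ UT, ∃ v ∈ UT, g = u * v ∨ g = u * na * v := by
  obtain ⟨u, hu, w, hw, v, hv, rfl⟩ := bruhat_HT hg.1
  refine ⟨u, hu, v, hv, ?_⟩
  have h4 : ∀ x ∈ V4, nw w * x * (nw w)⁻¹ ∈ V4 := by
    intro x hx
    have h5 := UT_conj_V4 (UT.inv_mem hu) (Pv_conj_V4 hg (UT_conj_V4 (UT.inv_mem hv) hx))
    have e : u⁻¹ * (u * nw w * v * (v⁻¹ * x * (v⁻¹)⁻¹) * (u * nw w * v)⁻¹) * (u⁻¹)⁻¹ = nw w * x * (nw w)⁻¹ := by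
      group
    rw [e] at h5
    exact h5
  have h2 := W_v
  rw [List.all_eq_true] at h2
  have h3 := h2 w hw
  rw [Bool.or_eq_true, Bool.or_eq_true, Bool.or_eq_true, beq_iff_eq, beq_iff_eq] at h3
  rcases h3 with ((h3 | h3) | h3) | h3
  · left
    rw [h3]
    show u * 1 * v = u * v
    rw [mul_one]
  · right
    rw [h3]
    rfl
  · obtain ⟨e', he', h6⟩ := mem_V4.1 (h4 z z_mem_V4)
    exact absurd h6 (not_mem_of_badW (lt_of_mem_W16 hw) (by decide) h3 he')
  · obtain ⟨e', he', h6⟩ := mem_V4.1 (h4 z1 z1_mem_V4)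
    exact absurd h6 (not_mem_of_badW (lt_of_mem_W16 hw) (by decide) h3 he')

theorem Pv_conj_Q1 {p q : LL} (hp : p ∈ Pv) (hq : q ∈ Q1) : p * q * p⁻¹ ∈ Q1 := by
  obtain ⟨u, hu, v, hv, rfl | rfl⟩ := Pv_cases hp
  · exact UT_conj_Q1 (UT.mul_mem hu hv) hq
  · have h := UT_conj_Q1 hu (na_conj_Q1 (UT_conj_Q1 hv hq))
    have e : u * na * v * q * (u * na * v)⁻¹ = u * (na * (v * q * v⁻¹) * na⁻¹) * u⁻¹ := by group
    rw [e]
    exact h

/-! ### the opposite unipotent group -/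

theorem w0_eq : w0 = nw (alt true 8) :=
  nw_eq_of_act w0L_lt (lt_of_mem_W16 (by decide)) (by decide +kernel)

theorem nw_mem_TT {w : List ℕ} (hw : w ∈ W16) : nw w ∈ TT := by
  have key : ∀ n : ℕ, ∀ b : Bool, nw (alt b n) ∈ TT := by
    intro n
    induction n with
    | zero => intro b; cases b <;> exact one_mem _
    | succ n ih =>
      intro b
      cases b
      · show nw ([1, 2, 1, 2] ++ alt true n) ∈ TT
        rw [nw_append]
        exact TT.mul_mem nb_mem_TT (ih true)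
      · show nw ([0, 3] ++ alt false n) ∈ TT
        rw [nw_append]
        exact TT.mul_mem na_mem_TT (ih false)
  unfold W16 at hw
  rw [List.mem_append, List.mem_map, List.mem_map] at hw
  rcases hw with ⟨k, -, rfl⟩ | ⟨k, -, rfl⟩
  · exact key _ _
  · exact key _ _

theorem w0_mem_TT : w0 ∈ TT := by
  rw [w0_eq]
  exact nw_mem_TT (by decide)

theorem w0_mem_HT : w0 ∈ HT := TT_le w0_mem_TT

theorem w0_mul_self : w0 * w0 = 1 := by
  have h : w0 * w0 = nw (w0L ++ w0L) := (nw_append _ _).symm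
  rw [h]
  exact nw_eq_of_act (w' := []) (by decide) (by decide) (by decide +kernel)

theorem w0_inv : w0⁻¹ = w0 := by rw [inv_eq_iff_mul_eq_one, w0_mul_self]

/-- the opposite unipotent subgroup -/
def VT : Subgroup LL := cj w0 UT

theorem mem_VT {g : LL} : g ∈ VT ↔ w0 * g * w0 ∈ UT := by
  unfold VT
  rw [mem_cj, w0_inv]

theorem VT_le_HT : VT ≤ HT := by
  intro g hg
  have h := HT.mul_mem (HT.mul_mem w0_mem_HT (mem_VT.1 hg).2) w0_mem_HT
  have e : w0 * (w0 * g * w0) * w0 = (w0 * w0) * g * (w0 * w0) := by group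
  rw [e, w0_mul_self, one_mul, mul_one] at h
  exact h

theorem w0_conj_U {u : LL} (hu : u ∈ U) : w0 * u * w0 ∈ V := by
  rw [U_eq_closure] at hu
  refine Subgroup.closure_induction (p := fun u _ => w0 * u * w0 ∈ V) ?_ ?_ ?_ ?_ hu
  · rintro _ ⟨r, h1, h2, rfl⟩
    have h := w0_conj h2
    rw [w0_inv] at h
    rw [h]
    exact x_mem_V (by omega)
  · rw [mul_one, w0_mul_self]
    exact V.one_mem
  · intro a b _ _ ha hb
    have e : w0 * (a * b) * w0 = w0 * a * w0 * ((w0 * w0)⁻¹ * (w0 * b * w0)) := by group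
    rw [e, w0_mul_self, inv_one, one_mul]
    exact V.mul_mem ha hb
  · intro a _ ha
    have e : w0 * a⁻¹ * w0 = (w0⁻¹ * a * w0⁻¹)⁻¹ := by group
    rw [e, w0_inv]
    exact V.inv_mem ha

theorem VT_le_V : VT ≤ V := by
  intro g hg
  have h := w0_conj_U (mem_VT.1 hg).1
  have e : w0 * (w0 * g * w0) * w0 = (w0 * w0) * g * (w0 * w0) := by group
  rw [e, w0_mul_self, one_mul, mul_one] at h
  exact h

theorem UT_inf_VT {g : LL} (h1 : g ∈ UT) (h2 : g ∈ VT) : g = 1 := by
  have h : g ∈ U ⊓ V := ⟨h1.1, VT_le_V h2⟩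
  rw [U_inf_V, Subgroup.mem_bot] at h
  exact h

theorem card_VT : Nat.card ↥VT = 2 ^ 12 := by
  unfold VT
  rw [card_cj, card_UT]

theorem w0_conj_ybm : w0 * ybm * w0 = yb := by
  have h := nw_conj_wd (w := w0L) w0L_lt (l := [20, 22, 19]) (by decide)
  have e : ([20, 22, 19].map (act w0L)) = [27, 25, 28] := by decide +kernel
  rw [e] at h
  have h2 : w0 * ybm * w0⁻¹ = yb := h
  rw [w0_inv] at h2
  exact h2

theorem w0_conj_yam : w0 * yam * w0 = ya := by
  have h := nw_conj_wd (w := w0L) w0L_lt (l := [14, 23]) (by decide)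
  have e : ([14, 23].map (act w0L)) = [33, 24] := by decide +kernel
  rw [e] at h
  have h2 : w0 * yam * w0⁻¹ = ya := h
  rw [w0_inv] at h2
  exact h2

theorem ybm_mem_VT : ybm ∈ VT := by rw [mem_VT, w0_conj_ybm]; exact yb_mem
theorem yam_mem_VT : yam ∈ VT := by rw [mem_VT, w0_conj_yam]; exact ya_mem

theorem ybm_sq : ybm * ybm = zbm := by
  rw [← nb_conj_yb, ← nb_conj_zb, ← yb_sq]
  group

theorem ybm_mem_Pz : ybm ∈ Pz := by
  rw [mem_Pz]
  refine ⟨ybm_mem_HT, ?_⟩
  rw [← nb_conj_yb]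
  have e : nb * yb * nb⁻¹ * z * (nb * yb * nb⁻¹)⁻¹ = nb * (yb * (nb⁻¹ * z * nb) * yb⁻¹) * nb⁻¹ := by group
  have h1 : nb⁻¹ * z * nb = z := by
    have h := nb_conj_z
    rw [nb_inv] at h ⊢
    exact h
  rw [e, h1, z_central yb_mem, nb_conj_z]

theorem yam_mem_Pv : yam ∈ Pv := by
  refine mem_Pv yam_mem_HT fun v hv => ?_
  rw [← na_conj_ya]
  have e : na * ya * na⁻¹ * v * (na * ya * na⁻¹)⁻¹ = na * (ya * (na * v * na⁻¹) * ya⁻¹) * na⁻¹ := by
    have e1 : na * ya * na⁻¹ * v * (na * ya * na⁻¹)⁻¹ = na * (ya * (na⁻¹ * v * na) * ya⁻¹) * na⁻¹ := by group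
    rw [e1, na_inv]
  rw [e]
  exact na_conj_V4 (UT_conj_V4 ya_mem (na_conj_V4 hv))

theorem zbm_ne : zbm ≠ 1 := by
  intro h
  have h1 := nb_conj_zb
  rw [h] at h1
  have h2 : zb = nb⁻¹ * (nb * zb * nb⁻¹) * nb := by group
  rw [h1, zb_eq] at h2
  apply ec_ne_one (e := 80) (by norm_num) (by norm_num)
  rw [h2]
  group

theorem yam_ne : yam ≠ 1 := by
  intro h
  have h1 := na_conj_ya
  rw [h] at h1
  have h2 : ya = na⁻¹ * (na * ya * na⁻¹) * na := by group
  rw [h1, ya_eq] at h2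
  apply ec_ne_one (e := 513) (by norm_num) (by norm_num)
  rw [h2]
  group

theorem orderOf_ybm : orderOf ybm = 4 := by
  have : Fact (Nat.Prime 2) := ⟨Nat.prime_two⟩
  have h : orderOf ybm = 2 ^ (1 + 1) := by
    apply orderOf_eq_prime_pow
    · rw [pow_one, pow_two, ybm_sq]
      exact zbm_ne
    · rw [← nb_conj_yb, conj_pow_aux]
      have e : yb ^ 2 ^ (1 + 1) = 1 := yb_pow4
      rw [e]
      group
  rw [h]
  norm_num

theorem yam_sq : yam * yam = 1 := by
  rw [← na_conj_ya]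
  have e : na * ya * na⁻¹ * (na * ya * na⁻¹) = na * (ya * ya) * na⁻¹ := by group
  rw [e, ya_sq]
  group

theorem orderOf_yam : orderOf yam = 2 := by
  have : Fact (Nat.Prime 2) := ⟨Nat.prime_two⟩
  exact orderOf_eq_prime (by rw [pow_two, yam_sq]) yam_ne

theorem eq_zpowers_of {G : Type*} [Group G] [Finite G] {Y : Subgroup G} {y : G} (hy : y ∈ Y) {n : ℕ}
    (ho : orderOf y = n) (hn : 0 < n) (hd : Nat.card ↥Y ∣ n) : Y = Subgroup.zpowers y := by
  symm
  apply Subgroup.eq_of_le_of_card_ge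
  · rw [Subgroup.zpowers_le]
    exact hy
  · rw [Nat.card_zpowers, ho]
    exact Nat.le_of_dvd hn hd

/-- the elements of `VT` commuting with `z` -/
theorem VT_cent_z {g : LL} (hg : g ∈ VT) (h : g * z * g⁻¹ = z) : g ∈ Subgroup.zpowers ybm := by
  have h1 : Nat.card ↥(VT ⊓ Pz : Subgroup LL) ∣ Q8.relIndex UT * UT.relIndex Pz :=
    card_dvd Q8_le UT_le_Pz inf_le_right (fun _ hp _ hq => Pz_conj_Q8 hp hq)
      fun y hy hy' => UT_inf_VT (Q8_le hy') hy.1
  have h2 : Nat.card ↥(VT ⊓ Pz : Subgroup LL) ∣ 2 ^ 12 := by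
    rw [← card_VT]
    exact Subgroup.card_dvd_of_le inf_le_left
  have h3 : Nat.Coprime (Nat.card ↥(VT ⊓ Pz : Subgroup LL)) (UT.relIndex Pz) :=
    Nat.Coprime.coprime_dvd_left h2 (Nat.Coprime.pow_left 12 (odd_relIndex UT_le_Pz inf_le_left))
  have h4 := (h3.dvd_of_dvd_mul_right h1).trans relIndex8
  have h5 := eq_zpowers_of (⟨ybm_mem_VT, ybm_mem_Pz⟩ : ybm ∈ VT ⊓ Pz) orderOf_ybm (by norm_num) h4
  rw [← h5]
  exact ⟨hg, mem_Pz.2 ⟨VT_le_HT hg, h⟩⟩

/-- the elements of `VT ⊓ TT` commuting with `z` -/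
theorem VT_TT_cent_z {g : LL} (hg : g ∈ VT) (hT : g ∈ TT) (h : g * z * g⁻¹ = z) : g = 1 ∨ g = zbm := by
  have hn : ybm ∉ TT := by
    intro h1
    rw [← nb_conj_yb, TT_conj_iff nb_mem_HT] at h1
    exact yb_not_mem_TT h1
  rw [← ybm_sq]
  refine zpowers_four ?_ hn ?_ (VT_cent_z hg h) hT
  · have h5 := pow_orderOf_eq_one ybm
    rw [orderOf_ybm, pow_succ, pow_succ, pow_two, mul_assoc] at h5
    exact h5
  · rw [ybm_sq]
    exact zbm_mem_TT

/-- the elements of `VT` normalising `V4` -/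
theorem VT_norm_V4 {g : LL} (hg : g ∈ VT) (h : ∀ v ∈ V4, g * v * g⁻¹ ∈ V4) : g = 1 ∨ g = yam := by
  have h1 : Nat.card ↥(VT ⊓ Pv : Subgroup LL) ∣ Q1.relIndex UT * UT.relIndex Pv :=
    card_dvd Q1_le UT_le_Pv inf_le_right (fun _ hp _ hq => Pv_conj_Q1 hp hq)
      fun y hy hy' => UT_inf_VT (Q1_le hy') hy.1
  have h2 : Nat.card ↥(VT ⊓ Pv : Subgroup LL) ∣ 2 ^ 12 := by
    rw [← card_VT]
    exact Subgroup.card_dvd_of_le inf_le_left
  have h3 : Nat.Coprime (Nat.card ↥(VT ⊓ Pv : Subgroup LL)) (UT.relIndex Pv) :=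
    Nat.Coprime.coprime_dvd_left h2 (Nat.Coprime.pow_left 12 (odd_relIndex UT_le_Pv inf_le_left))
  have h4 := (h3.dvd_of_dvd_mul_right h1).trans relIndex1
  have h5 := eq_zpowers_of (⟨yam_mem_VT, yam_mem_Pv⟩ : yam ∈ VT ⊓ Pv) orderOf_yam (by norm_num) h4
  have h6 : g ∈ Subgroup.zpowers yam := by
    rw [← h5]
    exact ⟨hg, mem_Pv (VT_le_HT hg) h⟩
  exact zpowers_two yam_sq h6

end Cfsg.Agent.TitsK
end

-- part: TitsK/Gen
section
/-!
Generators of the Tits group: `TT_eq : TT = closure {ya, yam, zb, zbm}`.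
-/

set_option autoImplicit false

namespace Cfsg.Agent.TitsK

open Cfsg.Lie Cfsg.Agent.ChevalleyStructure.TwF4.Tables
open Cfsg.Agent.FourTwo.Base hiding bar bar_lt
open Cfsg.Agent.FourTwo.BN Cfsg.Agent.FourTwo.Comm Cfsg.Agent.FourTwo.Classes
open Cfsg.Agent.FourTwo.UCode (mulU invU conjU lets colW colF force force_eq mem_lets wel_lets wel_mem)
open Cfsg.Agent.TitsK.Abs

/-- the subgroup generated by `ya`, `yam`, `zb`, `zbm` -/
def DD : Subgroup LL := Subgroup.closure {ya, yam, zb, zbm}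

theorem ya_mem_DD : ya ∈ DD := Subgroup.subset_closure (by simp)
theorem yam_mem_DD : yam ∈ DD := Subgroup.subset_closure (by simp)
theorem zb_mem_DD : zb ∈ DD := Subgroup.subset_closure (by simp)
theorem zbm_mem_DD : zbm ∈ DD := Subgroup.subset_closure (by simp)

theorem DD_le {H : Subgroup LL} (h1 : ya ∈ H) (h2 : yam ∈ H) (h3 : zb ∈ H) (h4 : zbm ∈ H) : DD ≤ H := by
  unfold DD
  rw [Subgroup.closure_le]
  intro g hg
  simp only [Set.mem_insert_iff, Set.mem_singleton_iff] at hg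
  rcases hg with rfl | rfl | rfl | rfl
  · exact h1
  · exact h2
  · exact h3
  · exact h4

theorem DD_le_TT : DD ≤ TT := DD_le ya_mem_TT yam_mem_TT zb_mem_TT zbm_mem_TT

theorem na_mem_DD : na ∈ DD := by
  rw [na_eq]
  exact DD.mul_mem (DD.mul_mem ya_mem_DD yam_mem_DD) ya_mem_DD

theorem nb_mem_DD : nb ∈ DD := by
  rw [nb_eq]
  exact DD.mul_mem (DD.mul_mem (DD.mul_mem (DD.mul_mem zb_mem_DD zbm_mem_DD) zb_mem_DD) zbm_mem_DD) zb_mem_DD

theorem DD_na {r e : ℕ} (h : ec r ∈ DD) (hp : posW [0, 3] r = true) (he : reflW [0, 3] r = e) : ec e ∈ DD := by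
  rw [← he, ← nw_conj_ec (by decide) hp]
  exact DD.mul_mem (DD.mul_mem na_mem_DD h) (DD.inv_mem na_mem_DD)

theorem DD_nb {r e : ℕ} (h : ec r ∈ DD) (hp : posW [1, 2, 1, 2] r = true) (he : reflW [1, 2, 1, 2] r = e) :
    ec e ∈ DD := by
  rw [← he, ← nw_conj_ec (by decide) hp]
  exact DD.mul_mem (DD.mul_mem nb_mem_DD h) (DD.inv_mem nb_mem_DD)

theorem dd513 : ec 513 ∈ DD := by rw [← ya_eq]; exact ya_mem_DD
theorem dd80 : ec 80 ∈ DD := by rw [← zb_eq]; exact zb_mem_DD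
theorem dd8448 : ec 8448 ∈ DD := DD_nb dd513 (by decide +kernel) (by decide +kernel)
theorem dd540672 : ec 540672 ∈ DD := DD_na dd8448 (by decide +kernel) (by decide +kernel)
theorem dd2129920 : ec 2129920 ∈ DD := DD_nb dd540672 (by decide +kernel) (by decide +kernel)

theorem dd_c1 : ec 10418592 ∈ DD := by
  have h : commU 513 80 = 10418592 := by decide +kernel
  rw [← h, ec_commU]
  exact DD.mul_mem (DD.mul_mem dd513 dd80) (DD.mul_mem (DD.inv_mem dd513) (DD.inv_mem dd80))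

theorem dd_c2 : ec 14927397 ∈ DD := DD_nb dd_c1 (by decide +kernel) (by decide +kernel)

theorem dd_c2b : ec 14930980 ∈ DD := by
  have h : mulU 513 14927397 = 14930980 := by decide +kernel
  rw [← h, ec_mulU]
  exact DD.mul_mem dd513 dd_c2

theorem yb_conj_ya : yb * ya * yb⁻¹ ∈ DD := by
  have h : mulU (mulU (mulU 513 14930980) 2129920) 10418592 = conjU 74 513 := by decide +kernel
  rw [yb_eq, ya_eq, ← ec_conjU, ← h, ec_mulU, ec_mulU, ec_mulU]
  exact DD.mul_mem (DD.mul_mem (DD.mul_mem dd513 dd_c2b) dd2129920) dd_c1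

theorem na_conj_yb : na * yb * na⁻¹ = ec 263172 := by
  have e : reflW [0, 3] 74 = 263172 := by decide +kernel
  rw [yb_eq, ← e]
  exact nw_conj_ec (w := [0, 3]) (by decide) (by decide +kernel)

theorem yb_conj_yam : yb * yam * yb⁻¹ = yam := by
  have h : conjU 263172 513 = 513 := by decide +kernel
  have h1 : ec 263172 * ya * (ec 263172)⁻¹ = ya := by rw [ya_eq, ← ec_conjU, h]
  rw [← na_conj_yb] at h1
  have h2 : na * (na * yb * na⁻¹ * ya * (na * yb * na⁻¹)⁻¹) * na⁻¹ = yam := by rw [h1, na_conj_ya]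
  have h3 : na * (na * yb * na⁻¹ * ya * (na * yb * na⁻¹)⁻¹) * na⁻¹ =
      (na * na) * yb * (na⁻¹ * ya * na) * yb⁻¹ * (na * na)⁻¹ := by group
  rw [h3, na_mul_self] at h2
  have h4 : na⁻¹ * ya * na = yam := by
    have h5 := na_conj_ya
    rw [na_inv] at h5 ⊢
    exact h5
  rw [h4, one_mul, inv_one, mul_one] at h2
  exact h2

theorem yb_norm : yb ∈ Subgroup.normalizer (DD : Set LL) := by
  apply mem_normalizer_of
  intro x hx
  have key : DD ≤ cj yb⁻¹ DD := by
    apply DD_le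
    · rw [mem_cj, inv_inv]
      exact yb_conj_ya
    · rw [mem_cj, inv_inv, yb_conj_yam]
      exact yam_mem_DD
    · rw [mem_cj, inv_inv, ← yb_sq]
      have e : yb * (yb * yb) * yb⁻¹ = yb * yb := by group
      rw [e, yb_sq]
      exact zb_mem_DD
    · rw [mem_cj, inv_inv, yb_conj_zbm, ← nb_eq]
      exact nb_mem_DD
  have h := key hx
  rw [mem_cj, inv_inv] at h
  exact h

theorem mem_norm_of_mem {G : Type*} [Group G] {H : Subgroup G} {g : G} (h : g ∈ H) :
    g ∈ Subgroup.normalizer (H : Set G) := Subgroup.le_normalizer h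

theorem ybm_norm : ybm ∈ Subgroup.normalizer (DD : Set LL) := by
  rw [← nb_conj_yb]
  exact Subgroup.mul_mem _ (Subgroup.mul_mem _ (mem_norm_of_mem nb_mem_DD) yb_norm)
    (Subgroup.inv_mem _ (mem_norm_of_mem nb_mem_DD))

theorem HT_le_norm : HT ≤ Subgroup.normalizer (DD : Set LL) :=
  HT_le (mem_norm_of_mem ya_mem_DD) (mem_norm_of_mem yam_mem_DD) yb_norm ybm_norm

theorem HT_le_mulSub : HT ≤ mulSub DD yb yb_norm := by
  have hD : DD ≤ mulSub DD yb yb_norm := fun g hg => ⟨0, g, hg, by group⟩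
  have hy : yb ∈ mulSub DD yb yb_norm := ⟨1, 1, DD.one_mem, by group⟩
  refine HT_le (hD ya_mem_DD) (hD yam_mem_DD) hy ?_
  rw [← nb_conj_yb]
  exact Subgroup.mul_mem _ (Subgroup.mul_mem _ (hD nb_mem_DD) hy) (Subgroup.inv_mem _ (hD nb_mem_DD))

/-- **generators of the Tits group** -/
theorem TT_eq : TT = DD := by
  apply le_antisymm _ DD_le_TT
  have h1 : DD.relIndex HT ∣ 2 := relIndex_dvd_of_mulSub yb_norm yb_mem_HT
    (fun b hb q hq => (Subgroup.mem_normalizer_iff.1 (HT_le_norm hb) q).1 hq)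
    (by rw [pow_two, yb_sq]; exact zb_mem_DD) HT_le_mulSub
  rw [← Subgroup.relIndex_mul_relIndex DD TT HT DD_le_TT TT_le, relIndex_TT] at h1
  have h2 : DD.relIndex TT * 2 ∣ 1 * 2 := by
    rw [one_mul]
    exact h1
  have h3 := Nat.dvd_one.1 (Nat.dvd_of_mul_dvd_mul_right (by norm_num) h2)
  exact Subgroup.relIndex_eq_one.1 h3

theorem TT_le_of {H : Subgroup LL} (h1 : ya ∈ H) (h2 : yam ∈ H) (h3 : zb ∈ H) (h4 : zbm ∈ H) : TT ≤ H := by
  rw [TT_eq]
  exact DD_le h1 h2 h3 h4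

end Cfsg.Agent.TitsK
end

-- part: TitsK/Inst
section
/-!
The data `TData` for `²F₄(2)` and the Tits group inside `F₄(2)`: `tdata`.
-/

set_option autoImplicit false

namespace Cfsg.Agent.TitsK

open Cfsg.Lie Cfsg.Agent.ChevalleyStructure.TwF4.Tables
open Cfsg.Agent.FourTwo.Base hiding bar bar_lt
open Cfsg.Agent.FourTwo.BN Cfsg.Agent.FourTwo.Comm Cfsg.Agent.FourTwo.Classes
open Cfsg.Agent.FourTwo.UCode (mulU invU conjU lets colW colF force force_eq mem_lets wel_lets wel_mem)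
open Cfsg.Agent.TitsK.Abs

theorem odd_UT : ¬ 2 ∣ UT.relIndex HT := by
  rw [relIndex_UT]
  norm_num

theorem card_aux {G : Type*} [Group G] [Finite G] {U T H : Subgroup G} (hU : U ≤ H) (hT : T.relIndex H = 2)
    (hc : Nat.card ↥U = 2 ^ 12) (hT2 : Nat.card ↥T = 2 ^ 11 * 3 ^ 3 * 5 ^ 2 * 13) : ¬ 2 ∣ (U ⊓ T).relIndex T := by
  have h1 : T.relIndex U ∣ 2 := by
    rw [← hT]
    have : (T.subgroupOf H).Normal := Subgroup.normal_of_index_eq_two hT
    have h2 := Subgroup.relIndex_dvd_index_of_normal (T.subgroupOf H) (U.subgroupOf H)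
    have h3 : (T.subgroupOf H).relIndex (U.subgroupOf H) = T.relIndex U :=
      Subgroup.relIndex_subgroupOf hU
    rw [h3] at h2
    exact h2
  have h4 : (U ⊓ T).relIndex U = T.relIndex U := Subgroup.inf_relIndex_left U T
  have h5 : Nat.card ↥(U ⊓ T : Subgroup G) * (U ⊓ T).relIndex U = 2 ^ 12 := by
    rw [← hc, Subgroup.relIndex, ← ((U ⊓ T).subgroupOf U).card_mul_index,
      Nat.card_congr (Subgroup.subgroupOfEquivOfLe (inf_le_left : U ⊓ T ≤ U)).toEquiv]
  have h6 : Nat.card ↥(U ⊓ T : Subgroup G) * (U ⊓ T).relIndex T = 2 ^ 11 * 3 ^ 3 * 5 ^ 2 * 13 := by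
    rw [← hT2, Subgroup.relIndex, ← ((U ⊓ T).subgroupOf T).card_mul_index,
      Nat.card_congr (Subgroup.subgroupOfEquivOfLe (inf_le_right : U ⊓ T ≤ T)).toEquiv]
  intro h
  obtain ⟨k, hk⟩ := h
  rw [h4] at h5
  rw [hk] at h6
  rcases (Nat.dvd_prime Nat.prime_two).1 h1 with h7 | h7
  · rw [h7] at h5
    have h8 : Nat.card ↥(U ⊓ T : Subgroup G) = 4096 := by omega
    rw [h8] at h6
    omega
  · rw [h7] at h5
    have h8 : Nat.card ↥(U ⊓ T : Subgroup G) = 2048 := by omega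
    rw [h8] at h6
    omega

theorem odd_ST : ¬ 2 ∣ (UT ⊓ TT).relIndex TT := card_aux UT_le_HT relIndex_TT card_UT card_TT

theorem V4_cases {v : LL} (hv : v ∈ V4) (h1 : v ≠ 1) : ∃ t ∈ TT, t * v * t⁻¹ = z := by
  rcases mem_V4_iff.1 hv with rfl | rfl | rfl | rfl
  · exact absurd rfl h1
  · exact LA_spec 9437184 (memB_spec (by decide +kernel))
  · exact LA_spec 4259840 (memB_spec (by decide +kernel))
  · rw [z_mul_z1]
    exact LA_spec 13697024 (memB_spec (by decide +kernel))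

theorem z_inv : z⁻¹ = z := by rw [inv_eq_iff_mul_eq_one, z_sq]
theorem z1_inv : z1⁻¹ = z1 := by rw [inv_eq_iff_mul_eq_one, z1_sq]

theorem V4_comm {v : LL} (hv : v ∈ V4) {c : LL} (hc : c ∈ UT) :
    v * c * (v⁻¹ * c⁻¹) = 1 ∨ v * c * (v⁻¹ * c⁻¹) = z := by
  have hzc := z_central hc
  have hzz : z * z1 = z1 * z := by rw [z_mul_z1, z1_mul_z]
  have e : v * c * (v⁻¹ * c⁻¹) = v * (c * v * c⁻¹)⁻¹ := by group
  rw [e]
  rcases mem_V4_iff.1 hv with rfl | rfl | rfl | rfl
  · left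
    group
  · left
    rw [hzc, mul_inv_cancel]
  · rcases conj_z1 hc with h | h
    · left
      rw [h, mul_inv_cancel]
    · right
      rw [h, mul_inv_rev, z_inv, mul_inv_cancel_left]
  · have e2 : c * (z * z1) * c⁻¹ = (c * z * c⁻¹) * (c * z1 * c⁻¹) := by group
    rw [e2, hzc]
    rcases conj_z1 hc with h | h
    · left
      rw [h, mul_inv_cancel]
    · right
      rw [h, ← mul_assoc z z z1, z_sq, one_mul, z1_inv, mul_assoc, z1_sq, mul_one]

theorem d_comm_V4 {v : LL} (hv : v ∈ V4) : v * d = d * v := by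
  obtain ⟨e, he, rfl⟩ := mem_V4.1 hv
  have h : (L4.all fun e => Nat.beq (mulU e 2129920) (mulU 2129920 e)) = true := by decide +kernel
  rw [List.all_eq_true] at h
  unfold d
  rw [← ec_mulU, ← ec_mulU, Nat.eq_of_beq_eq_true (h e he)]

theorem cent_d_V4 {g : LL} (hg : g ∈ HT) (h : g * d * g⁻¹ = d) {v : LL} (hv : v ∈ V4) : g * v * g⁻¹ ∈ V4 := by
  obtain ⟨u, hu, u', hu', rfl | rfl⟩ := cent_d_cases hg h
  · exact UT_conj_V4 (UT.mul_mem hu hu') hv
  · have h1 := UT_conj_V4 hu (na_conj_V4 (UT_conj_V4 hu' hv))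
    have e : u * na * u' * v * (u * na * u')⁻¹ = u * (na * (u' * v * u'⁻¹) * na⁻¹) * u⁻¹ := by group
    rw [e]
    exact h1

theorem z_mem_Q8 : z ∈ Q8 := ⟨z_mem, ec_mem_RG (by decide +kernel)⟩
theorem z1_mem_Q8 : z1 ∈ Q8 := ⟨z1_mem, ec_mem_RG (by decide +kernel)⟩

/-- codes of the generators of types `a`, `z` -/
def AZ : List ℕ := [513, 80, 8448, 266240, 540672, 2129920, 4259840, 9437184]

theorem AZ_mem : ∀ e ∈ AZ, ec e ∈ UT ⊓ TT := by
  intro e he
  simp only [AZ, List.mem_cons, List.not_mem_nil, or_false] at he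
  rcases he with rfl | rfl | rfl | rfl | rfl | rfl | rfl | rfl
  · exact ⟨ec513, t513⟩
  · exact ⟨ec80, t80⟩
  · exact ⟨ec8448, t8448⟩
  · exact ⟨ec266240, t266240⟩
  · exact ⟨ec540672, t540672⟩
  · exact ⟨ec2129920, t2129920⟩
  · exact ⟨ec4259840, t4259840⟩
  · exact ⟨ec9437184, t9437184⟩

theorem W_big : (W16.all fun w => w == alt true 8 || AZ.any fun c => posW w c && AZ.contains (reflW w c)) = true := by
  decide +kernel

theorem AZ_ne : ∀ e ∈ AZ, ec e ≠ 1 := by
  intro e he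
  have h : ∀ e ∈ AZ, e < 2 ^ 24 ∧ e ≠ 0 := by decide
  exact ec_ne_one (h e he).1 (h e he).2

theorem big_cell {g : LL} (hg : g ∈ HT) (h : ∀ s ∈ UT ⊓ TT, g * s * g⁻¹ ∈ UT ⊓ TT → s = 1) :
    ∃ u ∈ UT, ∃ v ∈ UT, g = u * w0 * v := by
  obtain ⟨u, hu, w, hw, v, hv, rfl⟩ := bruhat_HT hg
  refine ⟨u, hu, v, hv, ?_⟩
  have h1 := W_big
  rw [List.all_eq_true] at h1
  have h2 := h1 w hw
  rw [Bool.or_eq_true, beq_iff_eq] at h2
  rcases h2 with h2 | h2
  · rw [h2, w0_eq]
  · exfalso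
    rw [List.any_eq_true] at h2
    obtain ⟨c, hc, h3⟩ := h2
    rw [Bool.and_eq_true, List.contains_iff_mem] at h3
    have hconj : ∀ x ∈ UT, ∀ s ∈ UT ⊓ TT, x * s * x⁻¹ ∈ UT ⊓ TT := fun x hx s hs =>
      ⟨UT.mul_mem (UT.mul_mem hx hs.1) (UT.inv_mem hx), TT_conj hx.2 hs.2⟩
    have h4 := hconj v⁻¹ (UT.inv_mem hv) _ (AZ_mem c hc)
    rw [inv_inv] at h4
    have h5 : u * nw w * v * (v⁻¹ * ec c * v) * (u * nw w * v)⁻¹ = u * (nw w * ec c * (nw w)⁻¹) * u⁻¹ := by group
    have h6 := h _ h4 (by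
      rw [h5, nw_conj_ec (lt_of_mem_W16 hw) h3.1]
      exact hconj u hu _ (AZ_mem _ h3.2))
    apply AZ_ne c hc
    have e : ec c = v * (v⁻¹ * ec c * v) * v⁻¹ := by group
    rw [e, h6]
    group

theorem w0_conj_zbm : w0 * zbm * w0 = zb := by
  have h := nw_conj_wd (w := w0L) w0L_lt (l := [19, 17]) (by decide)
  have e : ([19, 17].map (act w0L)) = [28, 30] := by decide +kernel
  rw [e] at h
  have h2 : w0 * zbm * w0⁻¹ = zb := h
  rw [w0_inv] at h2
  exact h2

theorem zbm_z : zbm * z * zbm⁻¹ = z := by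
  rw [← ybm_sq]
  have h := (mem_Pz.1 (Pz.mul_mem ybm_mem_Pz ybm_mem_Pz)).2
  exact h

theorem z_not_central : na * z * na⁻¹ ≠ z := by
  rw [na_conj_z]
  intro h
  exact absurd (ec_inj (by norm_num) (by norm_num) h) (by norm_num)

/-- **the data of the Tits group** -/
def tdata : TData LL where
  H := HT
  T := TT
  U := UT
  V := V4
  E := Q8 ⊓ TT
  w0 := w0
  z := z
  z1 := z1
  d := d
  ya := ya
  yam := yam
  zb := zb
  zbm := zbm
  T_le := TT_le
  relIndex_T := relIndex_TT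
  T_conj := fun _ hh _ ht => TT_conj hh ht
  U_le := UT_le_HT
  isPGroup_U := isPGroup_UT
  odd_U := odd_UT
  odd_S := odd_ST
  z_mem_V := z_mem_V4
  z1_mem_V := z1_mem_V4
  V_cases := fun _ hv h1 => V4_cases hv h1
  V_le_U := V4_le_UT
  V_le_T := V4_le_TT
  z_sq := z_sq
  z_ne := z_ne
  V_comm := fun _ hv _ hc => V4_comm hv hc
  z_central := fun _ hu => z_central hu
  cent_V := fun _ hg h h1 => cent_V_le hg h h1
  d_mem_U := d_mem
  d_mem_T := d_mem_TT
  d_comm := fun _ hv => d_comm_V4 hv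
  cent_d := fun _ hg h _ hv => cent_d_V4 hg h hv
  E_le_U := inf_le_left.trans Q8_le
  E_le_T := inf_le_right
  z_mem_E := ⟨z_mem_Q8, z_mem_TT⟩
  z1_mem_E := ⟨z1_mem_Q8, z1_mem_TT⟩
  cent_z := fun _ hg h _ he => ⟨Pz_conj_Q8 (mem_Pz.2 ⟨hg, h⟩) he.1, TT_conj hg he.2⟩
  cent_S := fun _ hu h => cent_UT hu fun c hc => h _ ⟨Sg_UT c hc, Sg_TT c hc⟩
  zee_two := fun _ hu h => mem_V4_iff.2 (zee_two hu.1 hu.2 fun c hc => h _ ⟨Sg_UT c hc, Sg_TT c hc⟩)
  z_not_central := ⟨na, na_mem_TT, z_not_central⟩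
  no_outer := fun _ hu h => no_outer_invol hu h
  invol := fun _ hu h h1 => invol_ST hu.1 hu.2 h h1
  kill := fun _ hu h1 h2 hu1 hud _ hd huN hN => kill_spec hu.1 hu.2 h1 h2 hu1 hud hd huN hN
  w0_mem := w0_mem_TT
  w0_sq := w0_mul_self
  opp := fun _ hg h => UT_inf_VT hg (mem_VT.2 h)
  big := fun _ hg h => big_cell hg h
  cent_z_opp := fun _ hg h hz => VT_TT_cent_z (mem_VT.2 h) hg hz
  norm_V_opp := fun _ _ h hv => VT_norm_V4 (mem_VT.2 h) hv
  zbm_mem := zbm_mem_TT
  zbm_opp := by rw [w0_conj_zbm, zb_eq]; exact ec80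
  zbm_z := zbm_z
  zbm_ne := zbm_ne
  yam_mem := yam_mem_TT
  yam_opp := by rw [w0_conj_yam]; exact ya_mem
  yam_V := fun _ hv => Pv_conj_V4 yam_mem_Pv hv
  yam_ne := yam_ne
  w0_zbm := w0_conj_zbm
  w0_yam := w0_conj_yam
  gen := fun _ h1 h2 h3 h4 => TT_le_of h1 h2 h3 h4

end Cfsg.Agent.TitsK
end

private theorem dce_cd992854d2e6 : _root_.True := by
  try have : _root_.True := by simp only [_root_.Cfsg.Agent.TitsK.L4.eq_1]
  try have : _root_.True := by simp only [_root_.Cfsg.Agent.TitsK.AZ.eq_1]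
  exact _root_.True.intro
end

-- part: TitsK/AutT
section
prune_inst 0x20100400202210000018001020000020100000020040000000a0050201410041200500013a60051011108860000a8060011000094038000020008a0000040000040062c00240100021000040c801180c00000000000000000000000000000000000000000
set_option linter.all false
open scoped Cfsg.Agent.FastGrp

/-!
Every injective endomorphism of `T` is conjugation by an element of `H` (`TData.exists_conj`), for the abstract data
`TData`.
-/

set_option autoImplicit false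

namespace Cfsg.Agent.TitsK

open Cfsg.Agent.TitsK.Abs

namespace TData

variable {G : Type*} [Group G] (D : TData G)

/-- the Sylow 2-subgroup of `T` -/
def S : Subgroup G := D.U ⊓ D.T

theorem mem_S {g : G} : g ∈ D.S ↔ g ∈ D.U ∧ g ∈ D.T := Iff.rfl

theorem S_le_T : D.S ≤ D.T := inf_le_right
theorem S_le_U : D.S ≤ D.U := inf_le_left

theorem V_le_S : D.V ≤ D.S := le_inf D.V_le_U D.V_le_T

theorem isPGroup_S : IsPGroup 2 ↥D.S := D.isPGroup_U.to_le D.S_le_U

theorem U_conj_S {u s : G} (hu : u ∈ D.U) (hs : s ∈ D.S) : u * s * u⁻¹ ∈ D.S :=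
  ⟨D.U.mul_mem (D.U.mul_mem hu hs.1) (D.U.inv_mem hu), D.T_conj u (D.U_le hu) s hs.2⟩

theorem z_mem_S : D.z ∈ D.S := D.V_le_S D.z_mem_V

theorem w0_inv : D.w0⁻¹ = D.w0 := by rw [inv_eq_iff_mul_eq_one, D.w0_sq]

/-- conjugation by `w0` -/
theorem w0_w0 (g : G) : D.w0 * (D.w0 * g * D.w0) * D.w0 = g := by
  have e : D.w0 * (D.w0 * g * D.w0) * D.w0 = (D.w0 * D.w0) * g * (D.w0 * D.w0) := by group
  rw [e, D.w0_sq, one_mul, mul_one]

theorem w0_mul (a b : G) : D.w0 * (a * b) * D.w0 = (D.w0 * a * D.w0) * (D.w0 * b * D.w0) := by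
  have e : (D.w0 * a * D.w0) * (D.w0 * b * D.w0) = D.w0 * a * (D.w0 * D.w0) * b * D.w0 := by group
  rw [e, D.w0_sq, mul_one, mul_assoc D.w0 a b]

theorem w0_mem_T {g : G} (hg : g ∈ D.T) : D.w0 * g * D.w0 ∈ D.T :=
  D.T.mul_mem (D.T.mul_mem D.w0_mem hg) D.w0_mem

/-- an injective homomorphism `T → G` with values in `T` -/
structure Inj (f : ↥D.T →* G) : Prop where
  inj : Function.Injective f
  mem : ∀ t, f t ∈ D.T

variable {D}

/-- conjugate of a homomorphism -/
def conjHom {G : Type*} [Group G] {T : Subgroup G} (h : G) (f : ↥T →* G) : ↥T →* G where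
  toFun t := h * f t * h⁻¹
  map_one' := by simp
  map_mul' a b := by
    rw [map_mul]
    group

theorem conjHom_apply {G : Type*} [Group G] {T : Subgroup G} (h : G) (f : ↥T →* G) (t : ↥T) :
    conjHom h f t = h * f t * h⁻¹ := rfl

theorem Inj.conj {f : ↥D.T →* G} (hf : D.Inj f) {h : G} (hh : h ∈ D.H) : D.Inj (conjHom h f) where
  inj := by
    intro a b hab
    apply hf.inj
    rw [conjHom_apply, conjHom_apply] at hab
    exact mul_left_cancel (mul_right_cancel hab)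
  mem t := D.T_conj h hh _ (hf.mem t)

/-- the image of a subgroup is a 2-group -/
theorem isPGroup_map {f : ↥D.T →* G} {A : Subgroup G} (hA : IsPGroup 2 ↥A) :
    IsPGroup 2 ↥((A.subgroupOf D.T).map f) := by
  have h1 : IsPGroup 2 ↥(A.subgroupOf D.T) := hA.comap_subtype
  exact h1.map f

theorem card_map {f : ↥D.T →* G} (hf : D.Inj f) {A : Subgroup G} (hA : A ≤ D.T) :
    Nat.card ↥((A.subgroupOf D.T).map f) = Nat.card ↥A := by
  rw [Nat.card_congr ((A.subgroupOf D.T).equivMapOfInjective f hf.inj).symm.toEquiv]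
  exact Nat.card_congr (Subgroup.subgroupOfEquivOfLe hA).toEquiv

theorem map_le {f : ↥D.T →* G} (hf : D.Inj f) (A : Subgroup G) : (A.subgroupOf D.T).map f ≤ D.T := by
  rintro _ ⟨a, -, rfl⟩
  exact hf.mem a

/-- the image of a conjugate of `S` is a conjugate of `S` -/
theorem exists_conj_map [Finite G] {f : ↥D.T →* G} (hf : D.Inj f) {A : Subgroup G} (hA : A ≤ D.T)
    (hc : Nat.card ↥A = Nat.card ↥D.S) (hp : IsPGroup 2 ↥A) :
    ∃ g ∈ D.T, (∀ (a : G) (ha : a ∈ A), g * f ⟨a, hA ha⟩ * g⁻¹ ∈ D.S) ∧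
      ∀ s ∈ D.S, ∃ (a : G) (ha : a ∈ A), s = g * f ⟨a, hA ha⟩ * g⁻¹ := by
  obtain ⟨g, hg, h⟩ := exists_conj_sub D.S_le_T D.isPGroup_S D.odd_S (map_le hf A) (isPGroup_map (f := f) hp)
  have h1 : ∀ (a : G) (ha : a ∈ A), g * f ⟨a, hA ha⟩ * g⁻¹ ∈ D.S := fun a ha =>
    h _ ⟨⟨a, hA ha⟩, ha, rfl⟩
  refine ⟨g, hg, h1, ?_⟩
  have h2 : cj g ((A.subgroupOf D.T).map f) = D.S := by
    apply Subgroup.eq_of_le_of_card_ge
    · intro x hx
      rw [mem_cj] at hx
      have h3 := h _ hx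
      have e : g * (g⁻¹ * x * g) * g⁻¹ = x := by group
      rw [e] at h3
      exact h3
    · rw [card_cj, card_map hf hA, hc]
  intro s hs
  rw [← h2, mem_cj] at hs
  obtain ⟨a, ha, he⟩ := hs
  refine ⟨a, ha, ?_⟩
  have e : (⟨(a : G), hA ha⟩ : ↥D.T) = a := rfl
  rw [e, he]
  group

/-- `f` preserves `S` and the opposite of `S` -/
structure Std (f : ↥D.T →* G) : Prop where
  inj : D.Inj f
  pos : ∀ (a : G) (ha : a ∈ D.S), f ⟨a, D.S_le_T ha⟩ ∈ D.S
  neg : ∀ (a : G) (ha : a ∈ D.S), D.w0 * f ⟨D.w0 * a * D.w0, D.w0_mem_T ha.2⟩ * D.w0 ∈ D.S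

theorem Std.pos_surj [Finite G] {f : ↥D.T →* G} (hf : Std f) {s : G} (hs : s ∈ D.S) :
    ∃ (a : G) (ha : a ∈ D.S), s = f ⟨a, D.S_le_T ha⟩ := by
  have hinj : Function.Injective (fun a : ↥D.S => (⟨f ⟨a, D.S_le_T a.2⟩, hf.pos a a.2⟩ : ↥D.S)) := by
    intro a b hab
    have h1 := hf.inj.inj (congrArg Subtype.val hab)
    have h2 := congrArg (fun t : ↥D.T => (t : G)) h1
    exact Subtype.ext h2
  obtain ⟨a, ha⟩ := Finite.surjective_of_injective hinj ⟨s, hs⟩
  exact ⟨a, a.2, (congrArg Subtype.val ha).symm⟩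

/-- **Step 1, 2**: up to conjugation, `f` preserves `S` and its opposite -/
theorem exists_std [Finite G] {f : ↥D.T →* G} (hf : D.Inj f) : ∃ h ∈ D.H, Std (conjHom h f) := by
  obtain ⟨g, hg, h1, h2⟩ := exists_conj_map hf D.S_le_T rfl D.isPGroup_S
  set f1 := conjHom g f with hf1
  have i1 : D.Inj f1 := hf.conj (D.T_le hg)
  -- the opposite
  set A := cj D.w0 D.S with hA
  have hAT : A ≤ D.T := by
    intro x hx
    rw [hA, mem_cj, D.w0_inv] at hx
    have h3 := D.w0_mem_T hx.2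
    rw [D.w0_w0] at h3
    exact h3
  obtain ⟨k, hk, h3, h4⟩ := exists_conj_map i1 hAT (card_cj _ _) (by
    have : Fact (Nat.Prime 2) := ⟨Nat.prime_two⟩
    obtain ⟨n, hn⟩ := IsPGroup.iff_card.1 D.isPGroup_S
    exact IsPGroup.of_card (by rw [hA, card_cj, hn]))
  -- `k⁻¹ S k ⊓ S = 1`
  have h5 : ∀ s ∈ D.U ⊓ D.T, k⁻¹ * s * (k⁻¹)⁻¹ ∈ D.U ⊓ D.T → s = 1 := by
    intro s hs hs'
    obtain ⟨a, ha, e1⟩ := h4 s hs
    obtain ⟨b, hb, e2⟩ : ∃ (b : G) (hb : b ∈ D.S), k⁻¹ * s * (k⁻¹)⁻¹ = f1 ⟨b, D.S_le_T hb⟩ := h2 _ hs'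
    have e3 : f1 ⟨a, hAT ha⟩ = f1 ⟨b, D.S_le_T hb⟩ := by
      rw [← e2, e1]
      group
    have e4 : a = b := congrArg (fun t : ↥D.T => (t : G)) (i1.inj e3)
    subst e4
    have e5 : a = 1 := by
      refine D.opp a hb.1 ?_
      rw [hA, mem_cj, D.w0_inv] at ha
      exact ha.1
    subst e5
    rw [e1]
    have e6 : (⟨1, hAT ha⟩ : ↥D.T) = 1 := rfl
    rw [e6, map_one]
    group
  obtain ⟨u, hu, v, hv, hkuv⟩ := D.big k⁻¹ (D.H.inv_mem (D.T_le hk)) h5
  -- conjugation by `u⁻¹`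
  have huH := D.U_le hu
  refine ⟨u⁻¹ * g, D.H.mul_mem (D.H.inv_mem huH) (D.T_le hg), ?_⟩
  have ef : ∀ t, conjHom (u⁻¹ * g) f t = u⁻¹ * f1 t * u := by
    intro t
    rw [hf1, conjHom_apply, conjHom_apply]
    group
  refine ⟨hf.conj (D.H.mul_mem (D.H.inv_mem huH) (D.T_le hg)), ?_, ?_⟩
  · intro a ha
    rw [ef]
    have h6 := D.U_conj_S (D.U.inv_mem hu) (h1 a ha)
    rw [inv_inv] at h6
    exact h6
  · intro a ha
    rw [ef]
    have ha' : D.w0 * a * D.w0 ∈ A := by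
      rw [hA, mem_cj, D.w0_inv, D.w0_w0]
      exact ha
    have h6 := h3 _ ha'
    -- `f1 (w0 a w0) = k⁻¹ s k = u w0 (v s v⁻¹) w0 u⁻¹`
    have h7 := D.U_conj_S hv h6
    have e : D.w0 * (u⁻¹ * f1 ⟨D.w0 * a * D.w0, D.w0_mem_T ha.2⟩ * u) * D.w0 =
        v * (k * f1 ⟨D.w0 * a * D.w0, hAT ha'⟩ * k⁻¹) * v⁻¹ := by
      have e1 : k = v⁻¹ * D.w0 * u⁻¹ := by
        have e2 : k = (k⁻¹)⁻¹ := (inv_inv k).symm
        rw [e2, hkuv, mul_inv_rev, mul_inv_rev, D.w0_inv, mul_assoc]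
      have e3 : (⟨D.w0 * a * D.w0, D.w0_mem_T ha.2⟩ : ↥D.T) = ⟨D.w0 * a * D.w0, hAT ha'⟩ := rfl
      rw [e1, e3]
      have e4 : v * (v⁻¹ * D.w0 * u⁻¹ * f1 ⟨D.w0 * a * D.w0, hAT ha'⟩ * (v⁻¹ * D.w0 * u⁻¹)⁻¹) * v⁻¹ =
          D.w0 * (u⁻¹ * f1 ⟨D.w0 * a * D.w0, hAT ha'⟩ * u) * D.w0⁻¹ := by group
      rw [e4, D.w0_inv]
    rw [e]
    exact h7

/-- conjugation by `w0` of a standard homomorphism -/
def opHom (D : TData G) (f : ↥D.T →* G) : ↥D.T →* G where
  toFun t := D.w0 * f ⟨D.w0 * t * D.w0, D.w0_mem_T t.2⟩ * D.w0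
  map_one' := by
    have e : (⟨D.w0 * ((1 : ↥D.T) : G) * D.w0, D.w0_mem_T (1 : ↥D.T).2⟩ : ↥D.T) = 1 := by
      apply Subtype.ext
      show D.w0 * 1 * D.w0 = 1
      rw [mul_one, D.w0_sq]
    rw [e, map_one, mul_one, D.w0_sq]
  map_mul' a b := by
    have e : (⟨D.w0 * ((a * b : ↥D.T) : G) * D.w0, D.w0_mem_T (a * b).2⟩ : ↥D.T) =
        ⟨D.w0 * a * D.w0, D.w0_mem_T a.2⟩ * ⟨D.w0 * b * D.w0, D.w0_mem_T b.2⟩ := by
      apply Subtype.ext
      exact D.w0_mul a b
    rw [e, map_mul, D.w0_mul]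

theorem opHom_apply (f : ↥D.T →* G) (t : ↥D.T) :
    opHom D f t = D.w0 * f ⟨D.w0 * t * D.w0, D.w0_mem_T t.2⟩ * D.w0 := rfl

theorem Std.op {f : ↥D.T →* G} (hf : Std f) : Std (opHom D f) where
  inj := {
    inj := by
      intro a b hab
      rw [opHom_apply, opHom_apply] at hab
      have h1 := hf.inj.inj (mul_left_cancel (mul_right_cancel hab))
      have h2 : D.w0 * (a : G) * D.w0 = D.w0 * b * D.w0 := congrArg (fun t : ↥D.T => (t : G)) h1
      exact Subtype.ext (mul_left_cancel (mul_right_cancel h2))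
    mem := fun t => D.w0_mem_T (hf.inj.mem _) }
  pos a ha := hf.neg a ha
  neg a ha := by
    rw [opHom_apply]
    dsimp only
    rw [D.w0_w0]
    have e : (⟨D.w0 * (D.w0 * a * D.w0) * D.w0, D.w0_mem_T (D.w0_mem_T ha.2)⟩ : ↥D.T) = ⟨a, ha.2⟩ :=
      Subtype.ext (D.w0_w0 a)
    rw [e]
    exact hf.pos a ha

theorem Std.z [Finite G] {f : ↥D.T →* G} (hf : Std f) : f ⟨D.z, D.V_le_T D.z_mem_V⟩ = D.z := by
  have h1 := hf.pos D.z D.z_mem_S
  rcases D.cent_S _ h1.1 (fun c hc => by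
    obtain ⟨a, ha, rfl⟩ := hf.pos_surj hc
    rw [← map_mul, ← map_mul]
    congr 1
    apply Subtype.ext
    have h2 := D.z_central a ha.1
    show D.z * a = a * D.z
    rw [mul_inv_eq_iff_eq_mul] at h2
    exact h2.symm) with h | h
  · exfalso
    apply D.z_ne
    have h3 : f ⟨D.z, D.V_le_T D.z_mem_V⟩ = f 1 := by rw [map_one]; exact h
    exact congrArg (fun t : ↥D.T => (t : G)) (hf.inj.inj h3)
  · exact h

theorem Std.V [Finite G] {f : ↥D.T →* G} (hf : Std f) {v : G} (hv : v ∈ D.V) : f ⟨v, D.V_le_T hv⟩ ∈ D.V := by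
  apply D.zee_two _ (hf.pos v (D.V_le_S hv))
  intro c hc
  obtain ⟨a, ha, rfl⟩ := hf.pos_surj hc
  rw [← map_mul, ← map_inv, ← map_inv, ← map_mul, ← map_mul]
  have e : (⟨v, D.V_le_T hv⟩ * ⟨a, D.S_le_T ha⟩ * (⟨v, D.V_le_T hv⟩⁻¹ * ⟨a, D.S_le_T ha⟩⁻¹) : ↥D.T) =
      ⟨v * a * (v⁻¹ * a⁻¹), D.T.mul_mem (D.T.mul_mem (D.V_le_T hv) ha.2)
        (D.T.mul_mem (D.T.inv_mem (D.V_le_T hv)) (D.T.inv_mem ha.2))⟩ := rfl
  rw [e]
  rcases D.V_comm v hv a ha.1 with h | h
  · left
    have e2 : (⟨v * a * (v⁻¹ * a⁻¹), D.T.mul_mem (D.T.mul_mem (D.V_le_T hv) ha.2)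
        (D.T.mul_mem (D.T.inv_mem (D.V_le_T hv)) (D.T.inv_mem ha.2))⟩ : ↥D.T) = 1 := Subtype.ext h
    rw [e2, map_one]
  · right
    have e2 : (⟨v * a * (v⁻¹ * a⁻¹), D.T.mul_mem (D.T.mul_mem (D.V_le_T hv) ha.2)
        (D.T.mul_mem (D.T.inv_mem (D.V_le_T hv)) (D.T.inv_mem ha.2))⟩ : ↥D.T) = ⟨D.z, D.V_le_T D.z_mem_V⟩ :=
      Subtype.ext h
    rw [e2]
    exact hf.z

theorem Std.V_surj [Finite G] {f : ↥D.T →* G} (hf : Std f) {v : G} (hv : v ∈ D.V) :
    ∃ (a : G) (ha : a ∈ D.V), v = f ⟨a, D.V_le_T ha⟩ := by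
  have hinj : Function.Injective (fun a : ↥D.V => (⟨f ⟨a, D.V_le_T a.2⟩, hf.V a.2⟩ : ↥D.V)) := by
    intro a b hab
    have h1 := hf.inj.inj (congrArg Subtype.val hab)
    have h2 := congrArg (fun t : ↥D.T => (t : G)) h1
    exact Subtype.ext h2
  obtain ⟨a, ha⟩ := Finite.surjective_of_injective hinj ⟨v, hv⟩
  exact ⟨a, a.2, (congrArg Subtype.val ha).symm⟩

/-- elements of `T` opposite to `U` -/
theorem Std.neg_mem {f : ↥D.T →* G} (hf : Std f) {g : G} (hg : g ∈ D.T) (h : D.w0 * g * D.w0 ∈ D.U) :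
    D.w0 * f ⟨g, hg⟩ * D.w0 ∈ D.U := by
  have h1 := (hf.neg _ (⟨h, D.w0_mem_T hg⟩ : D.w0 * g * D.w0 ∈ D.S)).1
  have e : (⟨D.w0 * (D.w0 * g * D.w0) * D.w0, D.w0_mem_T (D.w0_mem_T hg)⟩ : ↥D.T) = ⟨g, hg⟩ :=
    Subtype.ext (D.w0_w0 g)
  rw [e] at h1
  exact h1

theorem Std.zbm [Finite G] {f : ↥D.T →* G} (hf : Std f) : f ⟨D.zbm, D.zbm_mem⟩ = D.zbm := by
  rcases D.cent_z_opp _ (hf.inj.mem _) (hf.neg_mem D.zbm_mem D.zbm_opp) (by
    have h1 := hf.z
    rw [← h1, ← map_inv, ← map_mul, ← map_mul]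
    congr 1
    exact Subtype.ext D.zbm_z) with h | h
  · exfalso
    apply D.zbm_ne
    have h3 : f ⟨D.zbm, D.zbm_mem⟩ = f 1 := by rw [map_one]; exact h
    exact congrArg (fun t : ↥D.T => (t : G)) (hf.inj.inj h3)
  · exact h

theorem Std.yam [Finite G] {f : ↥D.T →* G} (hf : Std f) : f ⟨D.yam, D.yam_mem⟩ = D.yam := by
  rcases D.norm_V_opp _ (hf.inj.mem _) (hf.neg_mem D.yam_mem D.yam_opp) (fun v hv => by
    obtain ⟨a, ha, rfl⟩ := hf.V_surj hv
    rw [← map_inv, ← map_mul, ← map_mul]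
    exact hf.V (D.yam_V a ha)) with h | h
  · exfalso
    apply D.yam_ne
    have h3 : f ⟨D.yam, D.yam_mem⟩ = f 1 := by rw [map_one]; exact h
    exact congrArg (fun t : ↥D.T => (t : G)) (hf.inj.inj h3)
  · exact h

theorem zb_mem (D : TData G) : D.zb ∈ D.T := by
  rw [← D.w0_zbm]
  exact D.w0_mem_T D.zbm_mem

theorem ya_mem (D : TData G) : D.ya ∈ D.T := by
  rw [← D.w0_yam]
  exact D.w0_mem_T D.yam_mem

theorem Std.zb [Finite G] {f : ↥D.T →* G} (hf : Std f) : f ⟨D.zb, D.zb_mem⟩ = D.zb := by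
  have h := hf.op.zbm
  rw [opHom_apply] at h
  have e : (⟨D.w0 * D.zbm * D.w0, D.w0_mem_T D.zbm_mem⟩ : ↥D.T) = ⟨D.zb, D.zb_mem⟩ := Subtype.ext D.w0_zbm
  dsimp only at h
  rw [e] at h
  have h2 := D.w0_w0 (f ⟨D.zb, D.zb_mem⟩)
  rw [h, D.w0_zbm] at h2
  exact h2.symm

theorem Std.ya [Finite G] {f : ↥D.T →* G} (hf : Std f) : f ⟨D.ya, D.ya_mem⟩ = D.ya := by
  have h := hf.op.yam
  rw [opHom_apply] at h
  have e : (⟨D.w0 * D.yam * D.w0, D.w0_mem_T D.yam_mem⟩ : ↥D.T) = ⟨D.ya, D.ya_mem⟩ := Subtype.ext D.w0_yam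
  dsimp only at h
  rw [e] at h
  have h2 := D.w0_w0 (f ⟨D.ya, D.ya_mem⟩)
  rw [h, D.w0_yam] at h2
  exact h2.symm

/-- the subgroup of the elements of `T` fixed by `f` -/
def fixSub (f : ↥D.T →* G) : Subgroup G where
  carrier := {g | ∃ h : g ∈ D.T, f ⟨g, h⟩ = g}
  one_mem' := ⟨D.T.one_mem, map_one f⟩
  mul_mem' := by
    rintro a b ⟨ha, ha'⟩ ⟨hb, hb'⟩
    refine ⟨D.T.mul_mem ha hb, ?_⟩
    have e : (⟨a * b, D.T.mul_mem ha hb⟩ : ↥D.T) = ⟨a, ha⟩ * ⟨b, hb⟩ := rfl
    rw [e, map_mul, ha', hb']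
  inv_mem' := by
    rintro a ⟨ha, ha'⟩
    refine ⟨D.T.inv_mem ha, ?_⟩
    have e : (⟨a⁻¹, D.T.inv_mem ha⟩ : ↥D.T) = (⟨a, ha⟩)⁻¹ := rfl
    rw [e, map_inv, ha']

/-- **Step 3**: a standard homomorphism is the inclusion -/
theorem Std.eq [Finite G] {f : ↥D.T →* G} (hf : Std f) (t : ↥D.T) : f t = t := by
  have h := D.gen (fixSub f) ⟨D.ya_mem, hf.ya⟩ ⟨D.yam_mem, hf.yam⟩ ⟨D.zb_mem, hf.zb⟩ ⟨D.zbm_mem, hf.zbm⟩ t.2
  obtain ⟨h1, h2⟩ := h
  exact h2

/-- **every injective homomorphism `T → T` is conjugation by an element of `H`** -/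
theorem exists_conj [Finite G] {f : ↥D.T →* G} (hf : D.Inj f) : ∃ h ∈ D.H, ∀ t, f t = h * t * h⁻¹ := by
  obtain ⟨h, hh, hs⟩ := exists_std hf
  refine ⟨h⁻¹, D.H.inv_mem hh, fun t => ?_⟩
  have h1 := hs.eq t
  rw [conjHom_apply] at h1
  rw [← h1]
  group

end TData

end Cfsg.Agent.TitsK
end

-- part: TitsK/SheetT
section
prune_inst 0x30100500042210000018001000000000200000000000000000a0050200010040200400012a6005001000884000000060011000004030000020000000000400000000420002400000210000008001180c00000000000000000000000000000000000000000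
set_option linter.all false
open scoped Cfsg.Agent.FastGrp

/-!
The fact sheet of `T` for the abstract data `TData`: `TData.sheet`.
-/

set_option autoImplicit false

namespace Cfsg.Agent.TitsK

open Cfsg.Agent.TitsK.Abs
open Cfsg.Agent.OddHalf.D4.Spor

namespace TData

variable {G : Type*} [Group G] (D : TData G)

/-- conjugation by an element of `H` as an automorphism of `T` -/
def cT (h : ↥D.H) : MulAut ↥D.T where
  toFun t := ⟨h * t * (h : G)⁻¹, D.T_conj h h.2 t t.2⟩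
  invFun t := ⟨(h : G)⁻¹ * t * h, by
    have h1 := D.T_conj (h : G)⁻¹ (D.H.inv_mem h.2) t t.2
    rw [inv_inv] at h1
    exact h1⟩
  left_inv t := by
    apply Subtype.ext
    show (h : G)⁻¹ * (h * t * (h : G)⁻¹) * h = t
    group
  right_inv t := by
    apply Subtype.ext
    show (h : G) * ((h : G)⁻¹ * t * h) * (h : G)⁻¹ = t
    group
  map_mul' a b := by
    apply Subtype.ext
    show (h : G) * (a * b) * (h : G)⁻¹ = (h * a * (h : G)⁻¹) * (h * b * (h : G)⁻¹)
    group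

theorem cT_apply (h : ↥D.H) (t : ↥D.T) : ((D.cT h t : ↥D.T) : G) = h * t * (h : G)⁻¹ := rfl

/-- `H → Aut(T)` -/
def PhiT : ↥D.H →* MulAut ↥D.T where
  toFun := D.cT
  map_one' := by
    ext t
    rw [cT_apply]
    show (1 : G) * t * (1 : G)⁻¹ = t
    group
  map_mul' a b := by
    ext t
    rw [MulAut.mul_apply, cT_apply, cT_apply, cT_apply]
    show (a * b : G) * t * (a * b : G)⁻¹ = a * (b * t * (b : G)⁻¹) * (a : G)⁻¹
    group

theorem PhiT_apply (h : ↥D.H) (t : ↥D.T) : ((D.PhiT h t : ↥D.T) : G) = h * t * (h : G)⁻¹ := rfl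

theorem PhiT_surjective [Finite G] : Function.Surjective D.PhiT := by
  intro α
  have hf : D.Inj (D.T.subtype.comp α.toMonoidHom) :=
    ⟨D.T.subtype_injective.comp α.injective, fun t => (α t).2⟩
  obtain ⟨h, hh, he⟩ := exists_conj hf
  refine ⟨⟨h, hh⟩, ?_⟩
  ext t
  rw [PhiT_apply]
  exact (he t).symm

theorem PhiT_inn (h : ↥D.H) (ht : (h : G) ∈ D.T) : D.PhiT h = MulAut.conj ⟨h, ht⟩ := by
  ext t
  rw [PhiT_apply, MulAut.conj_apply]
  rfl

theorem range_conj : (MulAut.conj : ↥D.T →* MulAut ↥D.T).range = (D.T.subgroupOf D.H).map D.PhiT := by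
  ext α
  constructor
  · rintro ⟨t, rfl⟩
    exact ⟨⟨t, D.T_le t.2⟩, t.2, D.PhiT_inn _ t.2⟩
  · rintro ⟨h, hh, rfl⟩
    exact ⟨⟨h, hh⟩, (D.PhiT_inn h hh).symm⟩

theorem index_inn [Finite G] : (MulAut.conj : ↥D.T →* MulAut ↥D.T).range.index ∣ 2 := by
  rw [range_conj, ← D.relIndex_T]
  exact Subgroup.index_map_dvd _ D.PhiT_surjective

theorem mul_mem_iff {a b : G} (ha : a ∈ D.H) (hb : b ∈ D.H) : a * b ∈ D.T ↔ (a ∈ D.T ↔ b ∈ D.T) := by
  have h1 := Subgroup.mul_mem_iff_of_index_two (H := D.T.subgroupOf D.H) D.relIndex_T (a := ⟨a, ha⟩) (b := ⟨b, hb⟩)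
  simpa [Subgroup.mem_subgroupOf] using h1

/-! ### centralisers -/

theorem cent_S' {h : G} (hh : h ∈ D.H) (hc : ∀ s ∈ D.S, h * s = s * h) : h = 1 ∨ h = D.z := by
  have hU : h ∈ D.U := by
    apply D.cent_V h hh
    · rw [hc _ D.z_mem_S]
      group
    · rw [hc _ (D.V_le_S D.z1_mem_V)]
      group
  exact D.cent_S h hU hc

theorem cent_T {h : G} (hh : h ∈ D.H) (hc : ∀ t ∈ D.T, h * t = t * h) : h = 1 := by
  rcases D.cent_S' hh (fun s hs => hc s hs.2) with h1 | h1
  · exact h1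
  · exfalso
    obtain ⟨t, ht, hne⟩ := D.z_not_central
    apply hne
    rw [← h1, ← hc t ht]
    group

/-! ### 2-central involutions -/

/-- the Sylow 2-subgroup as a Sylow subgroup -/
noncomputable def syl [Finite G] : Sylow 2 ↥D.T :=
  haveI : Fact (Nat.Prime 2) := ⟨Nat.prime_two⟩
  (D.isPGroup_S.comap_subtype : IsPGroup 2 ↥(D.S.subgroupOf D.T)).toSylow D.odd_S

theorem mem_syl [Finite G] {t : ↥D.T} : t ∈ D.syl ↔ (t : G) ∈ D.S := Iff.rfl

/-- every Sylow 2-subgroup is conjugate to `syl` -/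
theorem exists_syl [Finite G] (P : Sylow 2 ↥D.T) : ∃ g : ↥D.T, ∀ t : ↥D.T, t ∈ P ↔ (g⁻¹ * t * g : ↥D.T) ∈ D.syl := by
  have : Fact (Nat.Prime 2) := ⟨Nat.prime_two⟩
  obtain ⟨g, hg⟩ := MulAction.exists_smul_eq ↥D.T D.syl P
  refine ⟨g, fun t => ?_⟩
  rw [← hg]
  show t ∈ ((g • D.syl : Sylow 2 ↥D.T) : Subgroup ↥D.T) ↔ _
  rw [Sylow.coe_subgroup_smul, Subgroup.mem_pointwise_smul_iff_inv_smul_mem]
  have e : (MulAut.conj g)⁻¹ • t = g⁻¹ * t * g := by
    rw [← map_inv, MulAut.smul_def, MulAut.conj_apply, inv_inv]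
  rw [e]
  rfl

theorem cen_of_conj [Finite G] {x : ↥D.T} {t : G} (ht : t ∈ D.T) (h : t * x * t⁻¹ = D.z) : Cen x := by
  have : Fact (Nat.Prime 2) := ⟨Nat.prime_two⟩
  refine ⟨(⟨t, ht⟩ : ↥D.T)⁻¹ • D.syl, fun s hs => ?_⟩
  have hs : s ∈ (((⟨t, ht⟩ : ↥D.T)⁻¹ • D.syl : Sylow 2 ↥D.T) : Subgroup ↥D.T) := hs
  rw [Sylow.coe_subgroup_smul, Subgroup.mem_pointwise_smul_iff_inv_smul_mem] at hs
  have e : (MulAut.conj (⟨t, ht⟩ : ↥D.T)⁻¹)⁻¹ • s = ⟨t, ht⟩ * s * (⟨t, ht⟩ : ↥D.T)⁻¹ := by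
    rw [← map_inv, MulAut.smul_def, MulAut.conj_apply, inv_inv]
  rw [e] at hs
  have h1 : t * s * t⁻¹ ∈ D.S := hs
  have h2 := D.z_central _ h1.1
  rw [mul_inv_eq_iff_eq_mul] at h2
  apply Subtype.ext
  show (s : G) * x = x * s
  have e1 : (x : G) = t⁻¹ * D.z * t := by
    rw [← h]
    group
  rw [e1]
  have e2 : (s : G) * (t⁻¹ * D.z * t) = t⁻¹ * (t * s * t⁻¹ * D.z) * t := by group
  have e3 : t⁻¹ * D.z * t * (s : G) = t⁻¹ * (D.z * (t * s * t⁻¹)) * t := by group
  rw [e2, e3, h2]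

/-- the involutions of `T` are conjugate to `z` or to `d` -/
theorem invol_cases [Finite G] {a : G} (haT : a ∈ D.T) (ha : a * a = 1) (ha1 : a ≠ 1) :
    (∃ t ∈ D.T, t * a * t⁻¹ = D.z) ∨ (∃ t ∈ D.T, t * a * t⁻¹ = D.d) := by
  have hp : IsPGroup 2 ↥(Subgroup.zpowers a) := by
    have h2 : a ^ 2 = 1 := by rw [pow_two, ha]
    have : Fact (Nat.Prime 2) := ⟨Nat.prime_two⟩
    have ho : orderOf a = 2 := orderOf_eq_prime h2 ha1
    exact IsPGroup.of_card (n := 1) (by rw [Nat.card_zpowers, ho, pow_one])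
  obtain ⟨g, hg, h⟩ := exists_conj_sub D.S_le_T D.isPGroup_S D.odd_S
    (Subgroup.zpowers_le.2 haT : Subgroup.zpowers a ≤ D.T) hp
  have h1 := h a (Subgroup.mem_zpowers a)
  have h2 : g * a * g⁻¹ * (g * a * g⁻¹) = 1 := by
    have e : g * a * g⁻¹ * (g * a * g⁻¹) = g * (a * a) * g⁻¹ := by group
    rw [e, ha]
    group
  have h3 : g * a * g⁻¹ ≠ 1 := by
    intro h4
    apply ha1
    have e : a = g⁻¹ * (g * a * g⁻¹) * g := by group
    rw [e, h4]
    group
  rcases D.invol _ h1 h2 h3 with ⟨t, ht, h4⟩ | ⟨t, ht, h4⟩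
  · exact Or.inl ⟨t * g, D.T.mul_mem ht hg, by rw [← h4]; group⟩
  · exact Or.inr ⟨t * g, D.T.mul_mem ht hg, by rw [← h4]; group⟩

/-! ### the fields of the sheet -/

theorem out [Finite G] : ¬ 4 ∣ (MulAut.conj : ↥D.T →* MulAut ↥D.T).range.index := by
  intro h
  have h1 := h.trans D.index_inn
  norm_num at h1

theorem schreier [Finite G] (P : Subgroup (MulAut ↥D.T)) (hP : ⁅P, P⁆ = P) :
    P ≤ (MulAut.conj : ↥D.T →* MulAut ↥D.T).range := by
  rw [← hP, Subgroup.commutator_le]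
  intro α _ β _
  obtain ⟨a, rfl⟩ := D.PhiT_surjective α
  obtain ⟨b, rfl⟩ := D.PhiT_surjective β
  rw [commutatorElement_def, ← map_mul, ← map_inv, ← map_inv, ← map_mul, ← map_mul]
  have h : ((a * b * a⁻¹ * b⁻¹ : ↥D.H) : G) ∈ D.T := by
    show (a : G) * b * (a : G)⁻¹ * (b : G)⁻¹ ∈ D.T
    rw [mul_assoc, D.mul_mem_iff (D.H.mul_mem a.2 b.2) (D.H.mul_mem (D.H.inv_mem a.2) (D.H.inv_mem b.2)),
      D.mul_mem_iff a.2 b.2, D.mul_mem_iff (D.H.inv_mem a.2) (D.H.inv_mem b.2), inv_mem_iff, inv_mem_iff]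
  rw [D.PhiT_inn _ h]
  exact ⟨_, rfl⟩

theorem sylAut [Finite G] (P : Sylow 2 ↥D.T) (α : MulAut ↥D.T) (hα : ∀ x ∈ P, α x = x) : Inn α := by
  obtain ⟨h, rfl⟩ := D.PhiT_surjective α
  obtain ⟨g, hg⟩ := D.exists_syl P
  have h1 : ∀ s ∈ D.S, ((g : G)⁻¹ * h * g) * s = s * ((g : G)⁻¹ * h * g) := by
    intro s hs
    have h2 : (g * ⟨s, hs.2⟩ * g⁻¹ : ↥D.T) ∈ P := by
      rw [hg, mem_syl]
      show (g : G)⁻¹ * (g * s * (g : G)⁻¹) * g ∈ D.S
      have e : (g : G)⁻¹ * (g * s * (g : G)⁻¹) * g = s := by group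
      rw [e]
      exact hs
    have h3 := congrArg (fun t : ↥D.T => (t : G)) (hα _ h2)
    have h4 : (h : G) * (g * s * (g : G)⁻¹) * (h : G)⁻¹ = g * s * (g : G)⁻¹ := h3
    rw [mul_inv_eq_iff_eq_mul] at h4
    have e1 : ((g : G)⁻¹ * h * g) * s = (g : G)⁻¹ * (h * (g * s * (g : G)⁻¹)) * g := by group
    have e2 : s * ((g : G)⁻¹ * h * g) = (g : G)⁻¹ * (g * s * (g : G)⁻¹ * h) * g := by group
    rw [e1, e2, h4]
  have hgH : (g : G) ∈ D.H := D.T_le g.2
  have h2 := D.cent_S' (D.H.mul_mem (D.H.mul_mem (D.H.inv_mem hgH) h.2) hgH) h1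
  have h3 : (g : G)⁻¹ * h * g ∈ D.T := by
    rcases h2 with h2 | h2
    · rw [h2]; exact D.T.one_mem
    · rw [h2]; exact D.V_le_T D.z_mem_V
  have h4 : (h : G) ∈ D.T := by
    have h5 := D.T_conj g hgH _ h3
    have e : (g : G) * ((g : G)⁻¹ * h * g) * (g : G)⁻¹ = h := by group
    rw [e] at h5
    exact h5
  exact ⟨_, D.PhiT_inn h h4⟩

theorem z_of_central [Finite G] (P : Sylow 2 ↥D.T) {g : ↥D.T} (hg : ∀ t : ↥D.T, t ∈ P ↔ (g⁻¹ * t * g : ↥D.T) ∈ D.syl)
    {a : ↥D.T} (ha1 : a ≠ 1) (ha : ∀ s ∈ P, s * a = a * s) : (a : G) = g * D.z * (g : G)⁻¹ := by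
  have h1 : ∀ s ∈ D.S, ((g : G)⁻¹ * a * g) * s = s * ((g : G)⁻¹ * a * g) := by
    intro s hs
    have h2 : (g * ⟨s, hs.2⟩ * g⁻¹ : ↥D.T) ∈ P := by
      rw [hg, mem_syl]
      show (g : G)⁻¹ * (g * s * (g : G)⁻¹) * g ∈ D.S
      have e : (g : G)⁻¹ * (g * s * (g : G)⁻¹) * g = s := by group
      rw [e]
      exact hs
    have h3 := congrArg (fun t : ↥D.T => (t : G)) (ha _ h2)
    have h4 : g * s * (g : G)⁻¹ * a = a * (g * s * (g : G)⁻¹) := h3
    have e1 : ((g : G)⁻¹ * a * g) * s = (g : G)⁻¹ * (a * (g * s * (g : G)⁻¹)) * g := by group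
    have e2 : s * ((g : G)⁻¹ * a * g) = (g : G)⁻¹ * (g * s * (g : G)⁻¹ * a) * g := by group
    rw [e1, e2, h4]
  have hgH : (g : G) ∈ D.H := D.T_le g.2
  rcases D.cent_S' (D.H.mul_mem (D.H.mul_mem (D.H.inv_mem hgH) (D.T_le a.2)) hgH) h1 with h2 | h2
  · exfalso
    apply ha1
    apply Subtype.ext
    show (a : G) = 1
    have e : (a : G) = g * ((g : G)⁻¹ * a * g) * (g : G)⁻¹ := by group
    rw [e, h2]
    group
  · rw [← h2]
    group

theorem z1_field [Finite G] (P : Sylow 2 ↥D.T) (a : ↥D.T) (ha1 : a ≠ 1) (ha : ∀ s ∈ P, s * a = a * s)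
    (b : ↥D.T) (hb1 : b ≠ 1) (hb : ∀ s ∈ P, s * b = b * s) : a = b := by
  obtain ⟨g, hg⟩ := D.exists_syl P
  apply Subtype.ext
  rw [D.z_of_central P hg ha1 ha, D.z_of_central P hg hb1 hb]

/-- balance, for an involution `a` with a normal 2-subgroup `E ∋ z, z1` of `C_T(a)` -/
theorem bal_aux [Finite G] {a : G} {E : Subgroup G} (hEU : IsPGroup 2 ↥E) (hET : E ≤ D.T) (hz : D.z ∈ E)
    (hz1 : D.z1 ∈ E) (hEa : ∀ e ∈ E, e * a = a * e) (hn : ∀ g ∈ D.T, g * a = a * g → ∀ e ∈ E, g * e * g⁻¹ ∈ E)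
    {I : Subgroup G} (hI : I ≤ D.T) (hIa : ∀ i ∈ I, i * a = a * i)
    (hIn : ∀ c ∈ D.T, c * a = a * c → ∀ i ∈ I, c * i * c⁻¹ ∈ I) (ho : Odd (Nat.card ↥I)) : I = ⊥ := by
  have hd : I ⊓ E = ⊥ := by
    apply eq_bot_of_odd (hEU.to_le inf_le_right)
    exact Odd.of_dvd_nat ho (Subgroup.card_dvd_of_le inf_le_left)
  have key : ∀ i ∈ I, ∀ e ∈ E, i * e * i⁻¹ = e := by
    intro i hi e he
    have h1 : i * e * i⁻¹ * e⁻¹ ∈ I ⊓ E := by
      refine ⟨?_, E.mul_mem (hn i (hI hi) (hIa i hi) e he) (E.inv_mem he)⟩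
      have h2 := I.mul_mem hi (hIn e (hET he) (hEa e he) i⁻¹ (I.inv_mem hi))
      have e1 : i * (e * i⁻¹ * e⁻¹) = i * e * i⁻¹ * e⁻¹ := by group
      rw [e1] at h2
      exact h2
    rw [hd, Subgroup.mem_bot, mul_inv_eq_one] at h1
    exact h1
  have hIU : I ≤ D.U := fun i hi => D.cent_V i (D.T_le (hI hi)) (key i hi _ hz) (key i hi _ hz1)
  exact eq_bot_of_odd (D.isPGroup_U.to_le hIU) ho

theorem bal_z [Finite G] {I : Subgroup G} (hI : I ≤ D.T) (hIa : ∀ i ∈ I, i * D.z = D.z * i)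
    (hIn : ∀ c ∈ D.T, c * D.z = D.z * c → ∀ i ∈ I, c * i * c⁻¹ ∈ I) (ho : Odd (Nat.card ↥I)) : I = ⊥ := by
  refine D.bal_aux (E := D.E) (D.isPGroup_U.to_le D.E_le_U) D.E_le_T D.z_mem_E D.z1_mem_E ?_ ?_ hI hIa hIn ho
  · intro e he
    have h := D.z_central e (D.E_le_U he)
    rw [mul_inv_eq_iff_eq_mul] at h
    exact h
  · intro g hg hga e he
    exact D.cent_z g (D.T_le hg) (by rw [hga]; group) e he

theorem bal_d [Finite G] {I : Subgroup G} (hI : I ≤ D.T) (hIa : ∀ i ∈ I, i * D.d = D.d * i)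
    (hIn : ∀ c ∈ D.T, c * D.d = D.d * c → ∀ i ∈ I, c * i * c⁻¹ ∈ I) (ho : Odd (Nat.card ↥I)) : I = ⊥ := by
  refine D.bal_aux (E := D.V) (D.isPGroup_U.to_le D.V_le_U) D.V_le_T D.z_mem_V D.z1_mem_V D.d_comm ?_ hI hIa hIn ho
  intro g hg hga e he
  exact D.cent_d g (D.T_le hg) (by rw [hga]; group) e he

/-- transport of `C(a)`-invariant subgroups by conjugation -/
theorem bal_conj [Finite G] {a b t : G} (ht : t ∈ D.T) (hab : t * a * t⁻¹ = b) {I : Subgroup G} (hI : I ≤ D.T)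
    (hIa : ∀ i ∈ I, i * a = a * i) (hIn : ∀ c ∈ D.T, c * a = a * c → ∀ i ∈ I, c * i * c⁻¹ ∈ I) :
    cj t I ≤ D.T ∧ (∀ i ∈ cj t I, i * b = b * i) ∧ ∀ c ∈ D.T, c * b = b * c → ∀ i ∈ cj t I, c * i * c⁻¹ ∈ cj t I := by
  refine ⟨?_, ?_, ?_⟩
  · intro x hx
    have h1 := D.T_conj t (D.T_le ht) _ (hI (mem_cj.1 hx))
    have e : t * (t⁻¹ * x * t) * t⁻¹ = x := by group
    rw [e] at h1
    exact h1
  · intro x hx
    have h1 := hIa _ (mem_cj.1 hx)
    rw [← hab]
    have e1 : x * (t * a * t⁻¹) = t * (t⁻¹ * x * t * a) * t⁻¹ := by group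
    have e2 : t * a * t⁻¹ * x = t * (a * (t⁻¹ * x * t)) * t⁻¹ := by group
    rw [e1, e2, h1]
  · intro c hc hcb x hx
    rw [mem_cj] at hx ⊢
    have hc' : t⁻¹ * c * t ∈ D.T := D.T.mul_mem (D.T.mul_mem (D.T.inv_mem ht) hc) ht
    have h1 := hIn _ hc' (by
      rw [← hab] at hcb
      have e1 : t⁻¹ * c * t * a = t⁻¹ * (c * (t * a * t⁻¹)) * t := by group
      have e2 : a * (t⁻¹ * c * t) = t⁻¹ * (t * a * t⁻¹ * c) * t := by group
      rw [e1, e2, hcb]) _ hx
    have e : t⁻¹ * c * t * (t⁻¹ * x * t) * (t⁻¹ * c * t)⁻¹ = t⁻¹ * (c * x * c⁻¹) * t := by group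
    rw [e] at h1
    exact h1

theorem bal_G [Finite G] {a : G} (haT : a ∈ D.T) (ha : a * a = 1) (ha1 : a ≠ 1) {I : Subgroup G} (hI : I ≤ D.T)
    (hIa : ∀ i ∈ I, i * a = a * i) (hIn : ∀ c ∈ D.T, c * a = a * c → ∀ i ∈ I, c * i * c⁻¹ ∈ I)
    (ho : Odd (Nat.card ↥I)) : I = ⊥ := by
  have key : ∀ t : G, cj t I = ⊥ → I = ⊥ := by
    intro t h
    rw [← Subgroup.card_eq_one, ← card_cj t I, h, Subgroup.card_bot]
  rcases D.invol_cases haT ha ha1 with ⟨t, ht, h⟩ | ⟨t, ht, h⟩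
  · obtain ⟨h1, h2, h3⟩ := D.bal_conj ht h hI hIa hIn
    exact key t (D.bal_z h1 h2 h3 (by rw [card_cj]; exact ho))
  · obtain ⟨h1, h2, h3⟩ := D.bal_conj ht h hI hIa hIn
    exact key t (D.bal_d h1 h2 h3 (by rw [card_cj]; exact ho))

theorem card_map_T (I : Subgroup ↥D.T) : Nat.card ↥(I.map D.T.subtype) = Nat.card ↥I :=
  Nat.card_congr (I.equivMapOfInjective _ D.T.subtype_injective).symm.toEquiv

theorem bal_field [Finite G] (a : ↥D.T) (ha : a * a = 1) (ha1 : a ≠ 1) (I : Subgroup ↥D.T) (hIa : ∀ i ∈ I, i * a = a * i)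
    (hIn : ∀ c : ↥D.T, c * a = a * c → ∀ i ∈ I, c * i * c⁻¹ ∈ I) (ho : Odd (Nat.card ↥I)) : I = ⊥ := by
  have h := D.bal_G a.2 (congrArg (fun t : ↥D.T => (t : G)) ha) (fun h => ha1 (Subtype.ext h)) (I := I.map D.T.subtype)
    (by rintro _ ⟨x, -, rfl⟩; exact x.2)
    (by rintro _ ⟨x, hx, rfl⟩; exact congrArg (fun t : ↥D.T => (t : G)) (hIa x hx))
    (by
      rintro c hc hca _ ⟨x, hx, rfl⟩
      exact ⟨⟨c, hc⟩ * x * (⟨c, hc⟩ : ↥D.T)⁻¹, hIn ⟨c, hc⟩ (Subtype.ext hca) x hx, rfl⟩)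
    (by rw [card_map_T]; exact ho)
  rw [Subgroup.map_eq_bot_iff_of_injective _ D.T.subtype_injective] at h
  exact h

/-- no outer involutions -/
theorem no_outer_aut [Finite G] (α : MulAut ↥D.T) (hα : ¬ Inn α) (h2 : α * α = 1) : False := by
  obtain ⟨h, rfl⟩ := D.PhiT_surjective α
  have hT : (h : G) ∉ D.T := fun h1 => hα ⟨_, D.PhiT_inn h h1⟩
  have hh : (h : G) * h = 1 := by
    apply D.cent_T (D.H.mul_mem h.2 h.2)
    intro t ht
    have h3 : (D.PhiT h * D.PhiT h) ⟨t, ht⟩ = ⟨t, ht⟩ := by rw [h2]; rfl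
    have h4 : (h : G) * (h * t * (h : G)⁻¹) * (h : G)⁻¹ = t := congrArg (fun t : ↥D.T => (t : G)) h3
    have e : (h : G) * h * t = (h * (h * t * (h : G)⁻¹) * (h : G)⁻¹) * (h * h) := by group
    rw [e, h4]
  have hne : (h : G) ≠ 1 := fun h1 => hT (by rw [h1]; exact D.T.one_mem)
  have hp : IsPGroup 2 ↥(Subgroup.zpowers (h : G)) := by
    have h2 : (h : G) ^ 2 = 1 := by rw [pow_two, hh]
    have : Fact (Nat.Prime 2) := ⟨Nat.prime_two⟩
    have ho : orderOf (h : G) = 2 := orderOf_eq_prime h2 hne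
    exact IsPGroup.of_card (n := 1) (by rw [Nat.card_zpowers, ho, pow_one])
  obtain ⟨g, hg, hgc⟩ := exists_conj_sub D.U_le D.isPGroup_U D.odd_U
    (Subgroup.zpowers_le.2 h.2 : Subgroup.zpowers (h : G) ≤ D.H) hp
  have h3 := hgc h (Subgroup.mem_zpowers _)
  have h4 : g * h * g⁻¹ * (g * h * g⁻¹) = 1 := by
    have e : g * h * g⁻¹ * (g * h * g⁻¹) = g * (h * h) * g⁻¹ := by group
    rw [e, hh]
    group
  have h5 := D.no_outer _ h3 h4
  apply hT
  have h6 := D.T_conj g⁻¹ (D.H.inv_mem hg) _ h5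
  have e : g⁻¹ * (g * (h : G) * g⁻¹) * (g⁻¹)⁻¹ = h := by group
  rw [e] at h6
  exact h6

/-! ### `tab` -/

/-- in `G`: no normal subgroup `N ∋ d` of `C_T(d)`, of order divisible by 4, without conjugates of `z` -/
theorem tab_d [Finite G] {N : Subgroup G} (hN : N ≤ D.T) (hd : D.d ∈ N) (hNd : ∀ n ∈ N, n * D.d = D.d * n)
    (hn : ∀ c ∈ D.T, c * D.d = D.d * c → ∀ n ∈ N, c * n * c⁻¹ ∈ N) (h4 : 4 ∣ Nat.card ↥N)
    (hnon : ∀ x ∈ N, ∀ t ∈ D.T, t * x * t⁻¹ ≠ D.z) : False := by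
  have hVN : ∀ v ∈ D.V, v ∈ N → v = 1 := by
    intro v hv hvN
    by_contra h1
    obtain ⟨t, ht, h2⟩ := D.V_cases v hv h1
    exact hnon v hvN t ht h2
  have key : ∀ n ∈ N, ∀ v ∈ D.V, n * v * n⁻¹ = v := by
    intro n hn' v hv
    have h1 : n * v * n⁻¹ * v⁻¹ ∈ D.V :=
      D.V.mul_mem (D.cent_d n (D.T_le (hN hn')) (by rw [hNd n hn']; group) v hv) (D.V.inv_mem hv)
    have h2 : n * v * n⁻¹ * v⁻¹ ∈ N := by
      have h3 := N.mul_mem hn' (hn v (D.V_le_T hv) (D.d_comm v hv) n⁻¹ (N.inv_mem hn'))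
      have e1 : n * (v * n⁻¹ * v⁻¹) = n * v * n⁻¹ * v⁻¹ := by group
      rw [e1] at h3
      exact h3
    have h3 := hVN _ h1 h2
    rw [mul_inv_eq_one] at h3
    exact h3
  have hNU : ∀ n ∈ N, n ∈ D.U := fun n hn' =>
    D.cent_V n (D.T_le (hN hn')) (key n hn' _ D.z_mem_V) (key n hn' _ D.z1_mem_V)
  by_cases h5 : ∃ n ∈ N, n ≠ 1 ∧ n ≠ D.d
  · obtain ⟨n, hn', hn1, hnd⟩ := h5
    have h6 := key n hn' _ D.z1_mem_V
    rw [mul_inv_eq_iff_eq_mul] at h6
    obtain ⟨x, hx, t, ht, h7⟩ := D.kill n ⟨hNU n hn', hN hn'⟩ h6 (hNd n hn') hn1 hnd N hd hn' hn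
    exact hnon x hx t ht h7
  · push Not at h5
    have hle : Nat.card ↥N ≤ 2 := by
      have h6 : (N : Set G) ⊆ {1, D.d} := by
        intro n hn'
        by_cases h7 : n = 1
        · exact Or.inl h7
        · exact Or.inr (h5 n hn' h7)
      have h7 := Set.ncard_le_ncard h6 (Set.toFinite _)
      have h8 : ({1, D.d} : Set G).ncard ≤ 2 := Set.ncard_insert_le 1 {D.d} |>.trans (by rw [Set.ncard_singleton])
      have h9 : (N : Set G).ncard = Nat.card ↥N := rfl
      omega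
    have := Nat.le_of_dvd Nat.card_pos h4
    omega

theorem not_bad [Finite G] (w : ↥D.T) (N : Subgroup ↥D.T) : ¬ Bad w N := by
  intro hb
  have hwG : (w : G) * w = 1 := congrArg (fun t : ↥D.T => (t : G)) hb.sq
  have hw1 : (w : G) ≠ 1 := fun h => hb.ne (Subtype.ext h)
  rcases D.invol_cases w.2 hwG hw1 with ⟨t, ht, h⟩ | ⟨t, ht, h⟩
  · exact hb.non w hb.mem hb.sq hb.ne (D.cen_of_conj ht h)
  · set M := N.map D.T.subtype with hM
    have hMT : M ≤ D.T := by rintro _ ⟨x, -, rfl⟩; exact x.2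
    have hMw : ∀ n ∈ M, n * (w : G) = w * n := by
      rintro _ ⟨x, hx, rfl⟩
      exact congrArg (fun t : ↥D.T => (t : G)) (hb.le x hx)
    have hMn : ∀ c ∈ D.T, c * (w : G) = w * c → ∀ n ∈ M, c * n * c⁻¹ ∈ M := by
      rintro c hc hcw _ ⟨x, hx, rfl⟩
      exact ⟨⟨c, hc⟩ * x * (⟨c, hc⟩ : ↥D.T)⁻¹, hb.norm ⟨c, hc⟩ (Subtype.ext hcw) x hx, rfl⟩
    obtain ⟨h1, h2, h3⟩ := D.bal_conj ht h hMT hMw hMn
    refine D.tab_d h1 ?_ h2 h3 ?_ ?_
    · rw [← h]
      exact conj_mem_cj ⟨w, hb.mem, rfl⟩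
    · rw [card_cj, hM, card_map_T]
      exact hb.four
    · intro x hx s hs hxs
      obtain ⟨y, hy, hyx⟩ := mem_cj.1 hx
      have hyx : (y : G) = t⁻¹ * x * t := hyx
      have e : (s * t) * (y : G) * (s * t)⁻¹ = D.z := by
        rw [← hxs, hyx]
        group
      have hst : s * t ∈ D.T := D.T.mul_mem hs ht
      have hy1 : y ≠ 1 := by
        rintro rfl
        apply D.z_ne
        rw [← e]
        show (s * t) * 1 * (s * t)⁻¹ = 1
        group
      have hyy : y * y = 1 := by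
        apply Subtype.ext
        show (y : G) * y = 1
        have e2 : (y : G) = (s * t)⁻¹ * D.z * (s * t) := by
          rw [← e]
          group
        have e3 : (y : G) * y = (s * t)⁻¹ * (D.z * D.z) * (s * t) := by
          rw [e2]
          group
        rw [e3, D.z_sq]
        group
      exact hb.non y hy hyy hy1 (D.cen_of_conj hst e)

/-- **the fact sheet** -/
theorem sheet [Finite G] : Sheet ↥D.T where
  out := D.out
  schreier := D.schreier
  sylAut := fun P α _ h => D.sylAut P α h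
  z1 := fun P a _ _ ha1 ha b _ _ hb1 hb => D.z1_field P a ha1 ha b hb1 hb
  bal := D.bal_field
  out2 := fun α hα h2 _ _ _ _ _ _ _ _ _ _ _ => D.no_outer_aut α hα h2
  tab := tab_of_not_bad D.not_bad

end TData

end Cfsg.Agent.TitsK
end

-- part: EvenType/ChevTwoTits
section
set_option linter.all false
open scoped Cfsg.Agent.FastGrp

/-!
# The Tits group is of characteristic 2 type
-/

set_option autoImplicit false

namespace Cfsg.Agent.EvenType.ChevTwoTits

open Subgroup Cfsg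
open Cfsg.Agent.OddHalf.Small.Crit
open Cfsg.Agent.TitsK

theorem eq_one_of_odd {G : Type*} [Group G] {U : Subgroup G} (hU : IsPGroup 2 ↥U) {y : G} (hy : y ∈ U)
    (ho : Odd (orderOf y)) : y = 1 := by
  obtain ⟨k, hk⟩ := hU ⟨y, hy⟩
  have hk' : y ^ 2 ^ k = 1 := congrArg Subtype.val hk
  have h3 : orderOf y ∣ 2 ^ k := orderOf_dvd_of_pow_eq_one hk'
  have h5 : Nat.Coprime (orderOf y) (2 ^ k) := (Nat.coprime_two_right.mpr ho).pow_right k
  exact orderOf_eq_one_iff.mp (Nat.Coprime.eq_one_of_dvd h5 h3)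

section abs

variable {G : Type*} [Group G] (D : TData G)

theorem good_z : Good (⟨D.z, D.V_le_T D.z_mem_V⟩ : ↥D.T) := by
  refine ⟨D.E.subgroupOf D.T, ?_, ?_, ?_⟩
  · exact (D.isPGroup_U.to_le D.E_le_U).comap_subtype
  · intro g hg x hx
    have h1 : (g : G) * D.z = D.z * g := congrArg Subtype.val hg
    exact D.cent_z g (D.T_le g.2) (by rw [h1]; group) x hx
  · intro y hy hyE ho
    have h1 : (y : G) * D.z = D.z * y := congrArg Subtype.val hy
    have h2 : (y : G) * D.z1 = D.z1 * y :=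
      congrArg Subtype.val (hyE ⟨D.z1, D.V_le_T D.z1_mem_V⟩ D.z1_mem_E)
    have hyU : (y : G) ∈ D.U := D.cent_V y (D.T_le y.2) (by rw [h1]; group) (by rw [h2]; group)
    have ho' : Odd (orderOf (y : G)) := by rw [orderOf_coe]; exact ho
    exact Subtype.ext (eq_one_of_odd D.isPGroup_U hyU ho')

theorem good_d : Good (⟨D.d, D.d_mem_T⟩ : ↥D.T) := by
  refine ⟨D.V.subgroupOf D.T, ?_, ?_, ?_⟩
  · exact (D.isPGroup_U.to_le D.V_le_U).comap_subtype
  · intro g hg x hx
    have h1 : (g : G) * D.d = D.d * g := congrArg Subtype.val hg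
    exact D.cent_d g (D.T_le g.2) (by rw [h1]; group) x hx
  · intro y hy hyE ho
    have h1 : (y : G) * D.z = D.z * y :=
      congrArg Subtype.val (hyE ⟨D.z, D.V_le_T D.z_mem_V⟩ D.z_mem_V)
    have h2 : (y : G) * D.z1 = D.z1 * y :=
      congrArg Subtype.val (hyE ⟨D.z1, D.V_le_T D.z1_mem_V⟩ D.z1_mem_V)
    have hyU : (y : G) ∈ D.U := D.cent_V y (D.T_le y.2) (by rw [h1]; group) (by rw [h2]; group)
    have ho' : Odd (orderOf (y : G)) := by rw [orderOf_coe]; exact ho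
    exact Subtype.ext (eq_one_of_odd D.isPGroup_U hyU ho')

theorem good [Finite G] {t : ↥D.T} (ht : orderOf t = 2) : Good t := by
  have h2 : (t : G) * t = 1 := by
    have h : t * t = 1 := by rw [← pow_two, ← ht, pow_orderOf_eq_one]
    exact congrArg Subtype.val h
  have h1 : (t : G) ≠ 1 := by
    intro h
    have h' : t = 1 := Subtype.ext h
    rw [h', orderOf_one] at ht
    omega
  rcases D.invol_cases t.2 h2 h1 with ⟨g, hg, e⟩ | ⟨g, hg, e⟩
  · have h := good_conj (good_z D) (⟨g, hg⟩ : ↥D.T)⁻¹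
    have e2 : (⟨g, hg⟩ : ↥D.T)⁻¹ * ⟨D.z, D.V_le_T D.z_mem_V⟩ * (⟨g, hg⟩ : ↥D.T)⁻¹⁻¹ = t := by
      apply Subtype.ext
      show g⁻¹ * D.z * g⁻¹⁻¹ = t
      rw [← e]; group
    rwa [e2] at h
  · have h := good_conj (good_d D) (⟨g, hg⟩ : ↥D.T)⁻¹
    have e2 : (⟨g, hg⟩ : ↥D.T)⁻¹ * ⟨D.d, D.d_mem_T⟩ * (⟨g, hg⟩ : ↥D.T)⁻¹⁻¹ = t := by
      apply Subtype.ext
      show g⁻¹ * D.d * g⁻¹⁻¹ = t
      rw [← e]; group
    rwa [e2] at h

theorem charTwo_of_equiv [Finite G] {X : Type*} [Group X] [Finite X] (e : ↥D.T ≃* X) :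
    IsCharacteristicTwoType X := by
  refine isCharacteristicTwoType_of_equiv e ?_ fun t ht => good D ht
  have h2 : orderOf (⟨D.z, D.V_le_T D.z_mem_V⟩ : ↥D.T) = 2 := by
    have : Fact (Nat.Prime 2) := ⟨Nat.prime_two⟩
    refine orderOf_eq_prime ?_ ?_
    · rw [pow_two]
      exact Subtype.ext D.z_sq
    · intro h
      exact D.z_ne (congrArg Subtype.val h)
  have h := orderOf_dvd_natCard (⟨D.z, D.V_le_T D.z_mem_V⟩ : ↥D.T)
  rw [h2] at h
  exact even_iff_two_dvd.mpr h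

end abs

/-- **The Tits group is of characteristic 2 type.** -/
theorem charTwo {X : Type*} [Group X] [Finite X] (h : Lie.IsoTits X) : IsCharacteristicTwoType X := by
  obtain ⟨e⟩ := h
  obtain ⟨e'⟩ := Cfsg.Agent.TitsK.exists_equiv
  exact charTwo_of_equiv tdata (e.trans e').symm

end Cfsg.Agent.EvenType.ChevTwoTits
end
end
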