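import Cfsg.Agent.BM.KHAll
import Cfsg.Agent.S0399
import Cfsg.Agent.Co2Type.CardCo2
import Cfsg.Agent.R01.Fi22Facts
import Cfsg.Agent.S1697
import Cfsg.Agent.S1698
import Cfsg.Agent.KFacts.HS.Base
import Cfsg.Agent.S1625
import Cfsg.Agent.S1703
import Cfsg.Agent.H850.MonSub
import Cfsg.Agent.SporadicA.MathieuRecog
import Cfsg.Agent.S0364
import Cfsg.Agent.S1627
import Cfsg.Agent.Cit.TypeDet.Mathieu
import Cfsg.Agent.MTwelveType.SylowModel
import Cfsg.Agent.S1619
import Cfsg.Agent.S1694
import Cfsg.Agent.S1700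
import Cfsg.Agent.S0243
import Cfsg.Agent.S0280
import Cfsg.Agent.S1059
import Cfsg.Prelude.Def_EvenType
import Cfsg.Agent.Prune
set_option linter.all false
prune_inst 0x7f00000000000000000000000000000000000000000000000000000000000000000000000000000000000000000000000000000000000000000000000000000000000000000000000000000000000000003fffffffffffffffffffffffffffbeffbdffffffff
open scoped Cfsg.Agent.FastGrp

/-!
# The groups on the `C_2` list, other than the `L₂(q)`, have order divisible by 8 (with their orders)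
-/

set_option autoImplicit false

namespace Cfsg.Agent.EvenType.CTwoCard

open Cfsg

variable {K : Type*} [Group K]

theorem m11 (h : Spor.IsoM11 K) : Nat.card K = 7920 := by
  obtain ⟨e⟩ := h
  rw [Nat.card_congr e.toEquiv, Cfsg.Agent.Cit.TypeDet.card_M11']

theorem m12 (h : Spor.IsoM12 K) : Nat.card K = 95040 := by
  obtain ⟨e⟩ := h
  rw [Nat.card_congr e.toEquiv, MTwelveType.SylowModel.card_M12]

theorem m22 (h : Spor.IsoM22 K) : Nat.card K = 443520 := by
  obtain ⟨e⟩ := h
  rw [Nat.card_congr e.toEquiv, SporadicA.MathieuRecog.card_M22]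

theorem m23 (h : Spor.IsoM23 K) : Nat.card K = 10200960 := by
  obtain ⟨e⟩ := h
  rw [Nat.card_congr e.toEquiv, SporadicA.MathieuRecog.card_M23]

theorem m24 (h : Spor.IsoM24 K) : Nat.card K = 244823040 := by
  obtain ⟨e⟩ := h
  rw [Nat.card_congr e.toEquiv, S0364.result]

theorem j2 (h : Spor.IsoJ2 K) : Nat.card K = 604800 := by
  obtain ⟨e⟩ := h
  rw [Nat.card_congr e.toEquiv, S1619.result.2.2.2]

theorem j3 (h : Spor.IsoJ3 K) : Nat.card K = 50232960 := by
  obtain ⟨F, _, _, ω, hF, hω, ⟨e⟩⟩ := h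
  rw [Nat.card_congr e.toEquiv, (S1625.result F hF ω hω).2.2.1]

theorem j4 (h : Spor.IsoJ4 K) : Nat.card K = 86775571046077562880 := by
  obtain ⟨e⟩ := h
  rw [Nat.card_congr e.toEquiv, S1703.result.2]

theorem hs {K : Type*} [Group K] (h : Spor.IsoHS K) : Nat.card K = 44352000 := KFacts.HS.card h

theorem suz (h : Spor.IsoSuz K) : Nat.card K = 448345497600 := by
  obtain ⟨e⟩ := h
  rw [Nat.card_congr e.toEquiv, S1694.result.2]

theorem ru (h : Spor.IsoRu K) : Nat.card K = 145926144000 := by
  obtain ⟨e⟩ := h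
  rw [Nat.card_congr e.toEquiv, S1627.result.2.1]

theorem co1 (h : Spor.IsoCo1 K) : Nat.card K = 4157776806543360000 := by
  obtain ⟨e⟩ := h
  rw [Nat.card_congr e.toEquiv, S0399.result.2]

theorem co2 (h : Spor.IsoCo2 K) : Nat.card K = 42305421312000 := by
  obtain ⟨e⟩ := h
  rw [Nat.card_congr e.toEquiv, Co2Type.CardCo2.card_co2]

theorem fi22 (h : Spor.IsoFi22 K) : Nat.card K = 64561751654400 := by
  obtain ⟨e⟩ := h
  rw [Nat.card_congr e.toEquiv, R01.Fi22Facts.card]

theorem fi23 (h : Spor.IsoFi23 K) : Nat.card K = 4089470473293004800 := by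
  obtain ⟨e⟩ := h
  rw [Nat.card_congr e.toEquiv, S1697.result.2]

theorem fi24 (h : Spor.IsoFi24' K) : Nat.card K = 1255205709190661721292800 := by
  obtain ⟨e⟩ := h
  rw [Nat.card_congr e.toEquiv, S1698.result.2]

theorem th (h : Spor.IsoTh K) : Nat.card K = 90745943887872000 := by
  obtain ⟨e⟩ := h
  rw [Nat.card_congr e.toEquiv, S1700.result.2]

theorem b (h : Spor.IsoB K) : Nat.card K = 4154781481226426191177580544000000 := by
  obtain ⟨e⟩ := h
  rw [Nat.card_congr e.toEquiv, BM.KHAll.card_B]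

theorem m (h : Spor.IsoM K) :
    Nat.card K = 808017424794512875886459904961710757005754368000000000 := by
  obtain ⟨e⟩ := h
  rw [Nat.card_congr e.toEquiv, MonsterP.Equiv.isM.2]

theorem psl3 {F : Type} [Field F] [Fintype F] (hF : Fintype.card F = 3) :
    Nat.card (Matrix.ProjectiveSpecialLinearGroup (Fin 3) F) = 5616 := by
  have h := S0243.result (F := F) (q := 3) hF 3 (by norm_num)
  rw [show Nat.gcd 3 (3 - 1) = 1 from rfl, Fin.prod_univ_three] at h
  norm_num at h
  omega

theorem psl4 {F : Type} [Field F] [Fintype F] (hF : Fintype.card F = 3) :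
    Nat.card (Matrix.ProjectiveSpecialLinearGroup (Fin 4) F) = 6065280 := by
  have h := S0243.result (F := F) (q := 3) hF 4 (by norm_num)
  rw [show Nat.gcd 4 (3 - 1) = 2 from rfl, Fin.prod_univ_four] at h
  norm_num at h
  omega

theorem g2 {F : Type} [Field F] [Fintype F] (hF : Fintype.card F = 3) :
    Nat.card ↥(Lie.chevG2.group F) = 4245696 := by
  rw [S1059.result hF]; norm_num

theorem u4 {F : Type} [Field F] [Fintype F] (hF : Fintype.card F = 9) :
    Nat.card (PSU 4 F 3) = 3265920 := by
  have h := S0280.result (F := F) (q := 3) (by rw [hF]; norm_num) 4 (by norm_num)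
  rw [show Nat.gcd 4 (3 + 1) = 4 from rfl] at h
  simp only [Finset.prod_range_succ, Finset.prod_range_zero] at h
  rw [if_pos (by decide), if_neg (by decide), if_pos (by decide), if_neg (by decide)] at h
  norm_num at h
  omega

/-- the members of the `C_2` list with order not divisible by 8 are the groups `L₂(q)`. -/
theorem eight_dvd_or (h : IsCTwoListed K) : 8 ∣ Nat.card K ∨
    ∃ (F : Type) (_ : Field F) (_ : Fintype F), IsFM9 (Fintype.card F) ∧
      Nonempty (K ≃* Matrix.ProjectiveSpecialLinearGroup (Fin 2) F) := by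
  rcases h with h | ⟨F, _, _, hF, h | h | h⟩ | ⟨F, _, _, hF, ⟨e⟩⟩ | h | h | h | h | h | h | h | h | h | h |
    h | h | h | h | h | h | h | h | h
  · exact Or.inr h
  · obtain ⟨e⟩ := h; left; rw [Nat.card_congr e.toEquiv, psl3 hF]; norm_num
  · obtain ⟨e⟩ := h; left; rw [Nat.card_congr e.toEquiv, psl4 hF]; norm_num
  · obtain ⟨e⟩ := h; left; rw [Nat.card_congr e.toEquiv, g2 hF]; norm_num
  · left; rw [Nat.card_congr e.toEquiv, u4 hF]; norm_num
  · left; rw [m11 h]; norm_num
  · left; rw [m12 h]; norm_num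
  · left; rw [m22 h]; norm_num
  · left; rw [m23 h]; norm_num
  · left; rw [m24 h]; norm_num
  · left; rw [j2 h]; norm_num
  · left; rw [j3 h]; norm_num
  · left; rw [j4 h]; norm_num
  · left; rw [hs h]; norm_num
  · left; rw [suz h]; norm_num
  · left; rw [ru h]; norm_num
  · left; rw [co1 h]; norm_num
  · left; rw [co2 h]; norm_num
  · left; rw [fi22 h]; norm_num
  · left; rw [fi23 h]; norm_num
  · left; rw [fi24 h]; norm_num
  · left; rw [th h]; norm_num
  · left; rw [b h]; norm_num
  · left; rw [m h]; norm_num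

end Cfsg.Agent.EvenType.CTwoCard

private theorem dce_54ce8cc013fa : _root_.True := by
  try have : _root_.True := by simp only [_root_.Matrix.ProjectiveSpecialLinearGroup.congr_simp]
  exact _root_.True.intro
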