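import Cfsg.Prelude.Def_EvenType
set_option linter.all false

/-!
# Strongly `p`-embedded subgroups: `Γ_{P,1}(X) ≤ Y` versus the intersections `Y ∩ Yᵍ`

* `normIn` : in `IsStronglyPEmbedded p Y`, the normalizers of all non-trivial `p`-subgroups of `Y` lie in `Y`;
* `of_inter`, `inter` : `IsStronglyPEmbedded p Y` iff `Y` is proper of order divisible by `p` and
  `p ∤ |Y ∩ Yᵍ|` for all `g ∉ Y`.
-/

set_option autoImplicit false

namespace Cfsg.Agent.EvenType.StrongP

open Cfsg Subgroup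

variable {X : Type*} [Group X]

theorem mem_map_conj {Y : Subgroup X} {g x : X} :
    x ∈ Y.map (MulAut.conj g).toMonoidHom ↔ g⁻¹ * x * g ∈ Y := by
  constructor
  · rintro ⟨y, hy, rfl⟩
    have : g⁻¹ * (g * y * g⁻¹) * g = y := by group
    simpa [this] using hy
  · intro h
    exact ⟨g⁻¹ * x * g, h, by simp [mul_assoc]⟩

theorem mem_norm {Q : Subgroup X} {g : X} :
    g ∈ normalizer (Q : Set X) ↔ Q.map (MulAut.conj g).toMonoidHom = Q := by
  rw [mem_normalizer_iff]
  constructor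
  · intro h
    ext x
    rw [mem_map_conj]
    have := h (g⁻¹ * x * g)
    have e : g * (g⁻¹ * x * g) * g⁻¹ = x := by group
    rw [e] at this
    exact this
  · intro h x
    constructor
    · intro hx
      rw [← h]
      exact ⟨x, hx, rfl⟩
    · intro hx
      rw [← h, mem_map_conj] at hx
      have e : g⁻¹ * (g * x * g⁻¹) * g = x := by group
      rwa [e] at hx

theorem map_conj_mul (Q : Subgroup X) (a b : X) :
    Q.map (MulAut.conj (a * b)).toMonoidHom =
      (Q.map (MulAut.conj b).toMonoidHom).map (MulAut.conj a).toMonoidHom := by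
  ext x
  simp only [mem_map_conj]
  have e : (a * b)⁻¹ * x * (a * b) = b⁻¹ * (a⁻¹ * x * a) * b := by group
  rw [e]

theorem map_conj_one (Q : Subgroup X) : Q.map (MulAut.conj (1 : X)).toMonoidHom = Q := by
  ext x
  simp [mem_map_conj]

/-- The non-trivial `p`-subgroups are those of `p`-rank at least one. -/
theorem not_pRankLE_zero [Finite X] {p : ℕ} [hp : Fact p.Prime] {Q : Subgroup X} (hQ : IsPGroup p ↥Q) :
    ¬ PRankLE p (1 - 1) ↥Q ↔ Q ≠ ⊥ := by
  constructor
  · rintro h rfl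
    apply h
    intro A _ _
    have : Nat.card ↥A ≤ Nat.card ↥(⊥ : Subgroup X) := card_le_card_group A
    simpa using this
  · intro h hr
    have : Nontrivial ↥Q := (nontrivial_iff_ne_bot Q).2 h
    obtain ⟨x, hx⟩ : ∃ x : ↥Q, orderOf x = p := by
      apply exists_prime_orderOf_dvd_card'
      obtain ⟨n, hn⟩ := IsPGroup.iff_card.1 hQ
      have h1 : 1 < Nat.card ↥Q := Finite.one_lt_card
      rw [hn] at h1 ⊢
      cases n with
      | zero => simp at h1
      | succ n => exact Dvd.intro_left _ rfl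
    have h2 := hr (zpowers x) inferInstance (by
      rintro _ ⟨n, rfl⟩
      show (x ^ n) ^ p = 1
      rw [← zpow_natCast, ← zpow_mul, mul_comm, zpow_mul, zpow_natCast, ← hx, pow_orderOf_eq_one, one_zpow])
    rw [Nat.card_zpowers, hx] at h2
    have := hp.out.two_le
    simp at h2
    omega

theorem normalizer_le_core [Finite X] {p : ℕ} [hp : Fact p.Prime] {P Q : Subgroup X} (hP : IsPGroup p ↥P)
    (hQ : Q ≤ P) (h1 : Q ≠ ⊥) : normalizer (Q : Set X) ≤ kGeneratedCore p 1 P :=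
  le_iSup (fun Q : {Q : Subgroup X // Q ≤ P ∧ ¬ PRankLE p (1 - 1) Q} => normalizer ((Q : Subgroup X) : Set X))
    ⟨Q, hQ, (not_pRankLE_zero (hP.to_le hQ)).2 h1⟩

theorem core_le [Finite X] {p : ℕ} [hp : Fact p.Prime] {P Y : Subgroup X} (hP : IsPGroup p ↥P)
    (h : ∀ Q : Subgroup X, Q ≤ P → Q ≠ ⊥ → normalizer (Q : Set X) ≤ Y) : kGeneratedCore p 1 P ≤ Y :=
  iSup_le fun Q => h Q.1 Q.2.1 ((not_pRankLE_zero (hP.to_le Q.2.1)).1 Q.2.2)

section

variable [Finite X] {p : ℕ} [hp : Fact p.Prime]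

theorem sylow_ne_bot (h : p ∣ Nat.card X) (P : Sylow p X) : (P : Subgroup X) ≠ ⊥ := by
  have := P.dvd_card_of_dvd_card h
  rintro h0
  rw [h0] at this
  simp at this
  exact hp.out.one_lt.ne' this

/-- Two Sylow `p`-subgroups of `X` contained in `Y` are conjugate in `Y`. -/
theorem sylow_conj_in {Y : Subgroup X} (P Q : Sylow p X) (hP : (P : Subgroup X) ≤ Y)
    (hQ : (Q : Subgroup X) ≤ Y) :
    ∃ h ∈ Y, (P : Subgroup X).map (MulAut.conj h).toMonoidHom = (Q : Subgroup X) := by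
  obtain ⟨h, hh⟩ := MulAction.exists_smul_eq Y (P.subtype hP) (Q.subtype hQ)
  refine ⟨h, h.2, ?_⟩
  have h1 : ((h • P.subtype hP : Sylow p Y) : Subgroup Y) = ((Q.subtype hQ : Sylow p Y) : Subgroup Y) := by
    rw [hh]
  ext x
  rw [mem_map_conj]
  constructor
  · intro hx
    have hxY : x ∈ Y := by
      have := Y.mul_mem (Y.mul_mem h.2 (hP hx)) (Y.inv_mem h.2)
      have e : (h : X) * ((h : X)⁻¹ * x * h) * (h : X)⁻¹ = x := by group
      rwa [e] at this
    have h2 : (⟨x, hxY⟩ : Y) ∈ ((h • P.subtype hP : Sylow p Y) : Subgroup Y) := by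
      rw [Sylow.coe_subgroup_smul]
      refine ⟨⟨(h : X)⁻¹ * x * h, hP hx⟩, hx, ?_⟩
      ext
      simp [mul_assoc]
    rw [h1] at h2
    exact h2
  · intro hx
    have h2 : (⟨x, hQ hx⟩ : Y) ∈ ((Q.subtype hQ : Sylow p Y) : Subgroup Y) := hx
    rw [← h1, Sylow.coe_subgroup_smul] at h2
    obtain ⟨y, hy, hy'⟩ := h2
    have h3 : (h : X) * y * (h : X)⁻¹ = x := by
      have := congrArg Subtype.val hy'
      simpa using this
    have e : (h : X)⁻¹ * x * h = y := by rw [← h3]; group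
    rw [e]
    exact hy

/-- Every `p`-subgroup of `Y` is, up to `Y`-conjugacy, in a given Sylow `p`-subgroup of `X` contained in `Y`. -/
theorem exists_conj_le {Y : Subgroup X} (P : Sylow p X) (hP : (P : Subgroup X) ≤ Y) {Q : Subgroup X}
    (hQ : IsPGroup p ↥Q) (hQY : Q ≤ Y) :
    ∃ h ∈ Y, Q.map (MulAut.conj h).toMonoidHom ≤ (P : Subgroup X) := by
  have hQ' : IsPGroup p ↥(Q.subgroupOf Y) := hQ.comap_subtype
  obtain ⟨R, hR⟩ := hQ'.exists_le_sylow
  obtain ⟨h, hh⟩ := MulAction.exists_smul_eq Y R (P.subtype hP)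
  refine ⟨h, h.2, ?_⟩
  rintro _ ⟨x, hx, rfl⟩
  have h1 : (⟨x, hQY hx⟩ : Y) ∈ (R : Subgroup Y) := hR hx
  have h2 : h * (⟨x, hQY hx⟩ : Y) * h⁻¹ ∈ ((h • R : Sylow p Y) : Subgroup Y) := by
    rw [Sylow.coe_subgroup_smul]
    exact ⟨⟨x, hQY hx⟩, h1, rfl⟩
  rw [hh] at h2
  exact h2

theorem normalizer_map_conj (Q : Subgroup X) (g : X) :
    normalizer ((Q.map (MulAut.conj g).toMonoidHom : Subgroup X) : Set X) =
      (normalizer (Q : Set X)).map (MulAut.conj g).toMonoidHom := by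
  ext x
  rw [mem_map_conj, mem_norm, mem_norm, ← map_conj_mul, map_conj_mul, map_conj_mul, ← map_conj_mul, ← map_conj_mul]
  constructor
  · intro h
    have h1 := congrArg (fun S : Subgroup X => S.map (MulAut.conj g⁻¹).toMonoidHom) h
    simp only [← map_conj_mul] at h1
    have e : g⁻¹ * (x * g) = g⁻¹ * x * g := by group
    rw [e, inv_mul_cancel, map_conj_one] at h1
    exact h1
  · intro h
    have h1 := congrArg (fun S : Subgroup X => S.map (MulAut.conj g).toMonoidHom) h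
    simp only [← map_conj_mul] at h1
    have e : g * (g⁻¹ * x * g) = x * g := by group
    rw [e] at h1
    exact h1

/-- The normalizers of all non-trivial `p`-subgroups of `Y` lie in `Y`. -/
def NormIn (p : ℕ) (Y : Subgroup X) : Prop :=
  ∀ Q : Subgroup X, IsPGroup p ↥Q → Q ≤ Y → Q ≠ ⊥ → normalizer (Q : Set X) ≤ Y

theorem sylow_le {P : Sylow p X} {Y : Subgroup X} (h : p ∣ Nat.card X)
    (hP : kGeneratedCore p 1 (P : Subgroup X) ≤ Y) : (P : Subgroup X) ≤ Y :=
  (le_normalizer.trans (normalizer_le_core P.isPGroup' le_rfl (sylow_ne_bot h P))).trans hP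

theorem normIn_of_core {P : Sylow p X} {Y : Subgroup X} (h : p ∣ Nat.card X)
    (hP : kGeneratedCore p 1 (P : Subgroup X) ≤ Y) : NormIn p Y := by
  intro Q hQ hQY hQ1
  obtain ⟨g, hg, hle⟩ := exists_conj_le P (sylow_le h hP) hQ hQY
  have h1 : Q.map (MulAut.conj g).toMonoidHom ≠ ⊥ := by
    intro h0
    apply hQ1
    rw [Subgroup.map_eq_bot_iff_of_injective _ (MulAut.conj g).injective] at h0
    exact h0
  have h2 := (normalizer_le_core P.isPGroup' hle h1).trans hP
  rw [normalizer_map_conj] at h2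
  intro n hn
  have h3 : g * n * g⁻¹ ∈ Y := h2 ⟨n, hn, rfl⟩
  have h4 := Y.mul_mem (Y.mul_mem (Y.inv_mem hg) h3) hg
  have e : g⁻¹ * (g * n * g⁻¹) * g = n := by group
  rwa [e] at h4

theorem normIn {Y : Subgroup X} (h : IsStronglyPEmbedded p Y) : NormIn p Y := by
  obtain ⟨h1, _, P, hP⟩ := h
  exact normIn_of_core h1 hP

theorem dvd_card {Y : Subgroup X} (h : IsStronglyPEmbedded p Y) : p ∣ Nat.card ↥Y := by
  obtain ⟨h1, _, P, hP⟩ := h
  exact (P.dvd_card_of_dvd_card h1).trans (card_dvd_of_le (sylow_le h1 hP))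

theorem NormIn.conj {Y : Subgroup X} (h : NormIn p Y) (g : X) :
    NormIn p (Y.map (MulAut.conj g).toMonoidHom) := by
  intro Q hQ hQY hQ1
  have hle : Q.map (MulAut.conj g⁻¹).toMonoidHom ≤ Y := by
    intro x hx
    rw [mem_map_conj] at hx
    have := hQY hx
    rw [mem_map_conj] at this
    have e : g⁻¹ * (g⁻¹⁻¹ * x * g⁻¹) * g = x := by group
    rwa [e] at this
  have h1 : Q.map (MulAut.conj g⁻¹).toMonoidHom ≠ ⊥ := by
    intro h0
    apply hQ1
    rw [Subgroup.map_eq_bot_iff_of_injective _ (MulAut.conj g⁻¹).injective] at h0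
    exact h0
  have h2 := h _ (hQ.map _) hle h1
  rw [normalizer_map_conj] at h2
  intro n hn
  rw [mem_map_conj]
  apply h2
  rw [mem_map_conj]
  have e : g⁻¹⁻¹ * (g⁻¹ * n * g) * g⁻¹ = n := by group
  rw [e]
  exact hn

/-- A `p`-subgroup which is maximal among the `p`-subgroups of its normalizer is Sylow. -/
theorem isSylow_of_normalizer {Q : Subgroup X} (hQ : IsPGroup p ↥Q)
    (h : ∀ R : Subgroup X, IsPGroup p ↥R → Q ≤ R → R ≤ normalizer (Q : Set X) → R = Q) :
    ∃ P : Sylow p X, (P : Subgroup X) = Q := by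
  obtain ⟨P, hP⟩ := hQ.exists_le_sylow
  refine ⟨P, ?_⟩
  by_contra hne
  have : Group.IsNilpotent (P : Subgroup X) := P.isPGroup'.isNilpotent
  have hlt : Q.subgroupOf (P : Subgroup X) < ⊤ := by
    rw [lt_top_iff_ne_top]
    intro h'
    rw [subgroupOf_eq_top] at h'
    exact hne (le_antisymm h' hP)
  have hnc := Group.normalizerCondition_of_isNilpotent (G := (P : Subgroup X)) _ hlt
  have hR : IsPGroup p ↥((normalizer (Q.subgroupOf (P : Subgroup X) : Set (P : Subgroup X))).map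
      (P : Subgroup X).subtype) :=
    P.isPGroup'.to_le (map_subtype_le _)
  have hQR : Q ≤ (normalizer (Q.subgroupOf (P : Subgroup X) : Set (P : Subgroup X))).map
      (P : Subgroup X).subtype := by
    intro x hx
    exact ⟨⟨x, hP hx⟩, le_normalizer (by rw [mem_subgroupOf]; exact hx), rfl⟩
  have hRN : (normalizer (Q.subgroupOf (P : Subgroup X) : Set (P : Subgroup X))).map
      (P : Subgroup X).subtype ≤ normalizer (Q : Set X) := by
    rintro _ ⟨y, hy, rfl⟩
    rw [mem_normalizer_iff]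
    rw [SetLike.mem_coe, mem_normalizer_iff] at hy
    intro x
    constructor
    · intro hx
      have := (hy ⟨x, hP hx⟩).1 (by rw [mem_subgroupOf]; exact hx)
      simpa [mem_subgroupOf] using this
    · intro hx
      have hxP : x ∈ (P : Subgroup X) := by
        have h1 : (y : X) * x * (y : X)⁻¹ ∈ (P : Subgroup X) := hP hx
        have h2 := P.mul_mem (P.mul_mem (P.inv_mem y.2) h1) y.2
        have e : (y : X)⁻¹ * ((y : X) * x * (y : X)⁻¹) * (y : X) = x := by group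
        rwa [e] at h2
      have := (hy ⟨x, hxP⟩).2 (by rw [mem_subgroupOf]; exact hx)
      simpa [mem_subgroupOf] using this
  have heq := h _ hR hQR hRN
  apply (ne_of_lt hnc)
  ext y
  constructor
  · intro hy
    exact le_normalizer hy
  · intro hy
    rw [mem_subgroupOf, ← heq]
    exact ⟨y, hy, rfl⟩

/-- A Sylow `p`-subgroup of `Y`, seen in `X`, is Sylow in `X` when it is non-trivial and `NormIn p Y`. -/
theorem NormIn.sylow {Y : Subgroup X} (h : NormIn p Y) (hY : p ∣ Nat.card ↥Y) (S : Sylow p ↥Y) :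
    ∃ P : Sylow p X, (P : Subgroup X) = (S : Subgroup ↥Y).map Y.subtype := by
  have hS : IsPGroup p ↥((S : Subgroup ↥Y).map Y.subtype) := S.isPGroup'.map _
  have hS1 : (S : Subgroup ↥Y).map Y.subtype ≠ ⊥ := by
    intro h0
    rw [Subgroup.map_eq_bot_iff_of_injective _ Y.subtype_injective] at h0
    exact sylow_ne_bot hY S h0
  apply isSylow_of_normalizer hS
  intro R hR hSR hRN
  have hRY : R ≤ Y := hRN.trans (h _ hS (map_subtype_le _) hS1)
  have h1 : (S : Subgroup ↥Y) ≤ R.subgroupOf Y := by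
    intro x hx
    exact hSR ⟨x, hx, rfl⟩
  have h2 := S.is_maximal' (hR.comap_subtype : IsPGroup p ↥(R.subgroupOf Y)) h1
  have h3 : (R.subgroupOf Y).map Y.subtype = (S : Subgroup ↥Y).map Y.subtype := congrArg _ h2
  rw [subgroupOf_map_subtype, inf_eq_left.2 hRY] at h3
  exact h3

/-- `p ∤ |Y ∩ Yᵍ|` for `g ∉ Y`. -/
theorem NormIn.inter {Y : Subgroup X} (h : NormIn p Y) {g : X} (hg : g ∉ Y) :
    ¬ p ∣ Nat.card ↥(Y ⊓ Y.map (MulAut.conj g).toMonoidHom) := by
  intro hd
  set Z := Y ⊓ Y.map (MulAut.conj g).toMonoidHom with hZ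
  have hYg := h.conj g
  have hZN : NormIn p Z := by
    intro Q hQ hQZ hQ1
    exact le_inf (h Q hQ (hQZ.trans inf_le_left) hQ1) (hYg Q hQ (hQZ.trans inf_le_right) hQ1)
  obtain ⟨S⟩ : Nonempty (Sylow p ↥Z) := inferInstance
  obtain ⟨P, hP⟩ := hZN.sylow hd S
  have hPZ : (P : Subgroup X) ≤ Z := by rw [hP]; exact map_subtype_le _
  have hPY : (P : Subgroup X) ≤ Y := hPZ.trans inf_le_left
  have hPg : ((g⁻¹ • P : Sylow p X) : Subgroup X) ≤ Y := by
    rw [Sylow.coe_subgroup_smul]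
    rintro _ ⟨x, hx, rfl⟩
    have h1 := (hPZ.trans inf_le_right) hx
    rw [mem_map_conj] at h1
    simpa using h1
  obtain ⟨m, hm, hmP⟩ := sylow_conj_in (g⁻¹ • P) P hPg hPY
  rw [Sylow.coe_subgroup_smul] at hmP
  have h2 : m * g⁻¹ ∈ normalizer ((P : Subgroup X) : Set X) := by
    rw [mem_norm, map_conj_mul]
    exact hmP
  have hP1 : (P : Subgroup X) ≠ ⊥ := by
    apply sylow_ne_bot
    exact hd.trans (card_subgroup_dvd_card Z)
  have h3 := h _ P.isPGroup' hPY hP1 h2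
  have h4 := Y.mul_mem (Y.inv_mem hm) h3
  rw [inv_mul_cancel_left] at h4
  exact hg (by simpa using Y.inv_mem h4)

theorem inter {Y : Subgroup X} (h : IsStronglyPEmbedded p Y) {g : X} (hg : g ∉ Y) :
    ¬ p ∣ Nat.card ↥(Y ⊓ Y.map (MulAut.conj g).toMonoidHom) := (normIn h).inter hg

theorem normIn_of_inter {Y : Subgroup X}
    (h : ∀ g : X, g ∉ Y → ¬ p ∣ Nat.card ↥(Y ⊓ Y.map (MulAut.conj g).toMonoidHom)) : NormIn p Y := by
  intro Q hQ hQY hQ1 g hg
  by_contra hgY
  apply h g hgY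
  have h1 : Q ≤ Y ⊓ Y.map (MulAut.conj g).toMonoidHom := by
    refine le_inf hQY ?_
    rw [← mem_norm.1 hg]
    exact map_mono hQY
  refine dvd_trans ?_ (card_dvd_of_le h1)
  have : Nontrivial ↥Q := (nontrivial_iff_ne_bot Q).2 hQ1
  obtain ⟨n, hn⟩ := IsPGroup.iff_card.1 hQ
  have h2 : 1 < Nat.card ↥Q := Finite.one_lt_card
  rw [hn] at h2 ⊢
  cases n with
  | zero => simp at h2
  | succ n => exact Dvd.intro_left _ rfl

theorem of_normIn {Y : Subgroup X} (hY : p ∣ Nat.card ↥Y) (hYt : Y ≠ ⊤) (h : NormIn p Y) :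
    IsStronglyPEmbedded p Y := by
  refine ⟨hY.trans (card_subgroup_dvd_card Y), hYt, ?_⟩
  obtain ⟨S⟩ : Nonempty (Sylow p ↥Y) := inferInstance
  obtain ⟨P, hP⟩ := h.sylow hY S
  refine ⟨P, core_le P.isPGroup' fun Q hQ hQ1 => ?_⟩
  have hPY : (P : Subgroup X) ≤ Y := by rw [hP]; exact map_subtype_le _
  exact h Q (P.isPGroup'.to_le hQ) (hQ.trans hPY) hQ1

/-- `IsStronglyPEmbedded` from the intersections. -/
theorem of_inter {Y : Subgroup X} (hY : p ∣ Nat.card ↥Y) (hYt : Y ≠ ⊤)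
    (h : ∀ g : X, g ∉ Y → ¬ p ∣ Nat.card ↥(Y ⊓ Y.map (MulAut.conj g).toMonoidHom)) :
    IsStronglyPEmbedded p Y := of_normIn hY hYt (normIn_of_inter h)

theorem iff_inter {Y : Subgroup X} : IsStronglyPEmbedded p Y ↔
    p ∣ Nat.card ↥Y ∧ Y ≠ ⊤ ∧ ∀ g : X, g ∉ Y → ¬ p ∣ Nat.card ↥(Y ⊓ Y.map (MulAut.conj g).toMonoidHom) :=
  ⟨fun h => ⟨dvd_card h, h.2.1, fun _ hg => inter h hg⟩, fun h => of_inter h.1 h.2.1 h.2.2⟩

end

/-- For `p = 2`: the two notions of strong embedding agree. -/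
theorem two_iff [Finite X] {Y : Subgroup X} : IsStronglyPEmbedded 2 Y ↔ IsStronglyEmbedded Y := by
  have : Fact (Nat.Prime 2) := ⟨Nat.prime_two⟩
  rw [iff_inter]
  constructor
  · rintro ⟨h1, h2, h3⟩
    refine ⟨h2, even_iff_two_dvd.2 h1, fun g hg => ?_⟩
    rw [← Nat.not_even_iff_odd, even_iff_two_dvd]
    exact h3 g hg
  · rintro ⟨h1, h2, h3⟩
    refine ⟨even_iff_two_dvd.1 h2, h1, fun g hg => ?_⟩
    rw [← even_iff_two_dvd, Nat.not_even_iff_odd]
    exact h3 g hg

end Cfsg.Agent.EvenType.StrongP
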