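import Cfsg.Prelude.Def_EvenType
import Cfsg.Agent.KFacts.RgdLieCharP
import Cfsg.Agent.OddHalf.Small.U33
import Cfsg.Agent.OddHalf.Small.RankOne
import Cfsg.Agent.OddHalf.Small.Alt
import Cfsg.Agent.EvenType.ChevTwoTits
import Cfsg.Agent.EvenType.ChevTwoF4
import Cfsg.Agent.Prune
set_option linter.all false
prune_inst 0x7f00000000000000000000000000000000000000000000000000000000000000000000000000000000000000000000000000000000000000000000000000000000000000000000000000000000000000003fffffffffffffffffffffffffffbeffbdffffffff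

/-!
# The simple groups in `Chev(2)` are of characteristic 2 type
-/

set_option autoImplicit false

namespace Cfsg.Agent.EvenType.ChevTwo

open Subgroup Cfsg

/-- **The simple groups of Lie type in characteristic 2 (`IsChevSimple 2`) are of characteristic 2 type.** -/
theorem charTwo {G : Type*} [Group G] [Finite G] [IsSimpleGroup G] (hG : ¬ IsMulCommutative G)
    (h : IsChevSimple 2 G) : IsCharacteristicTwoType G := by
  have hc : ∃ a b : G, a * b ≠ b * a := by
    by_contra hcon
    push Not at hcon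
    exact hG ⟨⟨hcon⟩⟩
  have hfact : Fact (Nat.Prime 2) := ⟨Nat.prime_two⟩
  have filt : KFacts.RgdLieCharP.IsLieFilt 2 G → IsCharacteristicTwoType G := fun h1 =>
    (KFacts.RgdLieCharP.hasFilt_of_lie h1).charTwo hc
  rcases h with h | ⟨-, h⟩ | ⟨h, -⟩
  · rcases h with h | h | h | h | h | h | h | h | ⟨-, h⟩ | ⟨-, h⟩ | ⟨h, -⟩
    · exact filt (Or.inl h)
    · exact filt (Or.inr (Or.inl h))
    · exact filt (Or.inr (Or.inr (Or.inl h)))
    · exact filt (Or.inr (Or.inr (Or.inr (Or.inl h))))
    · exact filt (Or.inr (Or.inr (Or.inr (Or.inr (Or.inl h)))))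
    · exact filt (Or.inr (Or.inr (Or.inr (Or.inr (Or.inr (Or.inl h))))))
    · exact filt (Or.inr (Or.inr (Or.inr (Or.inr (Or.inr (Or.inr (Or.inl h)))))))
    · exact filt (Or.inr (Or.inr (Or.inr (Or.inr (Or.inr (Or.inr (Or.inr h)))))))
    · exact OddHalf.Small.RankOne.sz h
    · exact ChevTwoF4.charTwo h
    · exact absurd h (by norm_num)
  · rcases h with h | ⟨F, _, _, hF, ⟨e⟩⟩ | h
    · exact OddHalf.Small.Alt.result (n := 6) (Or.inr (Or.inl rfl)) h
    · exact OddHalf.Small.U33.charTwo hF e
    · exact ChevTwoTits.charTwo h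
  · exact absurd h (by norm_num)

end Cfsg.Agent.EvenType.ChevTwo
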