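import Cfsg.Prelude.Def_EvenType
import Cfsg.Agent.EvenType.StrongP
import Cfsg.Agent.S1790
import Cfsg.Agent.S1225
import Cfsg.Agent.FastGrp
import Cfsg.Agent.Prune
set_option linter.all false
prune_inst 0x7f00000000000000000000000000000000000000000000000000000000000000000000000000000000000000000000000000000000000000000000000000000000000000000000000000000000000000003fffffffffffffffffffffffffffbeffbdffffffff
open scoped Cfsg.Agent.FastGrp

/-!
# From a strongly embedded subgroup to a strongly `Z`-embedded maximal subgroup (K-proper simple groups)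

`isStronglyZEmbedded_of_strong`: a strongly embedded subgroup of a K-proper simple group is strongly
`Z`-embedded for the class `Z` of any of its 2-central involutions; `exists_maximal`: there is a maximal such one.
-/

set_option autoImplicit false

namespace Cfsg.Agent.EvenType.ZEmb

open Cfsg Subgroup

variable {G : Type*} [Group G] [Finite G]

/-- A proper subgroup containing a strongly embedded subgroup is strongly embedded. -/
theorem strong_of_le {H M : Subgroup G} (hH : IsStronglyPEmbedded 2 H) (hHM : H ≤ M) (hM : M ≠ ⊤) :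
    IsStronglyPEmbedded 2 M := by
  have : Fact (Nat.Prime 2) := ⟨Nat.prime_two⟩
  obtain ⟨h1, -, P, hP⟩ := hH
  exact ⟨h1, hM, P, hP.trans hHM⟩

/-- `M ∩ Mᵍ` contains no involution for `g ∉ M`. -/
theorem mem_of_inv {M : Subgroup G} (hM : IsStronglyPEmbedded 2 M) {t g : G} (ht : t ∈ M)
    (ht2 : orderOf t = 2) (hg : g * t * g⁻¹ ∈ M) : g ∈ M := by
  have : Fact (Nat.Prime 2) := ⟨Nat.prime_two⟩
  by_contra hgM
  apply StrongP.inter hM hgM
  have h1 : g * t * g⁻¹ ∈ M ⊓ M.map (MulAut.conj g).toMonoidHom := by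
    refine Subgroup.mem_inf.2 ⟨hg, t, ht, rfl⟩
  have h2 : orderOf (⟨g * t * g⁻¹, h1⟩ : ↥(M ⊓ M.map (MulAut.conj g).toMonoidHom)) = 2 := by
    rw [← Subgroup.orderOf_coe, ← ht2]
    exact orderOf_injective (MulAut.conj g).toMonoidHom (MulAut.conj g).injective t
  rw [← h2]
  exact orderOf_dvd_natCard _

theorem exists_involution {M : Subgroup G} (h : 2 ∣ Nat.card ↥M) : ∃ t ∈ M, orderOf t = 2 := by
  have : Fact (Nat.Prime 2) := ⟨Nat.prime_two⟩
  obtain ⟨t, ht⟩ := exists_prime_orderOf_dvd_card' (G := ↥M) 2 h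
  exact ⟨t, t.2, by rw [← ht]; exact Subgroup.orderOf_coe t⟩

/-- In a simple group, not every involution lies in a proper subgroup. -/
theorem exists_outside [IsSimpleGroup G] {H : Subgroup G} (hH : H ≠ ⊤) {t : G} (ht : orderOf t = 2) :
    ∃ u : G, orderOf u = 2 ∧ u ∉ H := by
  by_contra hcon
  push Not at hcon
  have hnc : Subgroup.normalClosure ({t} : Set G) = ⊤ := by
    rcases IsSimpleGroup.eq_bot_or_eq_top_of_normal (Subgroup.normalClosure ({t} : Set G))
      Subgroup.normalClosure_normal with h | h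
    · have : t ∈ Subgroup.normalClosure ({t} : Set G) := Subgroup.subset_normalClosure rfl
      rw [h, Subgroup.mem_bot] at this
      rw [this, orderOf_one] at ht
      omega
    · exact h
  apply hH
  rw [eq_top_iff, ← hnc]
  unfold Subgroup.normalClosure
  rw [Subgroup.closure_le]
  intro x hx
  obtain ⟨y, hy, hxy⟩ := Group.mem_conjugatesOfSet_iff.mp hx
  have hyz : y = t := hy
  rw [hyz] at hxy
  apply hcon
  obtain ⟨c, rfl⟩ := isConj_iff.mp hxy
  rw [← ht]
  exact orderOf_injective (MulAut.conj c).toMonoidHom (MulAut.conj c).injective t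

/-- All involutions of a simple group with a strongly embedded subgroup are conjugate. -/
theorem all_conj [IsSimpleGroup G] {M : Subgroup G} (hM : IsStronglyPEmbedded 2 M) (a b : G)
    (ha : orderOf a = 2) (hb : orderOf b = 2) : IsConj a b := by
  have : Fact (Nat.Prime 2) := ⟨Nat.prime_two⟩
  obtain ⟨t, htM, ht2⟩ := exists_involution (StrongP.dvd_card hM)
  obtain ⟨u, hu2, huM⟩ := exists_outside hM.2.1 ht2
  exact (Cfsg.Agent.S1225.result M (StrongP.two_iff.1 hM) u hu2 huM t t ht2 htM ht2 htM).2 a b ha hb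

/-- A strongly embedded subgroup of a K-proper simple group is strongly `Z`-embedded for the class of any
involution. -/
theorem isStronglyZEmbedded [IsSimpleGroup G] (hG : ¬ IsMulCommutative G) (hK : IsKProper G)
    {M : Subgroup G} (hM : IsStronglyPEmbedded 2 M) {z : G} (hz : orderOf z = 2) :
    IsStronglyZEmbedded (conjugatesOf z) M := by
  have : Fact (Nat.Prime 2) := ⟨Nat.prime_two⟩
  have hZ : conjugatesOf z = {t : G | orderOf t = 2} := by
    ext t
    constructor
    · intro h
      obtain ⟨c, rfl⟩ := isConj_iff.mp h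
      show orderOf (c * z * c⁻¹) = 2
      rw [← hz]
      exact orderOf_injective (MulAut.conj c).toMonoidHom (MulAut.conj c).injective z
    · intro h
      exact all_conj hM z t hz h
  rw [hZ]
  obtain ⟨t₀, ht₀M, ht₀⟩ := exists_involution (StrongP.dvd_card hM)
  refine ⟨hM.2.1, ⟨t₀, ht₀, ht₀M⟩, ?_, ?_, ?_⟩
  · intro t ht htM c hc
    rw [mem_centralizer_singleton_iff] at hc
    refine mem_of_inv hM htM ht ?_
    have : c * t * c⁻¹ = t := by rw [hc]; group
    rwa [this]
  · obtain ⟨T⟩ : Nonempty (Sylow 2 ↥M) := inferInstance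
    refine ⟨T, ?_⟩
    intro A g hA hgA
    have hTM : (T : Subgroup ↥M).map M.subtype ≤ M := map_subtype_le _
    by_cases hA1 : A ⊆ {1}
    · refine ⟨1, M.one_mem, ?_⟩
      apply Set.image_congr
      intro a ha
      have ha1 : a = 1 := hA1 ha
      rw [ha1]; group
    · obtain ⟨a, haA, ha1⟩ : ∃ a ∈ A, a ≠ 1 := by
        by_contra hcon
        push Not at hcon
        exact hA1 fun a ha => hcon a ha
      refine ⟨g, ?_, rfl⟩
      -- a nontrivial 2-element `a`, some power of which is an involution
      have haT := hA haA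
      have hTp : IsPGroup 2 ↥((T : Subgroup ↥M).map M.subtype) := T.isPGroup'.map _
      obtain ⟨k, hk⟩ := hTp ⟨a, haT⟩
      have hk' : a ^ 2 ^ k = 1 := congrArg Subtype.val hk
      obtain ⟨n, hn⟩ : ∃ n : ℕ, orderOf (a ^ n) = 2 := by
        have h1 : orderOf a ∣ 2 ^ k := orderOf_dvd_of_pow_eq_one hk'
        obtain ⟨m, -, hm⟩ := (Nat.dvd_prime_pow Nat.prime_two).1 h1
        have hm0 : m ≠ 0 := by
          rintro rfl
          rw [pow_zero, orderOf_eq_one_iff] at hm
          exact ha1 hm
        obtain ⟨m, rfl⟩ := Nat.exists_eq_succ_of_ne_zero hm0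
        refine ⟨2 ^ m, ?_⟩
        rw [orderOf_pow' a (by positivity), hm, Nat.succ_eq_add_one, pow_succ,
          Nat.gcd_eq_right (Dvd.intro _ rfl), Nat.mul_div_cancel_left _ (by positivity)]
      have hgT : g * a * g⁻¹ ∈ (T : Subgroup ↥M).map M.subtype := hgA ⟨a, haA, rfl⟩
      refine mem_of_inv hM (t := a ^ n) (pow_mem (hTM haT) n) hn ?_
      have : g * a ^ n * g⁻¹ = (g * a * g⁻¹) ^ n := by rw [conj_pow]
      rw [this]
      exact pow_mem (hTM hgT) n
  · intro H hH hne hHM
    obtain ⟨t, ht2, htHM⟩ := hne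
    have ht2' : orderOf t = 2 := ht2
    have heven : Even (Nat.card ↥(H ⊓ M)) := by
      have h2 : orderOf (⟨t, htHM⟩ : ↥(H ⊓ M)) = 2 := by
        rw [← Subgroup.orderOf_coe]; exact ht2'
      rw [even_iff_two_dvd, ← h2]
      exact orderOf_dvd_natCard _
    have hset : {t : G | orderOf t = 2} ∩ (H : Set G) = {h : G | h ∈ H ∧ orderOf h = 2} := by
      ext x
      exact ⟨fun h => ⟨h.2, h.1⟩, fun h => ⟨h.2, h.1⟩⟩
    rw [hset]
    exact Cfsg.Agent.S1790.result hG hK M hM H hH heven hHM

/-- A 2-central involution exists in a group of even order. -/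
theorem exists_twoCentral (h : 2 ∣ Nat.card G) : ∃ z : G, IsTwoCentralInvolution z := by
  have : Fact (Nat.Prime 2) := ⟨Nat.prime_two⟩
  obtain ⟨P⟩ : Nonempty (Sylow 2 G) := inferInstance
  have hP1 : Nontrivial (P : Subgroup G) := (nontrivial_iff_ne_bot _).2 (StrongP.sylow_ne_bot h P)
  have hZ : Nontrivial (center (P : Subgroup G)) := P.isPGroup'.center_nontrivial
  have hd : 2 ∣ Nat.card (center (P : Subgroup G)) := by
    have hp : IsPGroup 2 (center (P : Subgroup G)) := P.isPGroup'.to_subgroup _
    obtain ⟨n, hn⟩ := IsPGroup.iff_card.1 hp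
    have h1 : 1 < Nat.card (center (P : Subgroup G)) := Finite.one_lt_card
    rw [hn] at h1 ⊢
    cases n with
    | zero => simp at h1
    | succ n => exact Dvd.intro_left _ rfl
  obtain ⟨z, hz⟩ := exists_prime_orderOf_dvd_card' (G := center (P : Subgroup G)) 2 hd
  refine ⟨((z : (P : Subgroup G)) : G), ?_, P, (z : (P : Subgroup G)).2, ?_⟩
  · exact (Subgroup.orderOf_coe _).trans ((Subgroup.orderOf_coe _).trans hz)
  · intro x hx
    have := mem_center_iff.1 z.2 ⟨x, hx⟩
    exact congrArg Subtype.val this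

/-- **A K-proper simple group with a strongly embedded subgroup has a maximal subgroup which is strongly
`Z`-embedded for the class of a 2-central involution.** -/
theorem exists_maximal [IsSimpleGroup G] (hG : ¬ IsMulCommutative G) (hK : IsKProper G)
    {H : Subgroup G} (hH : IsStronglyEmbedded H) :
    ∃ (M : Subgroup G) (z : G), IsCoatom M ∧ IsTwoCentralInvolution z ∧
      IsStronglyZEmbedded (conjugatesOf z) M := by
  have hH' := StrongP.two_iff.2 hH
  obtain ⟨M, hM, hHM⟩ : ∃ M : Subgroup G, IsCoatom M ∧ H ≤ M := by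
    rcases eq_top_or_exists_le_coatom H with h | h
    · exact absurd h hH.1
    · exact h
  obtain ⟨z, hz⟩ := exists_twoCentral hH'.1
  exact ⟨M, z, hM, hz, isStronglyZEmbedded hG hK (strong_of_le hH' hHM hM.1) hz.1⟩

end Cfsg.Agent.EvenType.ZEmb
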